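import Cfsg.Agent.Lib.CharsMore.EMinDeg.Global
import Cfsg.Agent.Lib.Chars.Integral
import Cfsg.Agent.Lib.Chev.Orders

/-!
# Arithmetic lemmas and the group side of the final step
-/

set_option autoImplicit false
set_option linter.unusedSectionVars false

namespace CfsgLib.CharsMore.EMinDeg

open Cfsg.Lie CfsgLib.Chev Module

theorem pow_chain {q S a b : ℕ} (hq : 2 ≤ q) (hab : a ≤ b) (hS : S ≤ q ^ a) :
    S + q ^ b ≤ q ^ (b + 1) := by
  have h1 := hS.trans (Nat.pow_le_pow_right (by omega) hab)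
  calc S + q ^ b ≤ 2 * q ^ b := by omega
    _ ≤ q * q ^ b := Nat.mul_le_mul_right _ hq
    _ = q ^ (b + 1) := by rw [pow_succ']

/-- a Bezout identity bounds the common divisors -/
def Bez (kk : ℤ) (q : ℕ) (L d : ℕ) : Prop :=
  ∃ s t : ℤ, s * kk + t * ((q : ℤ) ^ d - 1) = L

theorem gcd_list_dvd {kk : ℤ} {q : ℕ} (hq : 1 ≤ q) : ∀ {L d : List ℕ},
    List.Forall₂ (Bez kk q) L d →
    Nat.gcd kk.natAbs ((d.map fun d => q ^ d - 1).prod) ∣ L.prod := by
  intro L d hL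
  induction hL with
  | nil => simp
  | @cons L₀ d₀ Ls ds hb _ ih =>
    rw [List.map_cons, List.prod_cons, List.prod_cons]
    refine (Nat.gcd_mul_right_dvd_mul_gcd _ _ _).trans (Nat.mul_dvd_mul ?_ ih)
    obtain ⟨s, t, he⟩ := hb
    have h1 : ((Nat.gcd kk.natAbs (q ^ d₀ - 1) : ℕ) : ℤ) ∣ kk :=
      Int.natCast_dvd.2 (Nat.gcd_dvd_left _ _)
    have h2 : ((Nat.gcd kk.natAbs (q ^ d₀ - 1) : ℕ) : ℤ) ∣ (q : ℤ) ^ d₀ - 1 := by
      have h3 := Int.natCast_dvd_natCast.2 (Nat.gcd_dvd_right kk.natAbs (q ^ d₀ - 1))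
      rwa [Nat.cast_sub (Nat.one_le_pow _ _ hq), Nat.cast_pow, Nat.cast_one] at h3
    exact Int.natCast_dvd_natCast.1 (he ▸ dvd_add (dvd_mul_of_dvd_right h1 s) (dvd_mul_of_dvd_right h2 t))

/-- the degree cannot be `T - j` -/
theorem no_dvd {q : ℕ} (hq : IsPrimePow q) (kk : ℤ) {g : ℤ} {j N T : ℕ} {L d : List ℕ}
    (he : ((T : ℤ) - j) = g * kk) (hj0 : 0 < j) (hjq : j < q)
    (hbig : ((j * L.prod : ℕ) : ℤ) < kk) (hLpos : 0 < j * L.prod) (hT : 0 < T) (hL : List.Forall₂ (Bez kk q) L d)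
    (hd : T - j ∣ q ^ N * (d.map fun d => q ^ d - 1).prod) (hqT : q ∣ T := by exact Dvd.dvd.mul_right (Dvd.dvd.mul_right (dvd_refl _) _) _) : False := by
  have hge : j ≤ T := hjq.le.trans (Nat.le_of_dvd hT hqT)
  have hk : ((T - j : ℕ) : ℤ) = g * kk := by rw [Nat.cast_sub hge, he]
  have hkk : kk.natAbs ∣ T - j := Int.natAbs_dvd_natAbs.2 (Dvd.intro_left g hk.symm) |>.trans
    (by rw [Int.natAbs_natCast])
  have h1 : kk.natAbs ∣ Nat.gcd kk.natAbs (q ^ N) * Nat.gcd kk.natAbs ((d.map fun d => q ^ d - 1).prod) :=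
    (Nat.dvd_gcd dvd_rfl (hkk.trans hd)).trans (Nat.gcd_mul_right_dvd_mul_gcd _ _ _)
  have hp : Nat.gcd kk.natAbs (q ^ N) ∣ j := by
    obtain ⟨p, a, hp, ha, rfl⟩ := hq
    replace hp := Nat.prime_iff.2 hp
    rw [← pow_mul] at h1 ⊢
    obtain ⟨i, -, hi⟩ := (Nat.dvd_prime_pow hp).1 (Nat.gcd_dvd_right kk.natAbs (p ^ (a * N)))
    have hdk : p ^ i ∣ T - j := hi ▸ ((Nat.gcd_dvd_left _ _).trans hkk)
    rw [hi]
    have hmin : p ^ min i a ∣ j := by
      have h5 : p ^ min i a ∣ T := (pow_dvd_pow p (min_le_right i a)).trans hqT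
      have h6 := Nat.dvd_sub h5 ((pow_dvd_pow p (min_le_left i a)).trans hdk)
      rwa [show T - (T - j) = j by omega] at h6
    rcases le_or_gt i a with hia | hia
    · rwa [min_eq_left hia] at hmin
    · rw [min_eq_right hia.le] at hmin
      exact absurd (Nat.le_of_dvd hj0 hmin) (by omega)
  have h2 : kk.natAbs ∣ j * L.prod := h1.trans (Nat.mul_dvd_mul hp (gcd_list_dvd (by omega) hL))
  have h3 := Nat.le_of_dvd hLpos h2
  omega

end CfsgLib.CharsMore.EMinDeg
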