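import Cfsg.Agent.Lib.CharsMore.EMinDeg.DataE6
import Cfsg.Agent.Lib.CharsMore.EMinDeg.Common

/-!
# The arithmetic for type E6
-/

set_option autoImplicit false
set_option maxRecDepth 100000
set_option maxHeartbeats 4000000

namespace CfsgLib.CharsMore.EMinDeg

theorem degsE6_0 : (stageE6_0.cls.map fun p => p.2.2.length) = [9, 8, 7, 7, 6, 6, 6, 5, 5, 5, 4, 4, 4, 3, 3, 3, 2, 2, 1, 0] := rfl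

theorem sumE6_0 (q : ℕ) : orbSum q stageE6_0 =
    ([9, 8, 7, 7, 6, 6, 6, 5, 5, 5, 4, 4, 4, 3, 3, 3, 2, 2, 1, 0].map fun d => (q - 1) * q ^ d).sum := by
  rw [orbSum, ← degsE6_0, List.map_map]
  rfl

theorem degsE6_1 : (stageE6_1.cls.map fun p => p.2.2.length) = [4, 3, 2, 1, 0] := rfl

theorem sumE6_1 (q : ℕ) : orbSum q stageE6_1 =
    ([4, 3, 2, 1, 0].map fun d => (q - 1) * q ^ d).sum := by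
  rw [orbSum, ← degsE6_1, List.map_map]
  rfl

theorem degsE6_2 : (stageE6_2.cls.map fun p => p.2.2.length) = [3, 2, 1, 0] := rfl

theorem sumE6_2 (q : ℕ) : orbSum q stageE6_2 =
    ([3, 2, 1, 0].map fun d => (q - 1) * q ^ d).sum := by
  rw [orbSum, ← degsE6_2, List.map_map]
  rfl

theorem degsE6_3 : (stageE6_3.cls.map fun p => p.2.2.length) = [2, 1, 0] := rfl

theorem sumE6_3 (q : ℕ) : orbSum q stageE6_3 =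
    ([2, 1, 0].map fun d => (q - 1) * q ^ d).sum := by
  rw [orbSum, ← degsE6_3, List.map_map]
  rfl

theorem degsE6_4 : (stageE6_4.cls.map fun p => p.2.2.length) = [1, 0] := rfl

theorem sumE6_4 (q : ℕ) : orbSum q stageE6_4 =
    ([1, 0].map fun d => (q - 1) * q ^ d).sum := by
  rw [orbSum, ← degsE6_4, List.map_map]
  rfl

theorem degsE6_5 : (stageE6_5.cls.map fun p => p.2.2.length) = [0] := rfl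

theorem sumE6_5 (q : ℕ) : orbSum q stageE6_5 =
    ([0].map fun d => (q - 1) * q ^ d).sum := by
  rw [orbSum, ← degsE6_5, List.map_map]
  rfl

theorem totE6_0 (q : ℕ) (hq : 2 ≤ q) : orbSums q [stageE6_0, stageE6_1, stageE6_2, stageE6_3, stageE6_4, stageE6_5] + 6 =
    q ^ 1 + q ^ 4 + q ^ 5 + q ^ 7 + q ^ 8 + q ^ 10 := by
  obtain ⟨x, rfl⟩ : ∃ x, q = x + 1 := ⟨q - 1, by omega⟩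
  simp only [orbSums, List.map_cons, List.map_nil, List.sum_cons, List.sum_nil, sumE6_0, sumE6_1, sumE6_2, sumE6_3, sumE6_4, sumE6_5, Nat.add_sub_cancel]
  ring

theorem leE6_0 (q : ℕ) (hq : 2 ≤ q) : orbSums q [stageE6_0, stageE6_1, stageE6_2, stageE6_3, stageE6_4, stageE6_5] ≤ q ^ 11 := by
  have ht := totE6_0 q hq
  have h0 : q ^ 1 ≤ q ^ 1 := le_rfl
  have h1 : q ^ 1 + q ^ 4 ≤ q ^ 5 := pow_chain hq (by norm_num) h0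
  have h2 : q ^ 1 + q ^ 4 + q ^ 5 ≤ q ^ 6 := pow_chain hq (by norm_num) h1
  have h3 : q ^ 1 + q ^ 4 + q ^ 5 + q ^ 7 ≤ q ^ 8 := pow_chain hq (by norm_num) h2
  have h4 : q ^ 1 + q ^ 4 + q ^ 5 + q ^ 7 + q ^ 8 ≤ q ^ 9 := pow_chain hq (by norm_num) h3
  have h5 : q ^ 1 + q ^ 4 + q ^ 5 + q ^ 7 + q ^ 8 + q ^ 10 ≤ q ^ 11 := pow_chain hq (by norm_num) h4
  omega

theorem totE6_1 (q : ℕ) (hq : 2 ≤ q) : orbSums q [stageE6_1, stageE6_2, stageE6_3, stageE6_4, stageE6_5] + 5 =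
    q ^ 1 + q ^ 2 + q ^ 3 + q ^ 4 + q ^ 5 := by
  obtain ⟨x, rfl⟩ : ∃ x, q = x + 1 := ⟨q - 1, by omega⟩
  simp only [orbSums, List.map_cons, List.map_nil, List.sum_cons, List.sum_nil, sumE6_1, sumE6_2, sumE6_3, sumE6_4, sumE6_5, Nat.add_sub_cancel]
  ring

theorem leE6_1 (q : ℕ) (hq : 2 ≤ q) : orbSums q [stageE6_1, stageE6_2, stageE6_3, stageE6_4, stageE6_5] ≤ q ^ 6 := by
  have ht := totE6_1 q hq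
  have h0 : q ^ 1 ≤ q ^ 1 := le_rfl
  have h1 : q ^ 1 + q ^ 2 ≤ q ^ 3 := pow_chain hq (by norm_num) h0
  have h2 : q ^ 1 + q ^ 2 + q ^ 3 ≤ q ^ 4 := pow_chain hq (by norm_num) h1
  have h3 : q ^ 1 + q ^ 2 + q ^ 3 + q ^ 4 ≤ q ^ 5 := pow_chain hq (by norm_num) h2
  have h4 : q ^ 1 + q ^ 2 + q ^ 3 + q ^ 4 + q ^ 5 ≤ q ^ 6 := pow_chain hq (by norm_num) h3
  omega

theorem totE6_2 (q : ℕ) (hq : 2 ≤ q) : orbSums q [stageE6_2, stageE6_3, stageE6_4, stageE6_5] + 4 =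
    q ^ 1 + q ^ 2 + q ^ 3 + q ^ 4 := by
  obtain ⟨x, rfl⟩ : ∃ x, q = x + 1 := ⟨q - 1, by omega⟩
  simp only [orbSums, List.map_cons, List.map_nil, List.sum_cons, List.sum_nil, sumE6_2, sumE6_3, sumE6_4, sumE6_5, Nat.add_sub_cancel]
  ring

theorem leE6_2 (q : ℕ) (hq : 2 ≤ q) : orbSums q [stageE6_2, stageE6_3, stageE6_4, stageE6_5] ≤ q ^ 5 := by
  have ht := totE6_2 q hq
  have h0 : q ^ 1 ≤ q ^ 1 := le_rfl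
  have h1 : q ^ 1 + q ^ 2 ≤ q ^ 3 := pow_chain hq (by norm_num) h0
  have h2 : q ^ 1 + q ^ 2 + q ^ 3 ≤ q ^ 4 := pow_chain hq (by norm_num) h1
  have h3 : q ^ 1 + q ^ 2 + q ^ 3 + q ^ 4 ≤ q ^ 5 := pow_chain hq (by norm_num) h2
  omega

theorem totE6_3 (q : ℕ) (hq : 2 ≤ q) : orbSums q [stageE6_3, stageE6_4, stageE6_5] + 3 =
    q ^ 1 + q ^ 2 + q ^ 3 := by
  obtain ⟨x, rfl⟩ : ∃ x, q = x + 1 := ⟨q - 1, by omega⟩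
  simp only [orbSums, List.map_cons, List.map_nil, List.sum_cons, List.sum_nil, sumE6_3, sumE6_4, sumE6_5, Nat.add_sub_cancel]
  ring

theorem leE6_3 (q : ℕ) (hq : 2 ≤ q) : orbSums q [stageE6_3, stageE6_4, stageE6_5] ≤ q ^ 4 := by
  have ht := totE6_3 q hq
  have h0 : q ^ 1 ≤ q ^ 1 := le_rfl
  have h1 : q ^ 1 + q ^ 2 ≤ q ^ 3 := pow_chain hq (by norm_num) h0
  have h2 : q ^ 1 + q ^ 2 + q ^ 3 ≤ q ^ 4 := pow_chain hq (by norm_num) h1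
  omega

theorem totE6_4 (q : ℕ) (hq : 2 ≤ q) : orbSums q [stageE6_4, stageE6_5] + 2 =
    q ^ 1 + q ^ 2 := by
  obtain ⟨x, rfl⟩ : ∃ x, q = x + 1 := ⟨q - 1, by omega⟩
  simp only [orbSums, List.map_cons, List.map_nil, List.sum_cons, List.sum_nil, sumE6_4, sumE6_5, Nat.add_sub_cancel]
  ring

theorem leE6_4 (q : ℕ) (hq : 2 ≤ q) : orbSums q [stageE6_4, stageE6_5] ≤ q ^ 3 := by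
  have ht := totE6_4 q hq
  have h0 : q ^ 1 ≤ q ^ 1 := le_rfl
  have h1 : q ^ 1 + q ^ 2 ≤ q ^ 3 := pow_chain hq (by norm_num) h0
  omega

theorem totE6_5 (q : ℕ) (hq : 2 ≤ q) : orbSums q [stageE6_5] + 1 =
    q ^ 1 := by
  obtain ⟨x, rfl⟩ : ∃ x, q = x + 1 := ⟨q - 1, by omega⟩
  simp only [orbSums, List.map_cons, List.map_nil, List.sum_cons, List.sum_nil, sumE6_5, Nat.add_sub_cancel]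
  ring

theorem leE6_5 (q : ℕ) (hq : 2 ≤ q) : orbSums q [stageE6_5] ≤ q ^ 1 := by
  have ht := totE6_5 q hq
  have h0 : q ^ 1 ≤ q ^ 1 := le_rfl
  omega

theorem suffixE6 (q : ℕ) (hq : 2 ≤ q) : SuffixOK q (certE6.first :: certE6.others) := by
  show SuffixOK q [stageE6_0, stageE6_1, stageE6_2, stageE6_3, stageE6_4, stageE6_5]
  simp only [SuffixOK, and_true]
  refine ⟨Or.inr ((leE6_0 q hq).trans (Nat.pow_le_pow_right (by omega) (by decide))), Or.inl rfl, Or.inl rfl, Or.inl rfl, Or.inl rfl, Or.inl rfl⟩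

theorem tailE6 (q : ℕ) (hq : 2 ≤ q) : orbSums q certE6.others ≤ (q - 1) * q ^ 10 := by
  refine le_trans ((leE6_1 q hq).trans (Nat.pow_le_pow_right (j := 10) (by omega) (by decide))) ?_
  exact Nat.le_mul_of_pos_left _ (by omega)

theorem targetE6 (q : ℕ) (hq : 2 ≤ q) : (q - 1) * q ^ 10 + orbSums q (certE6.first :: certE6.others) + 6 =
    q * (q ^ 6 + q ^ 3 + 1) * (q ^ 4 + 1) := by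
  show (q - 1) * q ^ 10 + orbSums q [stageE6_0, stageE6_1, stageE6_2, stageE6_3, stageE6_4, stageE6_5] + 6 = _
  rw [add_assoc, totE6_0 q hq]
  obtain ⟨x, rfl⟩ : ∃ x, q = x + 1 := ⟨q - 1, by omega⟩
  simp only [Nat.add_sub_cancel]
  ring

theorem exclE6_1 (q : ℕ) (hq : IsPrimePow q) :
    ¬ q * (q ^ 6 + q ^ 3 + 1) * (q ^ 4 + 1) - 1 ∣ q ^ 36 * ((q ^ 2 - 1) * (q ^ 5 - 1) * (q ^ 6 - 1) * (q ^ 8 - 1) * (q ^ 9 - 1) * (q ^ 12 - 1)) := by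
  intro hd
  have hq2 : 2 ≤ q := hq.two_le
  rcases Nat.lt_or_ge q 7 with hlt | hge
  · exact (by decide +kernel : ∀ q < 7, 2 ≤ q →
      ¬ q * (q ^ 6 + q ^ 3 + 1) * (q ^ 4 + 1) - 1 ∣ q ^ 36 * ((q ^ 2 - 1) * (q ^ 5 - 1) * (q ^ 6 - 1) * (q ^ 8 - 1) * (q ^ 9 - 1) * (q ^ 12 - 1))) q hlt hq2 hd
  refine no_dvd hq ((-1) + (1) * (q : ℤ) ^ 2 + (1) * (q : ℤ) ^ 3 + (1) * (q : ℤ) ^ 4 + (1) * (q : ℤ) ^ 5 + (1) * (q : ℤ) ^ 8 + (1) * (q : ℤ) ^ 9) (g := (1) + (-1) * (q : ℤ) ^ 1 + (1) * (q : ℤ) ^ 2) (j := 1) (N := 36) (T := q * (q ^ 6 + q ^ 3 + 1) * (q ^ 4 + 1))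
    (L := [5, 25, 40, 5, 10, 80]) (d := [2, 5, 6, 8, 9, 12]) ?_ (by norm_num) (by omega) ?_ (by norm_num) (by positivity) ?_ (by simpa [mul_assoc] using hd)
  · push_cast; ring
  · obtain ⟨x, rfl⟩ := Nat.exists_eq_add_of_le hge
    have e : ((-1) + (1) * ((7 + x : ℕ) : ℤ) ^ 2 + (1) * ((7 + x : ℕ) : ℤ) ^ 3 + (1) * ((7 + x : ℕ) : ℤ) ^ 4 + (1) * ((7 + x : ℕ) : ℤ) ^ 5 + (1) * ((7 + x : ℕ) : ℤ) ^ 8 + (1) * ((7 + x : ℕ) : ℤ) ^ 9) - 20000000 =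
        (26138007) + (58485091) * (x : ℤ) ^ 1 + (32945466) * (x : ℤ) ^ 2 + (10824227) * (x : ℤ) ^ 3 + (2285788) * (x : ℤ) ^ 4 + (321735) * (x : ℤ) ^ 5 + (30184) * (x : ℤ) ^ 6 + (1820) * (x : ℤ) ^ 7 + (64) * (x : ℤ) ^ 8 + (1) * (x : ℤ) ^ 9 := by push_cast; ring
    have h0 : (0 : ℤ) < (26138007) + (58485091) * (x : ℤ) ^ 1 + (32945466) * (x : ℤ) ^ 2 + (10824227) * (x : ℤ) ^ 3 + (2285788) * (x : ℤ) ^ 4 + (321735) * (x : ℤ) ^ 5 + (30184) * (x : ℤ) ^ 6 + (1820) * (x : ℤ) ^ 7 + (64) * (x : ℤ) ^ 8 + (1) * (x : ℤ) ^ 9 := by positivity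
    norm_num
    push_cast at e h0 ⊢
    linarith
  · exact (List.Forall₂.cons ⟨(-2) + (3) * (q : ℤ) ^ 1, (-3) + (-3) * (q : ℤ) ^ 1 + (-5) * (q : ℤ) ^ 2 + (-2) * (q : ℤ) ^ 3 + (-4) * (q : ℤ) ^ 4 + (-1) * (q : ℤ) ^ 5 + (-1) * (q : ℤ) ^ 6 + (-1) * (q : ℤ) ^ 7 + (-3) * (q : ℤ) ^ 8, by push_cast; ring⟩
      (List.Forall₂.cons ⟨(-14) + (16) * (q : ℤ) ^ 1 + (-4) * (q : ℤ) ^ 2 + (1) * (q : ℤ) ^ 3 + (6) * (q : ℤ) ^ 4, (-11) + (-16) * (q : ℤ) ^ 1 + (-10) * (q : ℤ) ^ 2 + (1) * (q : ℤ) ^ 3 + (-8) * (q : ℤ) ^ 4 + (-12) * (q : ℤ) ^ 5 + (3) * (q : ℤ) ^ 6 + (-7) * (q : ℤ) ^ 7 + (-6) * (q : ℤ) ^ 8, by push_cast; ring⟩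
      (List.Forall₂.cons ⟨(-12) + (13) * (q : ℤ) ^ 1 + (-7) * (q : ℤ) ^ 2 + (8) * (q : ℤ) ^ 3 + (3) * (q : ℤ) ^ 4 + (3) * (q : ℤ) ^ 5, (-28) + (-13) * (q : ℤ) ^ 1 + (-5) * (q : ℤ) ^ 2 + (-7) * (q : ℤ) ^ 3 + (-9) * (q : ℤ) ^ 4 + (-1) * (q : ℤ) ^ 5 + (-11) * (q : ℤ) ^ 6 + (-6) * (q : ℤ) ^ 7 + (-3) * (q : ℤ) ^ 8, by push_cast; ring⟩
      (List.Forall₂.cons ⟨(-3) + (2) * (q : ℤ) ^ 1 + (-3) * (q : ℤ) ^ 2 + (2) * (q : ℤ) ^ 3 + (2) * (q : ℤ) ^ 4 + (-3) * (q : ℤ) ^ 5 + (2) * (q : ℤ) ^ 6 + (2) * (q : ℤ) ^ 7, (-2) + (-2) * (q : ℤ) ^ 1 + (-3) * (q : ℤ) ^ 3 + (-6) * (q : ℤ) ^ 4 + (1) * (q : ℤ) ^ 5 + (1) * (q : ℤ) ^ 6 + (-4) * (q : ℤ) ^ 7 + (-2) * (q : ℤ) ^ 8, by push_cast; ring⟩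
      (List.Forall₂.cons ⟨(-7) + (8) * (q : ℤ) ^ 1 + (-7) * (q : ℤ) ^ 2 + (3) * (q : ℤ) ^ 3 + (-2) * (q : ℤ) ^ 4 + (3) * (q : ℤ) ^ 5 + (3) * (q : ℤ) ^ 6 + (-2) * (q : ℤ) ^ 7 + (3) * (q : ℤ) ^ 8, (-3) + (-8) * (q : ℤ) ^ 1 + (-2) * (q : ℤ) ^ 3 + (-4) * (q : ℤ) ^ 4 + (-6) * (q : ℤ) ^ 5 + (-1) * (q : ℤ) ^ 6 + (-1) * (q : ℤ) ^ 7 + (-3) * (q : ℤ) ^ 8, by push_cast; ring⟩
      (List.Forall₂.cons ⟨(-32) + (13) * (q : ℤ) ^ 1 + (-27) * (q : ℤ) ^ 2 + (28) * (q : ℤ) ^ 3 + (3) * (q : ℤ) ^ 4 + (-17) * (q : ℤ) ^ 5 + (8) * (q : ℤ) ^ 6 + (13) * (q : ℤ) ^ 7 + (13) * (q : ℤ) ^ 8 + (-12) * (q : ℤ) ^ 9 + (3) * (q : ℤ) ^ 10 + (23) * (q : ℤ) ^ 11, (-48) + (-13) * (q : ℤ) ^ 1 + (-5) * (q : ℤ) ^ 2 + (-47) * (q : ℤ) ^ 3 + (-49) * (q : ℤ) ^ 4 + (-1) * (q : ℤ) ^ 5 + (9)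 * (q : ℤ) ^ 6 + (-26) * (q : ℤ) ^ 7 + (-23) * (q : ℤ) ^ 8, by push_cast; ring⟩
      List.Forall₂.nil))))))

theorem exclE6_2 (q : ℕ) (hq : IsPrimePow q) (h2 : q ≠ 2) :
    ¬ q * (q ^ 6 + q ^ 3 + 1) * (q ^ 4 + 1) - 2 ∣ q ^ 36 * ((q ^ 2 - 1) * (q ^ 5 - 1) * (q ^ 6 - 1) * (q ^ 8 - 1) * (q ^ 9 - 1) * (q ^ 12 - 1)) := by
  intro hd
  have hq2 : 2 ≤ q := hq.two_le
  rcases Nat.lt_or_ge q 10 with hlt | hge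
  · exact (by decide +kernel : ∀ q < 10, 2 ≤ q → q ≠ 2 →
      ¬ q * (q ^ 6 + q ^ 3 + 1) * (q ^ 4 + 1) - 2 ∣ q ^ 36 * ((q ^ 2 - 1) * (q ^ 5 - 1) * (q ^ 6 - 1) * (q ^ 8 - 1) * (q ^ 9 - 1) * (q ^ 12 - 1))) q hlt hq2 h2 hd
  refine no_dvd hq ((-2) + (1) * (q : ℤ) ^ 1 + (2) * (q : ℤ) ^ 2 + (-1) * (q : ℤ) ^ 3 + (-1) * (q : ℤ) ^ 4 + (2) * (q : ℤ) ^ 5 + (1) * (q : ℤ) ^ 6 + (-1) * (q : ℤ) ^ 7 + (1) * (q : ℤ) ^ 9) (g := (1) + (1) * (q : ℤ) ^ 2) (j := 2) (N := 36) (T := q * (q ^ 6 + q ^ 3 + 1) * (q ^ 4 + 1))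
    (L := [2, 62, 10, 48, 10, 360]) (d := [2, 5, 6, 8, 9, 12]) ?_ (by norm_num) (by omega) ?_ (by norm_num) (by positivity) ?_ (by simpa [mul_assoc] using hd)
  · push_cast; ring
  · obtain ⟨x, rfl⟩ := Nat.exists_eq_add_of_le hge
    have e : ((-2) + (1) * ((10 + x : ℕ) : ℤ) ^ 1 + (2) * ((10 + x : ℕ) : ℤ) ^ 2 + (-1) * ((10 + x : ℕ) : ℤ) ^ 3 + (-1) * ((10 + x : ℕ) : ℤ) ^ 4 + (2) * ((10 + x : ℕ) : ℤ) ^ 5 + (1) * ((10 + x : ℕ) : ℤ) ^ 6 + (-1) * ((10 + x : ℕ) : ℤ) ^ 7 + (1) * ((10 + x : ℕ) : ℤ) ^ 9) - 428544000 =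
        (562645208) + (893695741) * (x : ℤ) ^ 1 + (358069372) * (x : ℤ) ^ 2 + (83671959) * (x : ℤ) ^ 3 + (12566599) * (x : ℤ) ^ 4 + (1257962) * (x : ℤ) ^ 5 + (83931) * (x : ℤ) ^ 6 + (3599) * (x : ℤ) ^ 7 + (90) * (x : ℤ) ^ 8 + (1) * (x : ℤ) ^ 9 := by push_cast; ring
    have h0 : (0 : ℤ) < (562645208) + (893695741) * (x : ℤ) ^ 1 + (358069372) * (x : ℤ) ^ 2 + (83671959) * (x : ℤ) ^ 3 + (12566599) * (x : ℤ) ^ 4 + (1257962) * (x : ℤ) ^ 5 + (83931) * (x : ℤ) ^ 6 + (3599) * (x : ℤ) ^ 7 + (90) * (x : ℤ) ^ 8 + (1) * (x : ℤ) ^ 9 := by positivity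
    norm_num
    push_cast at e h0 ⊢
    linarith
  · exact (List.Forall₂.cons ⟨(1) * (q : ℤ) ^ 1, (-2) + (-2) * (q : ℤ) ^ 1 + (-1) * (q : ℤ) ^ 2 + (-2) * (q : ℤ) ^ 4 + (-1) * (q : ℤ) ^ 5 + (-1) * (q : ℤ) ^ 8, by push_cast; ring⟩
      (List.Forall₂.cons ⟨(-5) + (13) * (q : ℤ) ^ 1 + (-9) * (q : ℤ) ^ 2 + (11) * (q : ℤ) ^ 3 + (21) * (q : ℤ) ^ 4, (-52) + (-31) * (q : ℤ) ^ 1 + (21) * (q : ℤ) ^ 2 + (-57) * (q : ℤ) ^ 4 + (-23) * (q : ℤ) ^ 5 + (30) * (q : ℤ) ^ 6 + (-11) * (q : ℤ) ^ 7 + (-21) * (q : ℤ) ^ 8, by push_cast; ring⟩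
      (List.Forall₂.cons ⟨(-2) + (-1) * (q : ℤ) ^ 1 + (-2) * (q : ℤ) ^ 2 + (3) * (q : ℤ) ^ 3 + (4) * (q : ℤ) ^ 4 + (3) * (q : ℤ) ^ 5, (-6) + (-1) * (q : ℤ) ^ 2 + (-8) * (q : ℤ) ^ 3 + (-6) * (q : ℤ) ^ 4 + (3) * (q : ℤ) ^ 5 + (-4) * (q : ℤ) ^ 7 + (-3) * (q : ℤ) ^ 8, by push_cast; ring⟩
      (List.Forall₂.cons ⟨(-13) + (5) * (q : ℤ) ^ 1 + (-11) * (q : ℤ) ^ 2 + (7) * (q : ℤ) ^ 3 + (11) * (q : ℤ) ^ 4 + (5) * (q : ℤ) ^ 5 + (13) * (q : ℤ) ^ 6 + (7) * (q : ℤ) ^ 7, (-22) + (-23) * (q : ℤ) ^ 1 + (1) * (q : ℤ) ^ 2 + (-2) * (q : ℤ) ^ 3 + (-29) * (q : ℤ) ^ 4 + (-5) * (q : ℤ) ^ 5 + (2) * (q : ℤ) ^ 6 + (-13) * (q : ℤ) ^ 7 + (-7) * (q : ℤ) ^ 8, by push_cast; ring⟩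
      (List.Forall₂.cons ⟨(-3) + (1) * (q : ℤ) ^ 1 + (-3) * (q : ℤ) ^ 2 + (2) * (q : ℤ) ^ 3 + (1) * (q : ℤ) ^ 4 + (2) * (q : ℤ) ^ 5 + (2) * (q : ℤ) ^ 6 + (1) * (q : ℤ) ^ 7 + (2) * (q : ℤ) ^ 8, (-4) + (-5) * (q : ℤ) ^ 1 + (1) * (q : ℤ) ^ 2 + (-2) * (q : ℤ) ^ 3 + (-4) * (q : ℤ) ^ 4 + (-3) * (q : ℤ) ^ 5 + (-1) * (q : ℤ) ^ 7 + (-2) * (q : ℤ) ^ 8, by push_cast; ring⟩
      (List.Forall₂.cons ⟨(-101) + (-23) * (q : ℤ) ^ 1 + (-91) * (q : ℤ) ^ 2 + (59) * (q : ℤ) ^ 3 + (67) * (q : ℤ) ^ 4 + (49) * (q : ℤ) ^ 5 + (29) * (q : ℤ) ^ 6 + (-13) * (q : ℤ) ^ 7 + (19) * (q : ℤ) ^ 8 + (49) * (q : ℤ) ^ 9 + (77) * (q : ℤ) ^ 10 + (59) * (q : ℤ) ^ 11, (-158) + (-55) * (q : ℤ) ^ 1 + (-43) * (q : ℤ) ^ 2 + (-154) * (q : ℤ) ^ 3 + (-133) * (q : ℤ) ^ 4 + (-1) * (q : ℤ) ^ 5 +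 (10) * (q : ℤ) ^ 6 + (-77) * (q : ℤ) ^ 7 + (-59) * (q : ℤ) ^ 8, by push_cast; ring⟩
      List.Forall₂.nil))))))

theorem exclE6_3 (q : ℕ) (hq : IsPrimePow q) :
    ¬ q * (q ^ 6 + q ^ 3 + 1) * (q ^ 4 + 1) - 3 ∣ q ^ 36 * ((q ^ 2 - 1) * (q ^ 5 - 1) * (q ^ 6 - 1) * (q ^ 8 - 1) * (q ^ 9 - 1) * (q ^ 12 - 1)) := by
  intro hd
  have hq2 : 2 ≤ q := hq.two_le
  rcases Nat.lt_or_ge q 9 with hlt | hge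
  · exact (by decide +kernel : ∀ q < 9, 2 ≤ q →
      ¬ q * (q ^ 6 + q ^ 3 + 1) * (q ^ 4 + 1) - 3 ∣ q ^ 36 * ((q ^ 2 - 1) * (q ^ 5 - 1) * (q ^ 6 - 1) * (q ^ 8 - 1) * (q ^ 9 - 1) * (q ^ 12 - 1))) q hlt hq2 hd
  refine no_dvd hq ((-3) + (1) * (q : ℤ) ^ 1 + (1) * (q : ℤ) ^ 4 + (1) * (q : ℤ) ^ 5 + (1) * (q : ℤ) ^ 7 + (1) * (q : ℤ) ^ 8 + (1) * (q : ℤ) ^ 11) (g := (1)) (j := 3) (N := 36) (T := q * (q ^ 6 + q ^ 3 + 1) * (q ^ 4 + 1))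
    (L := [15, 363, 30, 15, 18, 120]) (d := [2, 5, 6, 8, 9, 12]) ?_ (by norm_num) (by omega) ?_ (by norm_num) (by positivity) ?_ (by simpa [mul_assoc] using hd)
  · push_cast; ring
  · obtain ⟨x, rfl⟩ := Nat.exists_eq_add_of_le hge
    have e : ((-3) + (1) * ((9 + x : ℕ) : ℤ) ^ 1 + (1) * ((9 + x : ℕ) : ℤ) ^ 4 + (1) * ((9 + x : ℕ) : ℤ) ^ 5 + (1) * ((9 + x : ℕ) : ℤ) ^ 7 + (1) * ((9 + x : ℕ) : ℤ) ^ 8 + (1) * ((9 + x : ℕ) : ℤ) ^ 11) - 15877620000 =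
        (15551334915) + (38396647972) * (x : ℤ) ^ 1 + (21324255048) * (x : ℤ) ^ 2 + (7106246190) * (x : ℤ) ^ 3 + (1578864601) * (x : ℤ) ^ 4 + (245568268) * (x : ℤ) ^ 5 + (27282969) * (x : ℤ) ^ 6 + (2165203) * (x : ℤ) ^ 7 + (120286) * (x : ℤ) ^ 8 + (4455) * (x : ℤ) ^ 9 + (99) * (x : ℤ) ^ 10 + (1) * (x : ℤ) ^ 11 := by push_cast; ring
    have h0 : (0 : ℤ) < (15551334915) + (38396647972) * (x : ℤ) ^ 1 + (21324255048) * (x : ℤ) ^ 2 + (7106246190) * (x : ℤ) ^ 3 + (1578864601) * (x : ℤ) ^ 4 + (245568268) * (x : ℤ) ^ 5 + (27282969) * (x : ℤ) ^ 6 + (2165203) * (x : ℤ) ^ 7 + (120286) * (x : ℤ) ^ 8 + (4455) * (x : ℤ) ^ 9 + (99) * (x : ℤ) ^ 10 + (1) * (x : ℤ) ^ 11 := by positivity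
    norm_num
    push_cast at e h0 ⊢
    linarith
  · exact (List.Forall₂.cons ⟨(1) + (4) * (q : ℤ) ^ 1, (-18) + (-11) * (q : ℤ) ^ 1 + (-14) * (q : ℤ) ^ 2 + (-11) * (q : ℤ) ^ 3 + (-13) * (q : ℤ) ^ 4 + (-6) * (q : ℤ) ^ 5 + (-9) * (q : ℤ) ^ 6 + (-5) * (q : ℤ) ^ 7 + (-4) * (q : ℤ) ^ 8 + (-1) * (q : ℤ) ^ 9 + (-4) * (q : ℤ) ^ 10, by push_cast; ring⟩
      (List.Forall₂.cons ⟨(-61) + (20) * (q : ℤ) ^ 1 + (47) * (q : ℤ) ^ 2 + (56) * (q : ℤ) ^ 3 + (59) * (q : ℤ) ^ 4, (-180) + (-121) * (q : ℤ) ^ 1 + (-121) * (q : ℤ) ^ 2 + (-121) * (q : ℤ) ^ 3 + (-182) * (q : ℤ) ^ 4 + (-162) * (q : ℤ) ^ 5 + (-54) * (q : ℤ) ^ 6 + (-79) * (q : ℤ) ^ 7 + (-47) * (q : ℤ) ^ 8 + (-56) * (q : ℤ) ^ 9 + (-59) * (q : ℤ) ^ 10, by push_cast; ring⟩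
      (List.Forall₂.cons ⟨(-6) + (1) * (q : ℤ) ^ 1 + (4) * (q : ℤ) ^ 2 + (6) * (q : ℤ) ^ 3 + (4) * (q : ℤ) ^ 4 + (1) * (q : ℤ) ^ 5, (-12) + (-9) * (q : ℤ) ^ 1 + (-11) * (q : ℤ) ^ 2 + (-14) * (q : ℤ) ^ 3 + (-12) * (q : ℤ) ^ 4 + (-4) * (q : ℤ) ^ 5 + (-6) * (q : ℤ) ^ 6 + (-5) * (q : ℤ) ^ 7 + (-6) * (q : ℤ) ^ 8 + (-4) * (q : ℤ) ^ 9 + (-1) * (q : ℤ) ^ 10, by push_cast; ring⟩
      (List.Forall₂.cons ⟨(-6) + (1) * (q : ℤ) ^ 1 + (4) * (q : ℤ) ^ 2 + (1) * (q : ℤ) ^ 3 + (-1) * (q : ℤ) ^ 4 + (1) * (q : ℤ) ^ 5 + (4) * (q : ℤ) ^ 6 + (1) * (q : ℤ) ^ 7, (3) + (-9) * (q : ℤ) ^ 1 + (-11) * (q : ℤ) ^ 2 + (1) * (q : ℤ) ^ 3 + (-2) * (q : ℤ) ^ 4 + (-9) * (q : ℤ) ^ 5 + (-6) * (q : ℤ) ^ 6 + (-1) * (q : ℤ) ^ 8 + (-4) * (q : ℤ) ^ 9 + (-1) * (q : ℤ) ^ 10, by push_cast;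 ring⟩
      (List.Forall₂.cons ⟨(-4) + (1) * (q : ℤ) ^ 1 + (1) * (q : ℤ) ^ 2 + (2) * (q : ℤ) ^ 3 + (1) * (q : ℤ) ^ 4 + (1) * (q : ℤ) ^ 5 + (2) * (q : ℤ) ^ 6 + (1) * (q : ℤ) ^ 7 + (1) * (q : ℤ) ^ 8, (-6) + (-7) * (q : ℤ) ^ 1 + (-2) * (q : ℤ) ^ 2 + (-5) * (q : ℤ) ^ 3 + (-5) * (q : ℤ) ^ 4 + (-5) * (q : ℤ) ^ 5 + (-3) * (q : ℤ) ^ 6 + (-2) * (q : ℤ) ^ 7 + (-2) * (q : ℤ) ^ 8 + (-1) * (q : ℤ) ^ 9 + (-1) * (q : ℤ) ^ 10, by push_cast; ring⟩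
      (List.Forall₂.cons ⟨(-42) + (2) * (q : ℤ) ^ 1 + (23) * (q : ℤ) ^ 2 + (12) * (q : ℤ) ^ 3 + (-7) * (q : ℤ) ^ 4 + (2) * (q : ℤ) ^ 5 + (18) * (q : ℤ) ^ 6 + (2) * (q : ℤ) ^ 7 + (-7) * (q : ℤ) ^ 8 + (12) * (q : ℤ) ^ 9 + (23) * (q : ℤ) ^ 10 + (2) * (q : ℤ) ^ 11, (6) + (-48) * (q : ℤ) ^ 1 + (-67) * (q : ℤ) ^ 2 + (-13) * (q : ℤ) ^ 3 + (-9) * (q : ℤ) ^ 4 + (-53) * (q : ℤ) ^ 5 + (-27) * (q : ℤ) ^ 6 + (5) * (q : ℤ) ^ 7 + (-12) * (q : ℤ) ^ 8 + (-23) * (q : ℤ) ^ 9 + (-2) * (q : ℤ) ^ 10, by push_cast; ring⟩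
      List.Forall₂.nil))))))

theorem exclE6_4 (q : ℕ) (hq : IsPrimePow q) (h4 : q ≠ 4) :
    ¬ q * (q ^ 6 + q ^ 3 + 1) * (q ^ 4 + 1) - 4 ∣ q ^ 36 * ((q ^ 2 - 1) * (q ^ 5 - 1) * (q ^ 6 - 1) * (q ^ 8 - 1) * (q ^ 9 - 1) * (q ^ 12 - 1)) := by
  intro hd
  have hq2 : 2 ≤ q := hq.two_le
  rcases Nat.lt_or_ge q 13 with hlt | hge
  · exact (by decide +kernel : ∀ q < 13, 2 ≤ q → q ≠ 4 →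
      ¬ q * (q ^ 6 + q ^ 3 + 1) * (q ^ 4 + 1) - 4 ∣ q ^ 36 * ((q ^ 2 - 1) * (q ^ 5 - 1) * (q ^ 6 - 1) * (q ^ 8 - 1) * (q ^ 9 - 1) * (q ^ 12 - 1))) q hlt hq2 h4 hd
  refine no_dvd hq ((-4) + (1) * (q : ℤ) ^ 1 + (1) * (q : ℤ) ^ 4 + (1) * (q : ℤ) ^ 5 + (1) * (q : ℤ) ^ 7 + (1) * (q : ℤ) ^ 8 + (1) * (q : ℤ) ^ 11) (g := (1)) (j := 4) (N := 36) (T := q * (q ^ 6 + q ^ 3 + 1) * (q ^ 4 + 1))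
    (L := [6, 682, 126, 24, 28, 630]) (d := [2, 5, 6, 8, 9, 12]) ?_ (by norm_num) (by omega) ?_ (by norm_num) (by positivity) ?_ (by simpa [mul_assoc] using hd)
  · push_cast; ring
  · obtain ⟨x, rfl⟩ := Nat.exists_eq_add_of_le hge
    have e : ((-4) + (1) * ((13 + x : ℕ) : ℤ) ^ 1 + (1) * ((13 + x : ℕ) : ℤ) ^ 4 + (1) * ((13 + x : ℕ) : ℤ) ^ 5 + (1) * ((13 + x : ℕ) : ℤ) ^ 7 + (1) * ((13 + x : ℕ) : ℤ) ^ 8 + (1) * ((13 + x : ℕ) : ℤ) ^ 11) - 873124116480 =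
        (919915156658) + (1516979337732) * (x : ℤ) ^ 1 + (583390436304) * (x : ℤ) ^ 2 + (134617362750) * (x : ℤ) ^ 3 + (20709086841) * (x : ℤ) ^ 4 + (2230112340) * (x : ℤ) ^ 5 + (171542189) * (x : ℤ) ^ 6 + (9425235) * (x : ℤ) ^ 7 + (362506) * (x : ℤ) ^ 8 + (9295) * (x : ℤ) ^ 9 + (143) * (x : ℤ) ^ 10 + (1) * (x : ℤ) ^ 11 := by push_cast; ring
    have h0 : (0 : ℤ) < (919915156658) + (1516979337732) * (x : ℤ) ^ 1 + (583390436304) * (x : ℤ) ^ 2 + (134617362750) * (x : ℤ) ^ 3 + (20709086841) * (x : ℤ) ^ 4 + (2230112340) * (x : ℤ) ^ 5 + (171542189) * (x : ℤ) ^ 6 + (9425235) * (x : ℤ) ^ 7 + (362506) * (x : ℤ) ^ 8 + (9295) * (x : ℤ) ^ 9 + (143) * (x : ℤ) ^ 10 + (1) * (x : ℤ) ^ 11 := by positivity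
    norm_num
    push_cast at e h0 ⊢
    linarith
  · exact (List.Forall₂.cons ⟨(1) + (2) * (q : ℤ) ^ 1, (-10) + (-7) * (q : ℤ) ^ 1 + (-8) * (q : ℤ) ^ 2 + (-7) * (q : ℤ) ^ 3 + (-7) * (q : ℤ) ^ 4 + (-4) * (q : ℤ) ^ 5 + (-5) * (q : ℤ) ^ 6 + (-3) * (q : ℤ) ^ 7 + (-2) * (q : ℤ) ^ 8 + (-1) * (q : ℤ) ^ 9 + (-2) * (q : ℤ) ^ 10, by push_cast; ring⟩
      (List.Forall₂.cons ⟨(-57) + (71) * (q : ℤ) ^ 1 + (103) * (q : ℤ) ^ 2 + (111) * (q : ℤ) ^ 3 + (113) * (q : ℤ) ^ 4, (-454) + (-341) * (q : ℤ) ^ 1 + (-341) * (q : ℤ) ^ 2 + (-341) * (q : ℤ) ^ 3 + (-398) * (q : ℤ) ^ 4 + (-327) * (q : ℤ) ^ 5 + (-167) * (q : ℤ) ^ 6 + (-184) * (q : ℤ) ^ 7 + (-103) * (q : ℤ) ^ 8 + (-111) * (q : ℤ) ^ 9 + (-113) * (q : ℤ) ^ 10, by push_cast; ring⟩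
      (List.Forall₂.cons ⟨(-13) + (10) * (q : ℤ) ^ 1 + (17) * (q : ℤ) ^ 2 + (22) * (q : ℤ) ^ 3 + (17) * (q : ℤ) ^ 4 + (10) * (q : ℤ) ^ 5, (-74) + (-53) * (q : ℤ) ^ 1 + (-58) * (q : ℤ) ^ 2 + (-71) * (q : ℤ) ^ 3 + (-59) * (q : ℤ) ^ 4 + (-26) * (q : ℤ) ^ 5 + (-37) * (q : ℤ) ^ 6 + (-27) * (q : ℤ) ^ 7 + (-22) * (q : ℤ) ^ 8 + (-17) * (q : ℤ) ^ 9 + (-10) * (q : ℤ) ^ 10, by push_cast; ring⟩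
      (List.Forall₂.cons ⟨(-5) + (2) * (q : ℤ) ^ 1 + (4) * (q : ℤ) ^ 2 + (2) * (q : ℤ) ^ 3 + (1) * (q : ℤ) ^ 4 + (2) * (q : ℤ) ^ 5 + (4) * (q : ℤ) ^ 6 + (2) * (q : ℤ) ^ 7, (-4) + (-13) * (q : ℤ) ^ 1 + (-14) * (q : ℤ) ^ 2 + (-4) * (q : ℤ) ^ 3 + (-7) * (q : ℤ) ^ 4 + (-10) * (q : ℤ) ^ 5 + (-8) * (q : ℤ) ^ 6 + (-3) * (q : ℤ) ^ 7 + (-2) * (q : ℤ) ^ 8 + (-4) * (q : ℤ) ^ 9 + (-2) * (q : ℤ) ^ 10, by push_cast; ring⟩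
      (List.Forall₂.cons ⟨(-4) + (2) * (q : ℤ) ^ 1 + (2) * (q : ℤ) ^ 2 + (3) * (q : ℤ) ^ 3 + (2) * (q : ℤ) ^ 4 + (2) * (q : ℤ) ^ 5 + (3) * (q : ℤ) ^ 6 + (2) * (q : ℤ) ^ 7 + (2) * (q : ℤ) ^ 8, (-12) + (-12) * (q : ℤ) ^ 1 + (-6) * (q : ℤ) ^ 2 + (-10) * (q : ℤ) ^ 3 + (-9) * (q : ℤ) ^ 4 + (-8) * (q : ℤ) ^ 5 + (-6) * (q : ℤ) ^ 6 + (-4) * (q : ℤ) ^ 7 + (-3) * (q : ℤ) ^ 8 + (-2) * (q : ℤ) ^ 9 + (-2) * (q : ℤ) ^ 10, by push_cast; ring⟩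
      (List.Forall₂.cons ⟨(-127) + (25) * (q : ℤ) ^ 1 + (74) * (q : ℤ) ^ 2 + (55) * (q : ℤ) ^ 3 + (11) * (q : ℤ) ^ 4 + (25) * (q : ℤ) ^ 5 + (62) * (q : ℤ) ^ 6 + (25) * (q : ℤ) ^ 7 + (11) * (q : ℤ) ^ 8 + (55) * (q : ℤ) ^ 9 + (74) * (q : ℤ) ^ 10 + (25) * (q : ℤ) ^ 11, (-122) + (-227) * (q : ℤ) ^ 1 + (-271) * (q : ℤ) ^ 2 + (-146) * (q : ℤ) ^ 3 + (-116) * (q : ℤ) ^ 4 + (-191) * (q : ℤ) ^ 5 + (-124) * (q : ℤ) ^ 6 + (-36) * (q : ℤ) ^ 7 + (-55) * (q : ℤ) ^ 8 + (-74) * (q : ℤ) ^ 9 + (-25) * (q : ℤ) ^ 10, by push_cast; ring⟩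
      List.Forall₂.nil))))))

theorem exclE6_5 (q : ℕ) (hq : IsPrimePow q) :
    ¬ q * (q ^ 6 + q ^ 3 + 1) * (q ^ 4 + 1) - 5 ∣ q ^ 36 * ((q ^ 2 - 1) * (q ^ 5 - 1) * (q ^ 6 - 1) * (q ^ 8 - 1) * (q ^ 9 - 1) * (q ^ 12 - 1)) := by
  intro hd
  have hq2 : 2 ≤ q := hq.two_le
  rcases Nat.lt_or_ge q 17 with hlt | hge
  · exact (by decide +kernel : ∀ q < 17, 2 ≤ q →
      ¬ q * (q ^ 6 + q ^ 3 + 1) * (q ^ 4 + 1) - 5 ∣ q ^ 36 * ((q ^ 2 - 1) * (q ^ 5 - 1) * (q ^ 6 - 1) * (q ^ 8 - 1) * (q ^ 9 - 1) * (q ^ 12 - 1))) q hlt hq2 hd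
  refine no_dvd hq ((-5) + (1) * (q : ℤ) ^ 1 + (1) * (q : ℤ) ^ 4 + (1) * (q : ℤ) ^ 5 + (1) * (q : ℤ) ^ 7 + (1) * (q : ℤ) ^ 8 + (1) * (q : ℤ) ^ 11) (g := (1)) (j := 5) (N := 36) (T := q * (q ^ 6 + q ^ 3 + 1) * (q ^ 4 + 1))
    (L := [7, 781, 112, 105, 40, 2016]) (d := [2, 5, 6, 8, 9, 12]) ?_ (by norm_num) (by omega) ?_ (by norm_num) (by positivity) ?_ (by simpa [mul_assoc] using hd)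
  · push_cast; ring
  · obtain ⟨x, rfl⟩ := Nat.exists_eq_add_of_le hge
    have e : ((-5) + (1) * ((17 + x : ℕ) : ℤ) ^ 1 + (1) * ((17 + x : ℕ) : ℤ) ^ 4 + (1) * ((17 + x : ℕ) : ℤ) ^ 5 + (1) * ((17 + x : ℕ) : ℤ) ^ 7 + (1) * ((17 + x : ℕ) : ℤ) ^ 8 + (1) * ((17 + x : ℕ) : ℤ) ^ 11) - 25922502144000 =
        (8356781763137) + (22179385014564) * (x : ℤ) ^ 1 + (6523038927128) * (x : ℤ) ^ 2 + (1151082415950) * (x : ℤ) ^ 3 + (135417780601) * (x : ℤ) ^ 4 + (11151838076) * (x : ℤ) ^ 5 + (655982145) * (x : ℤ) ^ 6 + (27562067) * (x : ℤ) ^ 7 + (810646) * (x : ℤ) ^ 8 + (15895) * (x : ℤ) ^ 9 + (187) * (x : ℤ) ^ 10 + (1) * (x : ℤ) ^ 11 := by push_cast; ring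
    have h0 : (0 : ℤ) < (8356781763137) + (22179385014564) * (x : ℤ) ^ 1 + (6523038927128) * (x : ℤ) ^ 2 + (1151082415950) * (x : ℤ) ^ 3 + (135417780601) * (x : ℤ) ^ 4 + (11151838076) * (x : ℤ) ^ 5 + (655982145) * (x : ℤ) ^ 6 + (27562067) * (x : ℤ) ^ 7 + (810646) * (x : ℤ) ^ 8 + (15895) * (x : ℤ) ^ 9 + (187) * (x : ℤ) ^ 10 + (1) * (x : ℤ) ^ 11 := by positivity
    norm_num
    push_cast at e h0 ⊢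
    linarith
  · exact (List.Forall₂.cons ⟨(3) + (4) * (q : ℤ) ^ 1, (-22) + (-17) * (q : ℤ) ^ 1 + (-18) * (q : ℤ) ^ 2 + (-17) * (q : ℤ) ^ 3 + (-15) * (q : ℤ) ^ 4 + (-10) * (q : ℤ) ^ 5 + (-11) * (q : ℤ) ^ 6 + (-7) * (q : ℤ) ^ 7 + (-4) * (q : ℤ) ^ 8 + (-3) * (q : ℤ) ^ 9 + (-4) * (q : ℤ) ^ 10, by push_cast; ring⟩
      (List.Forall₂.cons ⟨(39) + (164) * (q : ℤ) ^ 1 + (189) * (q : ℤ) ^ 2 + (194) * (q : ℤ) ^ 3 + (195) * (q : ℤ) ^ 4, (-976) + (-781) * (q : ℤ) ^ 1 + (-781) * (q : ℤ) ^ 2 + (-781) * (q : ℤ) ^ 3 + (-742) * (q : ℤ) ^ 4 + (-578) * (q : ℤ) ^ 5 + (-428) * (q : ℤ) ^ 6 + (-359) * (q : ℤ) ^ 7 + (-189) * (q : ℤ) ^ 8 + (-194) * (q : ℤ) ^ 9 + (-195) * (q : ℤ) ^ 10, by push_cast; ring⟩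
      (List.Forall₂.cons ⟨(2) + (19) * (q : ℤ) ^ 1 + (23) * (q : ℤ) ^ 2 + (26) * (q : ℤ) ^ 3 + (23) * (q : ℤ) ^ 4 + (19) * (q : ℤ) ^ 5, (-122) + (-93) * (q : ℤ) ^ 1 + (-96) * (q : ℤ) ^ 2 + (-107) * (q : ℤ) ^ 3 + (-87) * (q : ℤ) ^ 4 + (-51) * (q : ℤ) ^ 5 + (-61) * (q : ℤ) ^ 6 + (-42) * (q : ℤ) ^ 7 + (-26) * (q : ℤ) ^ 8 + (-23) * (q : ℤ) ^ 9 + (-19) * (q : ℤ) ^ 10, by push_cast; ring⟩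
      (List.Forall₂.cons ⟨(-8) + (15) * (q : ℤ) ^ 1 + (20) * (q : ℤ) ^ 2 + (15) * (q : ℤ) ^ 3 + (13) * (q : ℤ) ^ 4 + (15) * (q : ℤ) ^ 5 + (20) * (q : ℤ) ^ 6 + (15) * (q : ℤ) ^ 7, (-65) + (-83) * (q : ℤ) ^ 1 + (-85) * (q : ℤ) ^ 2 + (-55) * (q : ℤ) ^ 3 + (-58) * (q : ℤ) ^ 4 + (-55) * (q : ℤ) ^ 5 + (-50) * (q : ℤ) ^ 6 + (-28) * (q : ℤ) ^ 7 + (-15) * (q : ℤ) ^ 8 + (-20) * (q : ℤ) ^ 9 + (-15) * (q : ℤ) ^ 10, by push_cast; ring⟩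
      (List.Forall₂.cons ⟨(-2) + (5) * (q : ℤ) ^ 1 + (5) * (q : ℤ) ^ 2 + (6) * (q : ℤ) ^ 3 + (5) * (q : ℤ) ^ 4 + (5) * (q : ℤ) ^ 5 + (6) * (q : ℤ) ^ 6 + (5) * (q : ℤ) ^ 7 + (5) * (q : ℤ) ^ 8, (-30) + (-27) * (q : ℤ) ^ 1 + (-20) * (q : ℤ) ^ 2 + (-25) * (q : ℤ) ^ 3 + (-21) * (q : ℤ) ^ 4 + (-17) * (q : ℤ) ^ 5 + (-15) * (q : ℤ) ^ 6 + (-10) * (q : ℤ) ^ 7 + (-6) * (q : ℤ) ^ 8 + (-5) * (q : ℤ) ^ 9 + (-5) * (q : ℤ) ^ 10, by push_cast; ring⟩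
      (List.Forall₂.cons ⟨(-206) + (171) * (q : ℤ) ^ 1 + (263) * (q : ℤ) ^ 2 + (234) * (q : ℤ) ^ 3 + (151) * (q : ℤ) ^ 4 + (171) * (q : ℤ) ^ 5 + (242) * (q : ℤ) ^ 6 + (171) * (q : ℤ) ^ 7 + (151) * (q : ℤ) ^ 8 + (234) * (q : ℤ) ^ 9 + (263) * (q : ℤ) ^ 10 + (171) * (q : ℤ) ^ 11, (-986) + (-1061) * (q : ℤ) ^ 1 + (-1144) * (q : ℤ) ^ 2 + (-907) * (q : ℤ) ^ 3 + (-727) * (q : ℤ) ^ 4 + (-739) * (q : ℤ) ^ 5 + (-605) * (q : ℤ) ^ 6 + (-322) * (q : ℤ) ^ 7 + (-234) * (q : ℤ) ^ 8 + (-263) * (q : ℤ) ^ 9 + (-171) * (q : ℤ) ^ 10, by push_cast; ring⟩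
      List.Forall₂.nil))))))

theorem exclE6_6 (q : ℕ) (hq : IsPrimePow q) :
    ¬ q * (q ^ 6 + q ^ 3 + 1) * (q ^ 4 + 1) - 6 ∣ q ^ 36 * ((q ^ 2 - 1) * (q ^ 5 - 1) * (q ^ 6 - 1) * (q ^ 8 - 1) * (q ^ 9 - 1) * (q ^ 12 - 1)) := by
  intro hd
  have hq2 : 2 ≤ q := hq.two_le
  rcases Nat.lt_or_ge q 59 with hlt | hge
  · exact (by decide +kernel : ∀ q < 59, 2 ≤ q →
      ¬ q * (q ^ 6 + q ^ 3 + 1) * (q ^ 4 + 1) - 6 ∣ q ^ 36 * ((q ^ 2 - 1) * (q ^ 5 - 1) * (q ^ 6 - 1) * (q ^ 8 - 1) * (q ^ 9 - 1) * (q ^ 12 - 1))) q hlt hq2 hd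
  refine no_dvd hq ((6) + (5) * (q : ℤ) ^ 1 + (5) * (q : ℤ) ^ 2 + (5) * (q : ℤ) ^ 3 + (4) * (q : ℤ) ^ 4 + (3) * (q : ℤ) ^ 5 + (3) * (q : ℤ) ^ 6 + (2) * (q : ℤ) ^ 7 + (1) * (q : ℤ) ^ 8 + (1) * (q : ℤ) ^ 9 + (1) * (q : ℤ) ^ 10) (g := (-1) + (1) * (q : ℤ) ^ 1) (j := 6) (N := 36) (T := q * (q ^ 6 + q ^ 3 + 1) * (q ^ 4 + 1))
    (L := [36, 11196, 540, 144, 324, 7560]) (d := [2, 5, 6, 8, 9, 12]) ?_ (by norm_num) (by omega) ?_ (by norm_num) (by positivity) ?_ (by simpa [mul_assoc] using hd)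
  · push_cast; ring
  · obtain ⟨x, rfl⟩ := Nat.exists_eq_add_of_le hge
    have e : ((6) + (5) * ((59 + x : ℕ) : ℤ) ^ 1 + (5) * ((59 + x : ℕ) : ℤ) ^ 2 + (5) * ((59 + x : ℕ) : ℤ) ^ 3 + (4) * ((59 + x : ℕ) : ℤ) ^ 4 + (3) * ((59 + x : ℕ) : ℤ) ^ 5 + (3) * ((59 + x : ℕ) : ℤ) ^ 6 + (2) * ((59 + x : ℕ) : ℤ) ^ 7 + (1) * ((59 + x : ℕ) : ℤ) ^ 8 + (1) * ((59 + x : ℕ) : ℤ) ^ 9 + (1) * ((59 + x : ℕ) : ℤ) ^ 10) - 460616720139878400 =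
        (59314965455879764) + (87971944918074476) * (x : ℤ) ^ 1 + (6698172778937484) * (x : ℤ) ^ 2 + (302222239408257) * (x : ℤ) ^ 3 + (8948855275618) * (x : ℤ) ^ 4 + (181699359325) * (x : ℤ) ^ 5 + (2561995943) * (x : ℤ) ^ 6 + (24771270) * (x : ℤ) ^ 7 + (157177) * (x : ℤ) ^ 8 + (591) * (x : ℤ) ^ 9 + (1) * (x : ℤ) ^ 10 := by push_cast; ring
    have h0 : (0 : ℤ) < (59314965455879764) + (87971944918074476) * (x : ℤ) ^ 1 + (6698172778937484) * (x : ℤ) ^ 2 + (302222239408257) * (x : ℤ) ^ 3 + (8948855275618) * (x : ℤ) ^ 4 + (181699359325) * (x : ℤ) ^ 5 + (2561995943) * (x : ℤ) ^ 6 + (24771270) * (x : ℤ) ^ 7 + (157177) * (x : ℤ) ^ 8 + (591) * (x : ℤ) ^ 9 + (1) * (x : ℤ) ^ 10 := by positivity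
    norm_num
    push_cast at e h0 ⊢
    linarith
  · exact (List.Forall₂.cons ⟨(5) + (-4) * (q : ℤ) ^ 1, (-6) + (1) * (q : ℤ) ^ 1 + (-1) * (q : ℤ) ^ 2 + (6) * (q : ℤ) ^ 3 + (-1) * (q : ℤ) ^ 4 + (5) * (q : ℤ) ^ 5 + (2) * (q : ℤ) ^ 6 + (3) * (q : ℤ) ^ 7 + (-1) * (q : ℤ) ^ 8 + (4) * (q : ℤ) ^ 9, by push_cast; ring⟩
      (List.Forall₂.cons ⟨(1927) + (-1493) * (q : ℤ) ^ 1 + (-197) * (q : ℤ) ^ 2 + (19) * (q : ℤ) ^ 3 + (55) * (q : ℤ) ^ 4, (366) + (677) * (q : ℤ) ^ 1 + (988) * (q : ℤ) ^ 2 + (1299) * (q : ℤ) ^ 3 + (-317) * (q : ℤ) ^ 4 + (-440) * (q : ℤ) ^ 5 + (1561) * (q : ℤ) ^ 6 + (123) * (q : ℤ) ^ 7 + (-74) * (q : ℤ) ^ 8 + (-55) * (q : ℤ) ^ 9, by push_cast; ring⟩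
      (List.Forall₂.cons ⟨(73) + (-68) * (q : ℤ) ^ 1 + (-11) * (q : ℤ) ^ 2 + (-8) * (q : ℤ) ^ 3 + (13) * (q : ℤ) ^ 4 + (16) * (q : ℤ) ^ 5, (-102) + (-43) * (q : ℤ) ^ 1 + (-41) * (q : ℤ) ^ 2 + (-78) * (q : ℤ) ^ 3 + (-65) * (q : ℤ) ^ 4 + (13) * (q : ℤ) ^ 5 + (-26) * (q : ℤ) ^ 6 + (-21) * (q : ℤ) ^ 7 + (-29) * (q : ℤ) ^ 8 + (-16) * (q : ℤ) ^ 9, by push_cast; ring⟩
      (List.Forall₂.cons ⟨(26) + (-25) * (q : ℤ) ^ 1 + (-4) * (q : ℤ) ^ 2 + (5) * (q : ℤ) ^ 3 + (2) * (q : ℤ) ^ 4 + (-1) * (q : ℤ) ^ 5 + (-4) * (q : ℤ) ^ 6 + (5) * (q : ℤ) ^ 7, (12) + (-20) * (q : ℤ) ^ 1 + (-19) * (q : ℤ) ^ 2 + (15) * (q : ℤ) ^ 3 + (-4) * (q : ℤ) ^ 4 + (-13) * (q : ℤ) ^ 5 + (-7) * (q : ℤ) ^ 6 + (-1) * (q : ℤ) ^ 8 + (-5) * (q : ℤ) ^ 9, by push_cast; ring⟩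
      (List.Forall₂.cons ⟨(49) + (-47) * (q : ℤ) ^ 1 + (1) * (q : ℤ) ^ 2 + (-5) * (q : ℤ) ^ 3 + (7) * (q : ℤ) ^ 4 + (1) * (q : ℤ) ^ 5 + (-5) * (q : ℤ) ^ 6 + (7) * (q : ℤ) ^ 7 + (1) * (q : ℤ) ^ 8, (-30) + (-37) * (q : ℤ) ^ 1 + (16) * (q : ℤ) ^ 2 + (-15) * (q : ℤ) ^ 3 + (-17) * (q : ℤ) ^ 4 + (-20) * (q : ℤ) ^ 5 + (-5) * (q : ℤ) ^ 6 + (-3) * (q : ℤ) ^ 7 + (-8) * (q : ℤ) ^ 8 + (-1) * (q : ℤ) ^ 9, by push_cast; ring⟩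
      (List.Forall₂.cons ⟨(1186) + (-1151) * (q : ℤ) ^ 1 + (-212) * (q : ℤ) ^ 2 + (79) * (q : ℤ) ^ 3 + (226) * (q : ℤ) ^ 4 + (-23) * (q : ℤ) ^ 5 + (-164) * (q : ℤ) ^ 6 + (199) * (q : ℤ) ^ 7 + (58) * (q : ℤ) ^ 8 + (-191) * (q : ℤ) ^ 9 + (-44) * (q : ℤ) ^ 10 + (247) * (q : ℤ) ^ 11, (-444) + (-976) * (q : ℤ) ^ 1 + (-1097) * (q : ℤ) ^ 2 + (-411) * (q : ℤ) ^ 3 + (-320) * (q : ℤ) ^ 4 + (-719) * (q : ℤ) ^ 5 + (-317) * (q : ℤ) ^ 6 + (-12) * (q : ℤ) ^ 7 + (-203) * (q : ℤ) ^ 8 + (-247) * (q : ℤ) ^ 9, by push_cast; ring⟩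
      List.Forall₂.nil))))))

end CfsgLib.CharsMore.EMinDeg
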