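import Cfsg.Agent.Lib.CharsMore.EMinDeg.DataE8
import Cfsg.Agent.Lib.CharsMore.EMinDeg.Common

/-!
# The arithmetic for type E8
-/

set_option autoImplicit false
set_option maxRecDepth 100000
set_option maxHeartbeats 4000000

namespace CfsgLib.CharsMore.EMinDeg

theorem degsE8_0 : (stageE8_0.cls.map fun p => p.2.2.length) = [27, 26, 25, 24, 23, 22, 22, 21, 21, 20, 20, 19, 19, 18, 18, 18, 17, 17, 17, 16, 16, 16, 15, 15, 15, 14, 14, 14, 13, 13, 13, 12, 12, 12, 11, 11, 11, 10, 10, 10, 9, 9, 9, 8, 8, 7, 7, 6, 6, 5, 5, 4, 3, 2, 1, 0] := rfl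

theorem sumE8_0 (q : ℕ) : orbSum q stageE8_0 =
    ([27, 26, 25, 24, 23, 22, 22, 21, 21, 20, 20, 19, 19, 18, 18, 18, 17, 17, 17, 16, 16, 16, 15, 15, 15, 14, 14, 14, 13, 13, 13, 12, 12, 12, 11, 11, 11, 10, 10, 10, 9, 9, 9, 8, 8, 7, 7, 6, 6, 5, 5, 4, 3, 2, 1, 0].map fun d => (q - 1) * q ^ d).sum := by
  rw [orbSum, ← degsE8_0, List.map_map]
  rfl

theorem degsE8_1 : (stageE8_1.cls.map fun p => p.2.2.length) = [16, 15, 14, 13, 12, 12, 11, 11, 10, 10, 9, 9, 8, 8, 8, 7, 7, 6, 6, 5, 5, 4, 4, 3, 2, 1, 0] := rfl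

theorem sumE8_1 (q : ℕ) : orbSum q stageE8_1 =
    ([16, 15, 14, 13, 12, 12, 11, 11, 10, 10, 9, 9, 8, 8, 8, 7, 7, 6, 6, 5, 5, 4, 4, 3, 2, 1, 0].map fun d => (q - 1) * q ^ d).sum := by
  rw [orbSum, ← degsE8_1, List.map_map]
  rfl

theorem degsE8_2 : (stageE8_2.cls.map fun p => p.2.2.length) = [10, 9, 8, 7, 7, 6, 6, 5, 5, 4, 4, 3, 3, 2, 1, 0] := rfl

theorem sumE8_2 (q : ℕ) : orbSum q stageE8_2 =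
    ([10, 9, 8, 7, 7, 6, 6, 5, 5, 4, 4, 3, 3, 2, 1, 0].map fun d => (q - 1) * q ^ d).sum := by
  rw [orbSum, ← degsE8_2, List.map_map]
  rfl

theorem degsE8_3 : (stageE8_3.cls.map fun p => p.2.2.length) = [6, 5, 4, 4, 3, 3, 2, 2, 1, 0] := rfl

theorem sumE8_3 (q : ℕ) : orbSum q stageE8_3 =
    ([6, 5, 4, 4, 3, 3, 2, 2, 1, 0].map fun d => (q - 1) * q ^ d).sum := by
  rw [orbSum, ← degsE8_3, List.map_map]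
  rfl

theorem degsE8_4 : (stageE8_4.cls.map fun p => p.2.2.length) = [3, 2, 1, 0] := rfl

theorem sumE8_4 (q : ℕ) : orbSum q stageE8_4 =
    ([3, 2, 1, 0].map fun d => (q - 1) * q ^ d).sum := by
  rw [orbSum, ← degsE8_4, List.map_map]
  rfl

theorem degsE8_5 : (stageE8_5.cls.map fun p => p.2.2.length) = [2, 1, 0] := rfl

theorem sumE8_5 (q : ℕ) : orbSum q stageE8_5 =
    ([2, 1, 0].map fun d => (q - 1) * q ^ d).sum := by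
  rw [orbSum, ← degsE8_5, List.map_map]
  rfl

theorem degsE8_6 : (stageE8_6.cls.map fun p => p.2.2.length) = [1, 0] := rfl

theorem sumE8_6 (q : ℕ) : orbSum q stageE8_6 =
    ([1, 0].map fun d => (q - 1) * q ^ d).sum := by
  rw [orbSum, ← degsE8_6, List.map_map]
  rfl

theorem degsE8_7 : (stageE8_7.cls.map fun p => p.2.2.length) = [0] := rfl

theorem sumE8_7 (q : ℕ) : orbSum q stageE8_7 =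
    ([0].map fun d => (q - 1) * q ^ d).sum := by
  rw [orbSum, ← degsE8_7, List.map_map]
  rfl

theorem totE8_0 (q : ℕ) (hq : 2 ≤ q) : orbSums q [stageE8_0, stageE8_1, stageE8_2, stageE8_3, stageE8_4, stageE8_5, stageE8_6, stageE8_7] + 8 =
    q ^ 1 + q ^ 7 + q ^ 11 + q ^ 13 + q ^ 17 + q ^ 19 + q ^ 23 + q ^ 28 := by
  obtain ⟨x, rfl⟩ : ∃ x, q = x + 1 := ⟨q - 1, by omega⟩
  simp only [orbSums, List.map_cons, List.map_nil, List.sum_cons, List.sum_nil, sumE8_0, sumE8_1, sumE8_2, sumE8_3, sumE8_4, sumE8_5, sumE8_6, sumE8_7, Nat.add_sub_cancel]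
  ring

theorem leE8_0 (q : ℕ) (hq : 2 ≤ q) : orbSums q [stageE8_0, stageE8_1, stageE8_2, stageE8_3, stageE8_4, stageE8_5, stageE8_6, stageE8_7] ≤ q ^ 29 := by
  have ht := totE8_0 q hq
  have h0 : q ^ 1 ≤ q ^ 1 := le_rfl
  have h1 : q ^ 1 + q ^ 7 ≤ q ^ 8 := pow_chain hq (by norm_num) h0
  have h2 : q ^ 1 + q ^ 7 + q ^ 11 ≤ q ^ 12 := pow_chain hq (by norm_num) h1
  have h3 : q ^ 1 + q ^ 7 + q ^ 11 + q ^ 13 ≤ q ^ 14 := pow_chain hq (by norm_num) h2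
  have h4 : q ^ 1 + q ^ 7 + q ^ 11 + q ^ 13 + q ^ 17 ≤ q ^ 18 := pow_chain hq (by norm_num) h3
  have h5 : q ^ 1 + q ^ 7 + q ^ 11 + q ^ 13 + q ^ 17 + q ^ 19 ≤ q ^ 20 := pow_chain hq (by norm_num) h4
  have h6 : q ^ 1 + q ^ 7 + q ^ 11 + q ^ 13 + q ^ 17 + q ^ 19 + q ^ 23 ≤ q ^ 24 := pow_chain hq (by norm_num) h5
  have h7 : q ^ 1 + q ^ 7 + q ^ 11 + q ^ 13 + q ^ 17 + q ^ 19 + q ^ 23 + q ^ 28 ≤ q ^ 29 := pow_chain hq (by norm_num) h6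
  omega

theorem totE8_1 (q : ℕ) (hq : 2 ≤ q) : orbSums q [stageE8_1, stageE8_2, stageE8_3, stageE8_4, stageE8_5, stageE8_6, stageE8_7] + 7 =
    q ^ 1 + q ^ 5 + q ^ 7 + q ^ 9 + q ^ 11 + q ^ 13 + q ^ 17 := by
  obtain ⟨x, rfl⟩ : ∃ x, q = x + 1 := ⟨q - 1, by omega⟩
  simp only [orbSums, List.map_cons, List.map_nil, List.sum_cons, List.sum_nil, sumE8_1, sumE8_2, sumE8_3, sumE8_4, sumE8_5, sumE8_6, sumE8_7, Nat.add_sub_cancel]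
  ring

theorem leE8_1 (q : ℕ) (hq : 2 ≤ q) : orbSums q [stageE8_1, stageE8_2, stageE8_3, stageE8_4, stageE8_5, stageE8_6, stageE8_7] ≤ q ^ 18 := by
  have ht := totE8_1 q hq
  have h0 : q ^ 1 ≤ q ^ 1 := le_rfl
  have h1 : q ^ 1 + q ^ 5 ≤ q ^ 6 := pow_chain hq (by norm_num) h0
  have h2 : q ^ 1 + q ^ 5 + q ^ 7 ≤ q ^ 8 := pow_chain hq (by norm_num) h1
  have h3 : q ^ 1 + q ^ 5 + q ^ 7 + q ^ 9 ≤ q ^ 10 := pow_chain hq (by norm_num) h2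
  have h4 : q ^ 1 + q ^ 5 + q ^ 7 + q ^ 9 + q ^ 11 ≤ q ^ 12 := pow_chain hq (by norm_num) h3
  have h5 : q ^ 1 + q ^ 5 + q ^ 7 + q ^ 9 + q ^ 11 + q ^ 13 ≤ q ^ 14 := pow_chain hq (by norm_num) h4
  have h6 : q ^ 1 + q ^ 5 + q ^ 7 + q ^ 9 + q ^ 11 + q ^ 13 + q ^ 17 ≤ q ^ 18 := pow_chain hq (by norm_num) h5
  omega

theorem totE8_2 (q : ℕ) (hq : 2 ≤ q) : orbSums q [stageE8_2, stageE8_3, stageE8_4, stageE8_5, stageE8_6, stageE8_7] + 6 =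
    q ^ 1 + q ^ 4 + q ^ 5 + q ^ 7 + q ^ 8 + q ^ 11 := by
  obtain ⟨x, rfl⟩ : ∃ x, q = x + 1 := ⟨q - 1, by omega⟩
  simp only [orbSums, List.map_cons, List.map_nil, List.sum_cons, List.sum_nil, sumE8_2, sumE8_3, sumE8_4, sumE8_5, sumE8_6, sumE8_7, Nat.add_sub_cancel]
  ring

theorem leE8_2 (q : ℕ) (hq : 2 ≤ q) : orbSums q [stageE8_2, stageE8_3, stageE8_4, stageE8_5, stageE8_6, stageE8_7] ≤ q ^ 12 := by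
  have ht := totE8_2 q hq
  have h0 : q ^ 1 ≤ q ^ 1 := le_rfl
  have h1 : q ^ 1 + q ^ 4 ≤ q ^ 5 := pow_chain hq (by norm_num) h0
  have h2 : q ^ 1 + q ^ 4 + q ^ 5 ≤ q ^ 6 := pow_chain hq (by norm_num) h1
  have h3 : q ^ 1 + q ^ 4 + q ^ 5 + q ^ 7 ≤ q ^ 8 := pow_chain hq (by norm_num) h2
  have h4 : q ^ 1 + q ^ 4 + q ^ 5 + q ^ 7 + q ^ 8 ≤ q ^ 9 := pow_chain hq (by norm_num) h3
  have h5 : q ^ 1 + q ^ 4 + q ^ 5 + q ^ 7 + q ^ 8 + q ^ 11 ≤ q ^ 12 := pow_chain hq (by norm_num) h4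
  omega

theorem totE8_3 (q : ℕ) (hq : 2 ≤ q) : orbSums q [stageE8_3, stageE8_4, stageE8_5, stageE8_6, stageE8_7] + 5 =
    q ^ 1 + q ^ 3 + q ^ 4 + q ^ 5 + q ^ 7 := by
  obtain ⟨x, rfl⟩ : ∃ x, q = x + 1 := ⟨q - 1, by omega⟩
  simp only [orbSums, List.map_cons, List.map_nil, List.sum_cons, List.sum_nil, sumE8_3, sumE8_4, sumE8_5, sumE8_6, sumE8_7, Nat.add_sub_cancel]
  ring

theorem leE8_3 (q : ℕ) (hq : 2 ≤ q) : orbSums q [stageE8_3, stageE8_4, stageE8_5, stageE8_6, stageE8_7] ≤ q ^ 8 := by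
  have ht := totE8_3 q hq
  have h0 : q ^ 1 ≤ q ^ 1 := le_rfl
  have h1 : q ^ 1 + q ^ 3 ≤ q ^ 4 := pow_chain hq (by norm_num) h0
  have h2 : q ^ 1 + q ^ 3 + q ^ 4 ≤ q ^ 5 := pow_chain hq (by norm_num) h1
  have h3 : q ^ 1 + q ^ 3 + q ^ 4 + q ^ 5 ≤ q ^ 6 := pow_chain hq (by norm_num) h2
  have h4 : q ^ 1 + q ^ 3 + q ^ 4 + q ^ 5 + q ^ 7 ≤ q ^ 8 := pow_chain hq (by norm_num) h3
  omega

theorem totE8_4 (q : ℕ) (hq : 2 ≤ q) : orbSums q [stageE8_4, stageE8_5, stageE8_6, stageE8_7] + 4 =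
    q ^ 1 + q ^ 2 + q ^ 3 + q ^ 4 := by
  obtain ⟨x, rfl⟩ : ∃ x, q = x + 1 := ⟨q - 1, by omega⟩
  simp only [orbSums, List.map_cons, List.map_nil, List.sum_cons, List.sum_nil, sumE8_4, sumE8_5, sumE8_6, sumE8_7, Nat.add_sub_cancel]
  ring

theorem leE8_4 (q : ℕ) (hq : 2 ≤ q) : orbSums q [stageE8_4, stageE8_5, stageE8_6, stageE8_7] ≤ q ^ 5 := by
  have ht := totE8_4 q hq
  have h0 : q ^ 1 ≤ q ^ 1 := le_rfl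
  have h1 : q ^ 1 + q ^ 2 ≤ q ^ 3 := pow_chain hq (by norm_num) h0
  have h2 : q ^ 1 + q ^ 2 + q ^ 3 ≤ q ^ 4 := pow_chain hq (by norm_num) h1
  have h3 : q ^ 1 + q ^ 2 + q ^ 3 + q ^ 4 ≤ q ^ 5 := pow_chain hq (by norm_num) h2
  omega

theorem totE8_5 (q : ℕ) (hq : 2 ≤ q) : orbSums q [stageE8_5, stageE8_6, stageE8_7] + 3 =
    q ^ 1 + q ^ 2 + q ^ 3 := by
  obtain ⟨x, rfl⟩ : ∃ x, q = x + 1 := ⟨q - 1, by omega⟩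
  simp only [orbSums, List.map_cons, List.map_nil, List.sum_cons, List.sum_nil, sumE8_5, sumE8_6, sumE8_7, Nat.add_sub_cancel]
  ring

theorem leE8_5 (q : ℕ) (hq : 2 ≤ q) : orbSums q [stageE8_5, stageE8_6, stageE8_7] ≤ q ^ 4 := by
  have ht := totE8_5 q hq
  have h0 : q ^ 1 ≤ q ^ 1 := le_rfl
  have h1 : q ^ 1 + q ^ 2 ≤ q ^ 3 := pow_chain hq (by norm_num) h0
  have h2 : q ^ 1 + q ^ 2 + q ^ 3 ≤ q ^ 4 := pow_chain hq (by norm_num) h1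
  omega

theorem totE8_6 (q : ℕ) (hq : 2 ≤ q) : orbSums q [stageE8_6, stageE8_7] + 2 =
    q ^ 1 + q ^ 2 := by
  obtain ⟨x, rfl⟩ : ∃ x, q = x + 1 := ⟨q - 1, by omega⟩
  simp only [orbSums, List.map_cons, List.map_nil, List.sum_cons, List.sum_nil, sumE8_6, sumE8_7, Nat.add_sub_cancel]
  ring

theorem leE8_6 (q : ℕ) (hq : 2 ≤ q) : orbSums q [stageE8_6, stageE8_7] ≤ q ^ 3 := by
  have ht := totE8_6 q hq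
  have h0 : q ^ 1 ≤ q ^ 1 := le_rfl
  have h1 : q ^ 1 + q ^ 2 ≤ q ^ 3 := pow_chain hq (by norm_num) h0
  omega

theorem totE8_7 (q : ℕ) (hq : 2 ≤ q) : orbSums q [stageE8_7] + 1 =
    q ^ 1 := by
  obtain ⟨x, rfl⟩ : ∃ x, q = x + 1 := ⟨q - 1, by omega⟩
  simp only [orbSums, List.map_cons, List.map_nil, List.sum_cons, List.sum_nil, sumE8_7, Nat.add_sub_cancel]
  ring

theorem leE8_7 (q : ℕ) (hq : 2 ≤ q) : orbSums q [stageE8_7] ≤ q ^ 1 := by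
  have ht := totE8_7 q hq
  have h0 : q ^ 1 ≤ q ^ 1 := le_rfl
  omega

theorem suffixE8 (q : ℕ) (hq : 2 ≤ q) : SuffixOK q (certE8.first :: certE8.others) := by
  show SuffixOK q [stageE8_0, stageE8_1, stageE8_2, stageE8_3, stageE8_4, stageE8_5, stageE8_6, stageE8_7]
  simp only [SuffixOK, and_true]
  refine ⟨Or.inr ((leE8_0 q hq).trans (Nat.pow_le_pow_right (by omega) (by decide))), Or.inr ((leE8_1 q hq).trans (Nat.pow_le_pow_right (by omega) (by decide))), Or.inr ((leE8_2 q hq).trans (Nat.pow_le_pow_right (by omega) (by decide))), Or.inr ((leE8_3 q hq).trans (Nat.pow_le_pow_right (by omega) (by decide))), Or.inl rfl, Or.inl rfl, Or.inl rfl, Or.inl rfl⟩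

theorem tailE8 (q : ℕ) (hq : 2 ≤ q) : orbSums q certE8.others ≤ (q - 1) * q ^ 28 := by
  refine le_trans ((leE8_1 q hq).trans (Nat.pow_le_pow_right (j := 28) (by omega) (by decide))) ?_
  exact Nat.le_mul_of_pos_left _ (by omega)

theorem targetE8 (q : ℕ) (hq : 2 ≤ q) : (q - 1) * q ^ 28 + orbSums q (certE8.first :: certE8.others) + 8 =
    q * (q ^ 12 + 1) * (q ^ 10 + 1) * (q ^ 6 + 1) := by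
  show (q - 1) * q ^ 28 + orbSums q [stageE8_0, stageE8_1, stageE8_2, stageE8_3, stageE8_4, stageE8_5, stageE8_6, stageE8_7] + 8 = _
  rw [add_assoc, totE8_0 q hq]
  obtain ⟨x, rfl⟩ : ∃ x, q = x + 1 := ⟨q - 1, by omega⟩
  simp only [Nat.add_sub_cancel]
  ring

theorem exclE8_1 (q : ℕ) (hq : IsPrimePow q) :
    ¬ q * (q ^ 12 + 1) * (q ^ 10 + 1) * (q ^ 6 + 1) - 1 ∣ q ^ 120 * ((q ^ 2 - 1) * (q ^ 8 - 1) * (q ^ 12 - 1) * (q ^ 14 - 1) * (q ^ 18 - 1) * (q ^ 20 - 1) * (q ^ 24 - 1) * (q ^ 30 - 1)) := by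
  intro hd
  have hq2 : 2 ≤ q := hq.two_le
  rcases Nat.lt_or_ge q 13 with hlt | hge
  · exact (by decide +kernel : ∀ q < 13, 2 ≤ q →
      ¬ q * (q ^ 12 + 1) * (q ^ 10 + 1) * (q ^ 6 + 1) - 1 ∣ q ^ 120 * ((q ^ 2 - 1) * (q ^ 8 - 1) * (q ^ 12 - 1) * (q ^ 14 - 1) * (q ^ 18 - 1) * (q ^ 20 - 1) * (q ^ 24 - 1) * (q ^ 30 - 1))) q hlt hq2 hd
  refine no_dvd hq ((-1) + (1) * (q : ℤ) ^ 3 + (1) * (q : ℤ) ^ 5 + (1) * (q : ℤ) ^ 7 + (1) * (q : ℤ) ^ 9 + (1) * (q : ℤ) ^ 11 + (1) * (q : ℤ) ^ 13 + (-1) * (q : ℤ) ^ 16 + (1) * (q : ℤ) ^ 19 + (1) * (q : ℤ) ^ 20 + (1) * (q : ℤ) ^ 21) (g := (1) + (-1) * (q : ℤ) ^ 1 + (1) * (q : ℤ) ^ 3 + (-1) * (q : ℤ) ^ 4 + (1) * (q : ℤ) ^ 5 + (-1) * (q : ℤ) ^ 7 + (1) * (q : ℤ) ^ 8) (j := 1) (N := 120) (T := q * (q ^ 12 + 1) * (q ^ 10 + 1) * (q ^ 6 + 1))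
    (L := [63, 63, 189, 441, 10773, 63, 189, 5828949]) (d := [2, 8, 12, 14, 18, 20, 24, 30]) ?_ (by norm_num) (by omega) ?_ (by norm_num) (by positivity) ?_ (by simpa [mul_assoc] using hd) (hqT := (((dvd_refl q).mul_right _).mul_right _).mul_right _)
  · push_cast; ring
  · obtain ⟨x, rfl⟩ := Nat.exists_eq_add_of_le hge
    have e : ((-1) + (1) * ((13 + x : ℕ) : ℤ) ^ 3 + (1) * ((13 + x : ℕ) : ℤ) ^ 5 + (1) * ((13 + x : ℕ) : ℤ) ^ 7 + (1) * ((13 + x : ℕ) : ℤ) ^ 9 + (1) * ((13 + x : ℕ) : ℤ) ^ 11 + (1) * ((13 + x : ℕ) : ℤ) ^ 13 + (-1) * ((13 + x : ℕ) : ℤ) ^ 16 + (1) * ((13 + x : ℕ) : ℤ) ^ 19 + (1) * ((13 + x : ℕ) : ℤ) ^ 20 + (1) * ((13 + x : ℕ) : ℤ) ^ 21) - 247349343217114251388359 =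
        (20181404809661138293360) + (430478479142203600955756) * (x : ℤ) ^ 1 + (329848537077137537774718) * (x : ℤ) ^ 2 + (160071784517999398400500) * (x : ℤ) ^ 3 + (55195036875400477639545) * (x : ℤ) ^ 4 + (14379924651067378885834) * (x : ℤ) ^ 5 + (2938380510755431738269) * (x : ℤ) ^ 6 + (482490826998115758447) * (x : ℤ) ^ 7 + (64702359792262436517) * (x : ℤ) ^ 8 + (7161751793770717703) * (x : ℤ) ^ 9 + (658573412853829343) * (x : ℤ) ^ 10 + (50467680463260945) * (x : ℤ) ^ 11 + (3222899819924005) * (x : ℤ) ^ 12 + (170988269205599) * (x : ℤ) ^ 13 + (7487802048324) * (x : ℤ) ^ 14 + (267789192476) * (x : ℤ) ^ 15 + (7695948194) * (x : ℤ) ^ 16 + (173471064) * (x : ℤ) ^ 17 + (2954367) * (x : ℤ) ^ 18 + (35751) * (x : ℤ) ^ 19 + (274) * (x : ℤ) ^ 20 + (1) * (x : ℤ) ^ 21 := by push_cast;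 ring
    have h0 : (0 : ℤ) < (20181404809661138293360) + (430478479142203600955756) * (x : ℤ) ^ 1 + (329848537077137537774718) * (x : ℤ) ^ 2 + (160071784517999398400500) * (x : ℤ) ^ 3 + (55195036875400477639545) * (x : ℤ) ^ 4 + (14379924651067378885834) * (x : ℤ) ^ 5 + (2938380510755431738269) * (x : ℤ) ^ 6 + (482490826998115758447) * (x : ℤ) ^ 7 + (64702359792262436517) * (x : ℤ) ^ 8 + (7161751793770717703) * (x : ℤ) ^ 9 + (658573412853829343) * (x : ℤ) ^ 10 + (50467680463260945) * (x : ℤ) ^ 11 + (3222899819924005) * (x : ℤ) ^ 12 + (170988269205599) * (x : ℤ) ^ 13 + (7487802048324) * (x : ℤ) ^ 14 + (267789192476) * (x : ℤ) ^ 15 + (7695948194) * (x : ℤ) ^ 16 + (173471064) * (x : ℤ) ^ 17 + (2954367) * (x : ℤ) ^ 18 + (35751) * (x : ℤ) ^ 19 + (274) * (x : ℤ) ^ 20 + (1) *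 (x : ℤ) ^ 21 := by positivity
    norm_num
    push_cast at e h0 ⊢
    linarith
  · exact (List.Forall₂.cons ⟨(1) + (8) * (q : ℤ) ^ 1, (-64) + (-8) * (q : ℤ) ^ 1 + (-64) * (q : ℤ) ^ 2 + (-7) * (q : ℤ) ^ 3 + (-56) * (q : ℤ) ^ 4 + (-6) * (q : ℤ) ^ 5 + (-48) * (q : ℤ) ^ 6 + (-5) * (q : ℤ) ^ 7 + (-40) * (q : ℤ) ^ 8 + (-4) * (q : ℤ) ^ 9 + (-32) * (q : ℤ) ^ 10 + (-3) * (q : ℤ) ^ 11 + (-24) * (q : ℤ) ^ 12 + (-2) * (q : ℤ) ^ 13 + (-16) * (q : ℤ) ^ 14 + (-2) * (q : ℤ) ^ 15 + (-17) * (q : ℤ) ^ 16 + (-10) * (q : ℤ) ^ 17 + (-17) * (q : ℤ) ^ 18 + (-9) * (q : ℤ) ^ 19 + (-8) * (q : ℤ) ^ 20, by push_cast; ring⟩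
      (List.Forall₂.cons ⟨(-110) + (65) * (q : ℤ) ^ 1 + (16) * (q : ℤ) ^ 2 + (-61) * (q : ℤ) ^ 3 + (79) * (q : ℤ) ^ 4 + (-61) * (q : ℤ) ^ 5 + (16) * (q : ℤ) ^ 6 + (65) * (q : ℤ) ^ 7, (47) + (-65) * (q : ℤ) ^ 1 + (-16) * (q : ℤ) ^ 2 + (-49) * (q : ℤ) ^ 3 + (-14) * (q : ℤ) ^ 4 + (-33) * (q : ℤ) ^ 5 + (-12) * (q : ℤ) ^ 6 + (-80) * (q : ℤ) ^ 7 + (-10) * (q : ℤ) ^ 8 + (-64) * (q : ℤ) ^ 9 + (-8) * (q : ℤ) ^ 10 + (-48) * (q : ℤ) ^ 11 + (-6) * (q : ℤ) ^ 12 + (-32) * (q : ℤ) ^ 13 + (-4) * (q : ℤ) ^ 14 + (31) * (q : ℤ) ^ 15 + (43) * (q : ℤ) ^ 16 + (-34) * (q : ℤ) ^ 17 + (-20) * (q : ℤ) ^ 18 + (-81) * (q : ℤ) ^ 19 + (-65) * (q : ℤ) ^ 20, by push_cast; ring⟩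
      (List.Forall₂.cons ⟨(-115) + (25) * (q : ℤ) ^ 1 + (74) * (q : ℤ) ^ 2 + (-101) * (q : ℤ) ^ 3 + (137) * (q : ℤ) ^ 4 + (-101) * (q : ℤ) ^ 5 + (74) * (q : ℤ) ^ 6 + (25) * (q : ℤ) ^ 7 + (-115) * (q : ℤ) ^ 8 + (88) * (q : ℤ) ^ 9 + (-52) * (q : ℤ) ^ 10 + (88) * (q : ℤ) ^ 11, (-74) + (-25) * (q : ℤ) ^ 1 + (-74) * (q : ℤ) ^ 2 + (-14) * (q : ℤ) ^ 3 + (-112) * (q : ℤ) ^ 4 + (60) * (q : ℤ) ^ 5 + (-150) * (q : ℤ) ^ 6 + (71) * (q : ℤ) ^ 7 + (-62) * (q : ℤ) ^ 8 + (82) * (q : ℤ) ^ 9 + (-100) * (q : ℤ) ^ 10 + (-33) * (q : ℤ) ^ 11 + (-138) * (q : ℤ) ^ 12 + (-22) * (q : ℤ) ^ 13 + (-50) * (q : ℤ) ^ 14 + (104) * (q : ℤ) ^ 15 + (2) * (q : ℤ) ^ 16 + (79) * (q : ℤ) ^ 17 + (-124) * (q : ℤ) ^ 18 + (-36) * (q : ℤ) ^ 19 + (-88) * (q : ℤ) ^ 20, by push_cast; ring⟩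
      (List.Forall₂.cons ⟨(-314) + (134) * (q : ℤ) ^ 1 + (190) * (q : ℤ) ^ 2 + (-244) * (q : ℤ) ^ 3 + (253) * (q : ℤ) ^ 4 + (-181) * (q : ℤ) ^ 5 + (-125) * (q : ℤ) ^ 6 + (323) * (q : ℤ) ^ 7 + (-62) * (q : ℤ) ^ 8 + (-55) * (q : ℤ) ^ 9 + (1) * (q : ℤ) ^ 10 + (8) * (q : ℤ) ^ 11 + (64) * (q : ℤ) ^ 12 + (71) * (q : ℤ) ^ 13, (-127) + (-134) * (q : ℤ) ^ 1 + (-190) * (q : ℤ) ^ 2 + (-70) * (q : ℤ) ^ 3 + (-119) * (q : ℤ) ^ 4 + (57) * (q : ℤ) ^ 5 + (15) * (q : ℤ) ^ 6 + (-194) * (q : ℤ) ^ 7 + (-229) * (q : ℤ) ^ 8 + (59) * (q : ℤ) ^ 9 + (31) * (q : ℤ) ^ 10 + (-66) * (q : ℤ) ^ 11 + (-87) * (q : ℤ) ^ 12 + (-128) * (q : ℤ) ^ 13 + (-142) * (q : ℤ) ^ 14 + (187) * (q : ℤ) ^ 15 + (46) * (q : ℤ) ^ 16 + (-73) * (q : ℤ) ^ 17 + (-143) * (q : ℤ) ^ 18 + (-135) * (q : ℤ) ^ 19 + (-71) * (q : ℤ)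 ^ 20, by push_cast; ring⟩
      (List.Forall₂.cons ⟨(-3803) + (194) * (q : ℤ) ^ 1 + (2623) * (q : ℤ) ^ 2 + (-4783) * (q : ℤ) ^ 3 + (4072) * (q : ℤ) ^ 4 + (-2326) * (q : ℤ) ^ 5 + (-401) * (q : ℤ) ^ 6 + (2840) * (q : ℤ) ^ 7 + (-2102) * (q : ℤ) ^ 8 + (320) * (q : ℤ) ^ 9 + (859) * (q : ℤ) ^ 10 + (-436) * (q : ℤ) ^ 11 + (1867) * (q : ℤ) ^ 12 + (-184) * (q : ℤ) ^ 13 + (-2858) * (q : ℤ) ^ 14 + (3722) * (q : ℤ) ^ 15 + (-86) * (q : ℤ) ^ 16 + (2021) * (q : ℤ) ^ 17, (-6970) + (-194) * (q : ℤ) ^ 1 + (-2623) * (q : ℤ) ^ 2 + (980) * (q : ℤ) ^ 3 + (-3878) * (q : ℤ) ^ 4 + (1146) * (q : ℤ) ^ 5 + (-4188) * (q : ℤ) ^ 6 + (52) * (q : ℤ) ^ 7 + (-4813) * (q : ℤ) ^ 8 + (2171) * (q : ℤ) ^ 9 + (-4934) * (q : ℤ) ^ 10 + (825) * (q : ℤ) ^ 11 + (-5622) * (q : ℤ) ^ 12 + (1432) * (q : ℤ) ^ 13 + (-1333)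 * (q : ℤ) ^ 14 + (3196) * (q : ℤ) ^ 15 + (-680) * (q : ℤ) ^ 16 + (-778) * (q : ℤ) ^ 17 + (-5657) * (q : ℤ) ^ 18 + (-1935) * (q : ℤ) ^ 19 + (-2021) * (q : ℤ) ^ 20, by push_cast; ring⟩
      (List.Forall₂.cons ⟨(-44) + (26) * (q : ℤ) ^ 1 + (19) * (q : ℤ) ^ 2 + (-37) * (q : ℤ) ^ 3 + (19) * (q : ℤ) ^ 4 + (-37) * (q : ℤ) ^ 5 + (19) * (q : ℤ) ^ 6 + (26) * (q : ℤ) ^ 7 + (-44) * (q : ℤ) ^ 8 + (26) * (q : ℤ) ^ 9 + (19) * (q : ℤ) ^ 10 + (-37) * (q : ℤ) ^ 11 + (19) * (q : ℤ) ^ 12 + (26) * (q : ℤ) ^ 13 + (-44) * (q : ℤ) ^ 14 + (26) * (q : ℤ) ^ 15 + (19) * (q : ℤ) ^ 16 + (-37) * (q : ℤ) ^ 17 + (19) * (q : ℤ) ^ 18 + (26) * (q : ℤ) ^ 19, (-19) + (-26) * (q : ℤ) ^ 1 + (-19) * (q : ℤ) ^ 2 + (-7) * (q : ℤ) ^ 3 + (7) * (q : ℤ) ^ 4 + (12) * (q : ℤ) ^ 5 + (-30) * (q : ℤ) ^ 6 + (-32) * (q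 : ℤ) ^ 7 + (-4) * (q : ℤ) ^ 8 + (-13) * (q : ℤ) ^ 9 + (-41) * (q : ℤ) ^ 10 + (6) * (q : ℤ) ^ 11 + (-15) * (q : ℤ) ^ 12 + (-38) * (q : ℤ) ^ 13 + (11) * (q : ℤ) ^ 14 + (25) * (q : ℤ) ^ 15 + (-8) * (q : ℤ) ^ 16 + (-1) * (q : ℤ) ^ 17 + (-8) * (q : ℤ) ^ 18 + (-45) * (q : ℤ) ^ 19 + (-26) * (q : ℤ) ^ 20, by push_cast; ring⟩
      (List.Forall₂.cons ⟨(-152) + (107) * (q : ℤ) ^ 1 + (37) * (q : ℤ) ^ 2 + (-145) * (q : ℤ) ^ 3 + (163) * (q : ℤ) ^ 4 + (-145) * (q : ℤ) ^ 5 + (37) * (q : ℤ) ^ 6 + (107) * (q : ℤ) ^ 7 + (-152) * (q : ℤ) ^ 8 + (44) * (q : ℤ) ^ 9 + (-26) * (q : ℤ) ^ 10 + (44) * (q : ℤ) ^ 11 + (37) * (q : ℤ) ^ 12 + (-82) * (q : ℤ) ^ 13 + (37) * (q : ℤ) ^ 14 + (44) * (q : ℤ) ^ 15 + (-26) * (q : ℤ) ^ 16 + (44) * (q : ℤ) ^ 17 + (37) * (q : ℤ) ^ 18 + (-82) * (q : ℤ) ^ 19 + (37)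 * (q : ℤ) ^ 20 + (44) * (q : ℤ) ^ 21 + (-26) * (q : ℤ) ^ 22 + (44) * (q : ℤ) ^ 23, (-37) + (-107) * (q : ℤ) ^ 1 + (-37) * (q : ℤ) ^ 2 + (-7) * (q : ℤ) ^ 3 + (-56) * (q : ℤ) ^ 4 + (30) * (q : ℤ) ^ 5 + (-75) * (q : ℤ) ^ 6 + (-59) * (q : ℤ) ^ 7 + (-31) * (q : ℤ) ^ 8 + (41) * (q : ℤ) ^ 9 + (-50) * (q : ℤ) ^ 10 + (-111) * (q : ℤ) ^ 11 + (-69) * (q : ℤ) ^ 12 + (-11) * (q : ℤ) ^ 13 + (-25) * (q : ℤ) ^ 14 + (52) * (q : ℤ) ^ 15 + (1) * (q : ℤ) ^ 16 + (-55) * (q : ℤ) ^ 17 + (-62) * (q : ℤ) ^ 18 + (-18) * (q : ℤ) ^ 19 + (-44) * (q : ℤ) ^ 20, by push_cast; ring⟩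
      (List.Forall₂.cons ⟨(-2879656) + (673558) * (q : ℤ) ^ 1 + (1524422) * (q : ℤ) ^ 2 + (-2025299) * (q : ℤ) ^ 3 + (894926) * (q : ℤ) ^ 4 + (-1760888) * (q : ℤ) ^ 5 + (1493426) * (q : ℤ) ^ 6 + (391948) * (q : ℤ) ^ 7 + (-2507326) * (q : ℤ) ^ 8 + (2274640) * (q : ℤ) ^ 9 + (168599) * (q : ℤ) ^ 10 + (-1025867) * (q : ℤ) ^ 11 + (1383617) * (q : ℤ) ^ 12 + (-155207) * (q : ℤ) ^ 13 + (-1812562) * (q : ℤ) ^ 14 + (790423) * (q : ℤ) ^ 15 + (889445) * (q : ℤ) ^ 16 + (-634448) * (q : ℤ) ^ 17 + (133571) * (q : ℤ) ^ 18 + (679039) * (q : ℤ) ^ 19 + (397982) * (q : ℤ) ^ 20 + (-665444) * (q : ℤ) ^ 21 + (607835) * (q : ℤ) ^ 22 + (1162753) * (q : ℤ) ^ 23 + (-1395439) * (q : ℤ) ^ 24 + (-47288) * (q : ℤ) ^ 25 + (1133003) * (q : ℤ) ^ 26 + (-775253) * (q : ℤ) ^ 27 + (60680) * (q : ℤ) ^ 28 +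 (1857517) * (q : ℤ) ^ 29, (-2949293) + (-673558) * (q : ℤ) ^ 1 + (-1524422) * (q : ℤ) ^ 2 + (-854357) * (q : ℤ) ^ 3 + (-221368) * (q : ℤ) ^ 4 + (405654) * (q : ℤ) ^ 5 + (-2845167) * (q : ℤ) ^ 6 + (-852256) * (q : ℤ) ^ 7 + (-605303) * (q : ℤ) ^ 8 + (-1241522) * (q : ℤ) ^ 9 + (-2889280) * (q : ℤ) ^ 10 + (-448341) * (q : ℤ) ^ 11 + (-1829658) * (q : ℤ) ^ 12 + (-1150402) * (q : ℤ) ^ 13 + (340654) * (q : ℤ) ^ 14 + (2167241) * (q : ℤ) ^ 15 + (-310462) * (q : ℤ) ^ 16 + (-418430) * (q : ℤ) ^ 17 + (-1142944) * (q : ℤ) ^ 18 + (-1918197) * (q : ℤ) ^ 19 + (-1857517) * (q : ℤ) ^ 20, by push_cast; ring⟩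
      List.Forall₂.nil))))))))

theorem exclE8_2 (q : ℕ) (hq : IsPrimePow q) :
    ¬ q * (q ^ 12 + 1) * (q ^ 10 + 1) * (q ^ 6 + 1) - 2 ∣ q ^ 120 * ((q ^ 2 - 1) * (q ^ 8 - 1) * (q ^ 12 - 1) * (q ^ 14 - 1) * (q ^ 18 - 1) * (q ^ 20 - 1) * (q ^ 24 - 1) * (q ^ 30 - 1)) := by
  intro hd
  have hq2 : 2 ≤ q := hq.two_le
  rcases Nat.lt_or_ge q 6 with hlt | hge
  · exact (by decide +kernel : ∀ q < 6, 2 ≤ q →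
      ¬ q * (q ^ 12 + 1) * (q ^ 10 + 1) * (q ^ 6 + 1) - 2 ∣ q ^ 120 * ((q ^ 2 - 1) * (q ^ 8 - 1) * (q ^ 12 - 1) * (q ^ 14 - 1) * (q ^ 18 - 1) * (q ^ 20 - 1) * (q ^ 24 - 1) * (q ^ 30 - 1))) q hlt hq2 hd
  refine no_dvd hq ((-2) + (-1) * (q : ℤ) ^ 1 + (1) * (q : ℤ) ^ 2 + (2) * (q : ℤ) ^ 5 + (1) * (q : ℤ) ^ 6 + (1) * (q : ℤ) ^ 8 + (-2) * (q : ℤ) ^ 10 + (1) * (q : ℤ) ^ 12 + (1) * (q : ℤ) ^ 14 + (2) * (q : ℤ) ^ 15 + (1) * (q : ℤ) ^ 18 + (-1) * (q : ℤ) ^ 20 + (1) * (q : ℤ) ^ 24 + (1) * (q : ℤ) ^ 25) (g := (1) + (-1) * (q : ℤ) ^ 1 + (1) * (q : ℤ) ^ 2 + (-1) * (q : ℤ) ^ 3 + (1) * (q : ℤ) ^ 4) (j := 2) (N := 120) (T := q * (q ^ 12 + 1) * (q ^ 10 + 1) * (q ^ 6 + 1))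
    (L := [6, 6, 18, 32766, 130302, 48, 36, 72]) (d := [2, 8, 12, 14, 18, 20, 24, 30]) ?_ (by norm_num) (by omega) ?_ (by norm_num) (by positivity) ?_ (by simpa [mul_assoc] using hd) (hqT := (((dvd_refl q).mul_right _).mul_right _).mul_right _)
  · push_cast; ring
  · obtain ⟨x, rfl⟩ := Nat.exists_eq_add_of_le hge
    have e : ((-2) + (-1) * ((6 + x : ℕ) : ℤ) ^ 1 + (1) * ((6 + x : ℕ) : ℤ) ^ 2 + (2) * ((6 + x : ℕ) : ℤ) ^ 5 + (1) * ((6 + x : ℕ) : ℤ) ^ 6 + (1) * ((6 + x : ℕ) : ℤ) ^ 8 + (-2) * ((6 + x : ℕ) : ℤ) ^ 10 + (1) * ((6 + x : ℕ) : ℤ) ^ 12 + (1) * ((6 + x : ℕ) : ℤ) ^ 14 + (2) * ((6 + x : ℕ) : ℤ) ^ 15 + (1) * ((6 + x : ℕ) : ℤ) ^ 18 + (-1) * ((6 + x : ℕ) : ℤ) ^ 20 + (1) * ((6 + x : ℕ) : ℤ) ^ 24 + (1) * ((6 + x : ℕ) : ℤ) ^ 25) - 688423591606321152 =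
        (32476692198953327644) + (137401178834325634283) * (x : ℤ) ^ 1 + (273227795359269284305) * (x : ℤ) ^ 2 + (347111396327600011440) * (x : ℤ) ^ 3 + (316339337753504081592) * (x : ℤ) ^ 4 + (220144746849530702438) * (x : ℤ) ^ 5 + (121584177004352076721) * (x : ℤ) ^ 6 + (54677254814205374640) * (x : ℤ) ^ 7 + (20382024654038497033) * (x : ℤ) ^ 8 + (6378165316324675176) * (x : ℤ) ^ 9 + (1690602959256736534) * (x : ℤ) ^ 10 + (381900114307864584) * (x : ℤ) ^ 11 + (73805675391087517) * (x : ℤ) ^ 12 + (12225493242446556) * (x : ℤ) ^ 13 + (1735719443470837) * (x : ℤ) ^ 14 + (210825924909698) * (x : ℤ) ^ 15 + (21823783571124) * (x : ℤ) ^ 16 + (1913517398412) * (x : ℤ) ^ 17 + (140844939337) * (x : ℤ) ^ 18 + (8593288584) * (x : ℤ) ^ 19 + (426910175) * (x : ℤ) ^ 20 + (16831584)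 * (x : ℤ) ^ 21 + (506736) * (x : ℤ) ^ 22 + (10944) * (x : ℤ) ^ 23 + (151) * (x : ℤ) ^ 24 + (1) * (x : ℤ) ^ 25 := by push_cast; ring
    have h0 : (0 : ℤ) < (32476692198953327644) + (137401178834325634283) * (x : ℤ) ^ 1 + (273227795359269284305) * (x : ℤ) ^ 2 + (347111396327600011440) * (x : ℤ) ^ 3 + (316339337753504081592) * (x : ℤ) ^ 4 + (220144746849530702438) * (x : ℤ) ^ 5 + (121584177004352076721) * (x : ℤ) ^ 6 + (54677254814205374640) * (x : ℤ) ^ 7 + (20382024654038497033) * (x : ℤ) ^ 8 + (6378165316324675176) * (x : ℤ) ^ 9 + (1690602959256736534) * (x : ℤ) ^ 10 + (381900114307864584) * (x : ℤ) ^ 11 + (73805675391087517) * (x : ℤ) ^ 12 + (12225493242446556) * (x : ℤ) ^ 13 + (1735719443470837) * (x : ℤ) ^ 14 + (210825924909698) * (x : ℤ) ^ 15 + (21823783571124) *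 (x : ℤ) ^ 16 + (1913517398412) * (x : ℤ) ^ 17 + (140844939337) * (x : ℤ) ^ 18 + (8593288584) * (x : ℤ) ^ 19 + (426910175) * (x : ℤ) ^ 20 + (16831584) * (x : ℤ) ^ 21 + (506736) * (x : ℤ) ^ 22 + (10944) * (x : ℤ) ^ 23 + (151) * (x : ℤ) ^ 24 + (1) * (x : ℤ) ^ 25 := by positivity
    norm_num
    push_cast at e h0 ⊢
    linarith
  · exact (List.Forall₂.cons ⟨(-1) + (2) * (q : ℤ) ^ 1, (-4) + (-3) * (q : ℤ) ^ 1 + (-7) * (q : ℤ) ^ 2 + (-1) * (q : ℤ) ^ 3 + (-7) * (q : ℤ) ^ 4 + (-3) * (q : ℤ) ^ 5 + (-4) * (q : ℤ) ^ 6 + (-1) * (q : ℤ) ^ 7 + (-5) * (q : ℤ) ^ 8 + (1) * (q : ℤ) ^ 9 + (-3) * (q : ℤ) ^ 10 + (-3) * (q : ℤ) ^ 11 + (-4) * (q : ℤ) ^ 12 + (-1) * (q : ℤ) ^ 13 + (-5) * (q : ℤ) ^ 14 + (-1) * (q : ℤ) ^ 15 + (-1) * (q : ℤ) ^ 16 + (-1) * (q : ℤ) ^ 17 + (-2) * (q : ℤ) ^ 18 + (1)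 * (q : ℤ) ^ 19 + (-1) * (q : ℤ) ^ 20 + (-1) * (q : ℤ) ^ 21 + (-1) * (q : ℤ) ^ 22 + (-1) * (q : ℤ) ^ 23 + (-2) * (q : ℤ) ^ 24, by push_cast; ring⟩
      (List.Forall₂.cons ⟨(-1) + (2) * (q : ℤ) ^ 1 + (-1) * (q : ℤ) ^ 2 + (2) * (q : ℤ) ^ 3 + (-1) * (q : ℤ) ^ 4 + (-1) * (q : ℤ) ^ 5 + (2) * (q : ℤ) ^ 6 + (-1) * (q : ℤ) ^ 7, (-4) + (-3) * (q : ℤ) ^ 1 + (-1) * (q : ℤ) ^ 2 + (-1) * (q : ℤ) ^ 3 + (-1) * (q : ℤ) ^ 4 + (3) * (q : ℤ) ^ 5 + (-1) * (q : ℤ) ^ 6 + (-1) * (q : ℤ) ^ 7 + (1) * (q : ℤ) ^ 8 + (-2) * (q : ℤ) ^ 9 + (-3) * (q : ℤ) ^ 10 + (-1) * (q : ℤ) ^ 12 + (-1) * (q : ℤ) ^ 13 + (1) * (q : ℤ) ^ 14 + (2) * (q : ℤ) ^ 15 + (-1) * (q : ℤ) ^ 16 + (-1) * (q : ℤ) ^ 17 + (1) * (q : ℤ) ^ 18 + (-2) * (q : ℤ) ^ 19 + (-1) * (q : ℤ) ^ 20 + (2) * (q : ℤ) ^ 21 + (-1) * (q : ℤ) ^ 22 + (-1)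 * (q : ℤ) ^ 23 + (1) * (q : ℤ) ^ 24, by push_cast; ring⟩
      (List.Forall₂.cons ⟨(-4) + (5) * (q : ℤ) ^ 1 + (-7) * (q : ℤ) ^ 2 + (5) * (q : ℤ) ^ 3 + (-4) * (q : ℤ) ^ 4 + (2) * (q : ℤ) ^ 5 + (5) * (q : ℤ) ^ 6 + (-4) * (q : ℤ) ^ 7 + (2) * (q : ℤ) ^ 8 + (-4) * (q : ℤ) ^ 9 + (5) * (q : ℤ) ^ 10 + (2) * (q : ℤ) ^ 11, (-10) + (-6) * (q : ℤ) ^ 1 + (5) * (q : ℤ) ^ 2 + (2) * (q : ℤ) ^ 3 + (-4) * (q : ℤ) ^ 4 + (-3) * (q : ℤ) ^ 5 + (-10) * (q : ℤ) ^ 6 + (-4) * (q : ℤ) ^ 7 + (4) * (q : ℤ) ^ 8 + (4) * (q : ℤ) ^ 9 + (-3) * (q : ℤ) ^ 10 + (-6) * (q : ℤ) ^ 11 + (-4) * (q : ℤ) ^ 12 + (-7) * (q : ℤ) ^ 13 + (1) * (q : ℤ) ^ 14 + (2) * (q : ℤ) ^ 15 + (-4) * (q : ℤ) ^ 16 + (-4) * (q : ℤ) ^ 17 + (-2) * (q : ℤ) ^ 18 + (1) * (q : ℤ) ^ 19 + (2) * (q : ℤ) ^ 20 + (2) * (q : ℤ) ^ 21 + (-1) * (q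 : ℤ) ^ 22 + (-7) * (q : ℤ) ^ 23 + (-2) * (q : ℤ) ^ 24, by push_cast; ring⟩
      (List.Forall₂.cons ⟨(-10933) + (8186) * (q : ℤ) ^ 1 + (-6829) * (q : ℤ) ^ 2 + (10238) * (q : ℤ) ^ 3 + (-5803) * (q : ℤ) ^ 4 + (-5632) * (q : ℤ) ^ 5 + (2645) * (q : ℤ) ^ 6 + (-1408) * (q : ℤ) ^ 7 + (4757) * (q : ℤ) ^ 8 + (-352) * (q : ℤ) ^ 9 + (5285) * (q : ℤ) ^ 10 + (-88) * (q : ℤ) ^ 11 + (5417) * (q : ℤ) ^ 12 + (-22) * (q : ℤ) ^ 13, (-10900) + (-5439) * (q : ℤ) ^ 1 + (-5461) * (q : ℤ) ^ 2 + (-5461) * (q : ℤ) ^ 3 + (-5461) * (q : ℤ) ^ 4 + (5439) * (q : ℤ) ^ 5 + (-22) * (q : ℤ) ^ 6 + (-10933) * (q : ℤ) ^ 7 + (-2747) * (q : ℤ) ^ 8 + (1357) * (q : ℤ) ^ 9 + (-7491) * (q : ℤ) ^ 10 + (-11937) * (q : ℤ) ^ 11 + (-8710) * (q : ℤ) ^ 12 + (-15277) * (q : ℤ) ^ 13 + (-4919) * (q : ℤ) ^ 14 + (11171) *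 (q : ℤ) ^ 15 + (2855) * (q : ℤ) ^ 16 + (-1303) * (q : ℤ) ^ 17 + (2068) * (q : ℤ) ^ 18 + (-4427) * (q : ℤ) ^ 19 + (-4933) * (q : ℤ) ^ 20 + (-5197) * (q : ℤ) ^ 21 + (-5329) * (q : ℤ) ^ 22 + (-5395) * (q : ℤ) ^ 23 + (22) * (q : ℤ) ^ 24, by push_cast; ring⟩
      (List.Forall₂.cons ⟨(-37727) + (30007) * (q : ℤ) ^ 1 + (-47921) * (q : ℤ) ^ 2 + (38125) * (q : ℤ) ^ 3 + (-28097) * (q : ℤ) ^ 4 + (9688) * (q : ℤ) ^ 5 + (11971) * (q : ℤ) ^ 6 + (-827) * (q : ℤ) ^ 7 + (-3605) * (q : ℤ) ^ 8 + (-10025) * (q : ℤ) ^ 9 + (22825) * (q : ℤ) ^ 10 + (-212) * (q : ℤ) ^ 11 + (32995) * (q : ℤ) ^ 12 + (-21941) * (q : ℤ) ^ 13 + (15331) * (q : ℤ) ^ 14 + (-20861) * (q : ℤ) ^ 15 + (12511) * (q : ℤ) ^ 16 + (19480) * (q : ℤ) ^ 17, (-54848) + (-22287) * (q : ℤ) ^ 1 + (28108) * (q : ℤ) ^ 2 + (1678) * (q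 : ℤ) ^ 3 + (-29852) * (q : ℤ) ^ 4 + (-28608) * (q : ℤ) ^ 5 + (-39440) * (q : ℤ) ^ 6 + (-66464) * (q : ℤ) ^ 7 + (10610) * (q : ℤ) ^ 8 + (34766) * (q : ℤ) ^ 9 + (-20418) * (q : ℤ) ^ 10 + (-20685) * (q : ℤ) ^ 11 + (-2618) * (q : ℤ) ^ 12 + (-33917) * (q : ℤ) ^ 13 + (-16864) * (q : ℤ) ^ 14 + (12550) * (q : ℤ) ^ 15 + (-9980) * (q : ℤ) ^ 16 + (-62954) * (q : ℤ) ^ 17 + (-20272) * (q : ℤ) ^ 18 + (8426) * (q : ℤ) ^ 19 + (6610) * (q : ℤ) ^ 20 + (5530) * (q : ℤ) ^ 21 + (8350) * (q : ℤ) ^ 22 + (-31991) * (q : ℤ) ^ 23 + (-19480) * (q : ℤ) ^ 24, by push_cast; ring⟩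
      (List.Forall₂.cons ⟨(-16) + (17) * (q : ℤ) ^ 1 + (-15) * (q : ℤ) ^ 2 + (17) * (q : ℤ) ^ 3 + (-15) * (q : ℤ) ^ 4 + (3) * (q : ℤ) ^ 6 + (-1) * (q : ℤ) ^ 7 + (3) * (q : ℤ) ^ 8 + (-1) * (q : ℤ) ^ 9 + (8) * (q : ℤ) ^ 10 + (-7) * (q : ℤ) ^ 11 + (9) * (q : ℤ) ^ 12 + (-7) * (q : ℤ) ^ 13 + (9) * (q : ℤ) ^ 14 + (3) * (q : ℤ) ^ 16 + (-1) * (q : ℤ) ^ 17 + (3) * (q : ℤ) ^ 18 + (-1) * (q : ℤ) ^ 19, (-16) + (-18) * (q : ℤ) ^ 1 + (-3) * (q : ℤ) ^ 2 + (-2) * (q : ℤ) ^ 3 + (-2) * (q : ℤ) ^ 4 + (-3) * (q : ℤ) ^ 6 + (-14) * (q : ℤ) ^ 7 + (1) * (q : ℤ) ^ 8 + (2) * (q : ℤ) ^ 9 + (-10) * (q : ℤ) ^ 10 + (-6) * (q : ℤ) ^ 11 + (-3) * (q : ℤ) ^ 12 + (-14) * (q : ℤ) ^ 13 + (1) * (q : ℤ) ^ 14 + (-2) * (q : ℤ) ^ 16 + (-2) * (q : ℤ) ^ 17 + (1) * (q : ℤ) ^ 18 + (-10) * (q : ℤ) ^ 19 + (-3) * (q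 : ℤ) ^ 20 + (-2) * (q : ℤ) ^ 21 + (-2) * (q : ℤ) ^ 22 + (-2) * (q : ℤ) ^ 23 + (1) * (q : ℤ) ^ 24, by push_cast; ring⟩
      (List.Forall₂.cons ⟨(-13) + (14) * (q : ℤ) ^ 1 + (-16) * (q : ℤ) ^ 2 + (14) * (q : ℤ) ^ 3 + (-13) * (q : ℤ) ^ 4 + (2) * (q : ℤ) ^ 5 + (5) * (q : ℤ) ^ 6 + (-4) * (q : ℤ) ^ 7 + (2) * (q : ℤ) ^ 8 + (-4) * (q : ℤ) ^ 9 + (5) * (q : ℤ) ^ 10 + (2) * (q : ℤ) ^ 11 + (5) * (q : ℤ) ^ 12 + (-4) * (q : ℤ) ^ 13 + (2) * (q : ℤ) ^ 14 + (-4) * (q : ℤ) ^ 15 + (5) * (q : ℤ) ^ 16 + (2) * (q : ℤ) ^ 17 + (5) * (q : ℤ) ^ 18 + (-4) * (q : ℤ) ^ 19 + (2) * (q : ℤ) ^ 20 + (-4) * (q : ℤ) ^ 21 + (5) * (q : ℤ) ^ 22 + (2) * (q : ℤ) ^ 23, (-10) + (-15) * (q : ℤ) ^ 1 + (5) * (q : ℤ) ^ 2 + (2) * (q : ℤ) ^ 3 + (-4) * (q : ℤ) ^ 4 + (-3) * (q : ℤ) ^ 5 + (-10) * (q : ℤ) ^ 6 + (-13) *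 (q : ℤ) ^ 7 + (4) * (q : ℤ) ^ 8 + (4) * (q : ℤ) ^ 9 + (-3) * (q : ℤ) ^ 10 + (-15) * (q : ℤ) ^ 11 + (-4) * (q : ℤ) ^ 12 + (-7) * (q : ℤ) ^ 13 + (1) * (q : ℤ) ^ 14 + (2) * (q : ℤ) ^ 15 + (-4) * (q : ℤ) ^ 16 + (-13) * (q : ℤ) ^ 17 + (-2) * (q : ℤ) ^ 18 + (1) * (q : ℤ) ^ 19 + (2) * (q : ℤ) ^ 20 + (2) * (q : ℤ) ^ 21 + (-1) * (q : ℤ) ^ 22 + (-7) * (q : ℤ) ^ 23 + (-2) * (q : ℤ) ^ 24, by push_cast; ring⟩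
      (List.Forall₂.cons ⟨(-36) + (33) * (q : ℤ) ^ 1 + (-35) * (q : ℤ) ^ 2 + (33) * (q : ℤ) ^ 3 + (-35) * (q : ℤ) ^ 4 + (16) * (q : ℤ) ^ 5 + (-5) * (q : ℤ) ^ 6 + (3) * (q : ℤ) ^ 7 + (-5) * (q : ℤ) ^ 8 + (3) * (q : ℤ) ^ 9 + (12) * (q : ℤ) ^ 10 + (-3) * (q : ℤ) ^ 11 + (13) * (q : ℤ) ^ 12 + (-15) * (q : ℤ) ^ 13 + (13) * (q : ℤ) ^ 14 + (-20) * (q : ℤ) ^ 15 + (19) * (q : ℤ) ^ 16 + (-9) * (q : ℤ) ^ 17 + (19) * (q : ℤ) ^ 18 + (-21) * (q : ℤ) ^ 19 + (12) * (q : ℤ) ^ 20 + (-15) * (q : ℤ) ^ 21 + (13) * (q : ℤ) ^ 22 + (-3) * (q : ℤ) ^ 23 + (13) * (q : ℤ) ^ 24 + (4) * (q : ℤ) ^ 25 + (-5) * (q : ℤ) ^ 26 + (3) * (q : ℤ) ^ 27 + (-5) * (q : ℤ) ^ 28 + (15) * (q : ℤ) ^ 29, (-30) * (q : ℤ) ^ 1 + (1) * (q : ℤ) ^ 2 + (2) * (q : ℤ) ^ 3 + (2) * (q : ℤ) ^ 4 + (-36) * (q : ℤ) ^ 5 + (-11) * (q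 : ℤ) ^ 6 + (-22) * (q : ℤ) ^ 7 + (-3) * (q : ℤ) ^ 8 + (-2) * (q : ℤ) ^ 9 + (2) * (q : ℤ) ^ 10 + (-30) * (q : ℤ) ^ 11 + (-11) * (q : ℤ) ^ 12 + (-10) * (q : ℤ) ^ 13 + (-3) * (q : ℤ) ^ 14 + (4) * (q : ℤ) ^ 15 + (2) * (q : ℤ) ^ 16 + (-22) * (q : ℤ) ^ 17 + (-15) * (q : ℤ) ^ 18 + (-2) * (q : ℤ) ^ 19 + (1) * (q : ℤ) ^ 20 + (2) * (q : ℤ) ^ 21 + (2) * (q : ℤ) ^ 22 + (-10) * (q : ℤ) ^ 23 + (-15) * (q : ℤ) ^ 24, by push_cast; ring⟩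
      List.Forall₂.nil))))))))

theorem exclE8_3 (q : ℕ) (hq : IsPrimePow q) :
    ¬ q * (q ^ 12 + 1) * (q ^ 10 + 1) * (q ^ 6 + 1) - 3 ∣ q ^ 120 * ((q ^ 2 - 1) * (q ^ 8 - 1) * (q ^ 12 - 1) * (q ^ 14 - 1) * (q ^ 18 - 1) * (q ^ 20 - 1) * (q ^ 24 - 1) * (q ^ 30 - 1)) := by
  intro hd
  have hq2 : 2 ≤ q := hq.two_le
  rcases Nat.lt_or_ge q 15 with hlt | hge
  · exact (by decide +kernel : ∀ q < 15, 2 ≤ q →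
      ¬ q * (q ^ 12 + 1) * (q ^ 10 + 1) * (q ^ 6 + 1) - 3 ∣ q ^ 120 * ((q ^ 2 - 1) * (q ^ 8 - 1) * (q ^ 12 - 1) * (q ^ 14 - 1) * (q ^ 18 - 1) * (q ^ 20 - 1) * (q ^ 24 - 1) * (q ^ 30 - 1))) q hlt hq2 hd
  refine no_dvd hq ((-3) + (1) * (q : ℤ) ^ 1 + (1) * (q : ℤ) ^ 7 + (1) * (q : ℤ) ^ 11 + (1) * (q : ℤ) ^ 13 + (1) * (q : ℤ) ^ 17 + (1) * (q : ℤ) ^ 19 + (1) * (q : ℤ) ^ 23 + (1) * (q : ℤ) ^ 29) (g := (1)) (j := 3) (N := 120) (T := q * (q ^ 12 + 1) * (q ^ 10 + 1) * (q ^ 6 + 1))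
    (L := [55, 165, 1155, 32882905, 426174595, 825, 1155, 15400]) (d := [2, 8, 12, 14, 18, 20, 24, 30]) ?_ (by norm_num) (by omega) ?_ (by norm_num) (by positivity) ?_ (by simpa [mul_assoc] using hd) (hqT := (((dvd_refl q).mul_right _).mul_right _).mul_right _)
  · push_cast; ring
  · obtain ⟨x, rfl⟩ := Nat.exists_eq_add_of_le hge
    have e : ((-3) + (1) * ((15 + x : ℕ) : ℤ) ^ 1 + (1) * ((15 + x : ℕ) : ℤ) ^ 7 + (1) * ((15 + x : ℕ) : ℤ) ^ 11 + (1) * ((15 + x : ℕ) : ℤ) ^ 13 + (1) * ((15 + x : ℕ) : ℤ) ^ 17 + (1) * ((15 + x : ℕ) : ℤ) ^ 19 + (1) * ((15 + x : ℕ) : ℤ) ^ 23 + (1) * ((15 + x : ℕ) : ℤ) ^ 29) - 6466425243105075819089286796875000 =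
        (6316979828050276600306354096640637) + (24714582688642498374958426485984376) * (x : ℤ) ^ 1 + (23066943498559522272063575142900000) * (x : ℤ) ^ 2 + (13840165930873962947252564128725000) * (x : ℤ) ^ 3 + (5997405177820689152534000905196250) * (x : ℤ) ^ 4 + (1999135043569256888908994132395350) * (x : ℤ) ^ 5 + (533102674969791754644595156846980) * (x : ℤ) ^ 6 + (116774871091706479857229299346876) * (x : ℤ) ^ 7 + (21408726286297744351071690763125) * (x : ℤ) ^ 8 + (3330246301659355945852706131125) * (x : ℤ) ^ 9 + (444032839266997214394502996665) * (x : ℤ) ^ 10 + (51131054137657320472416486301) * (x : ℤ) ^ 11 + (5113105407918148974849872070) * (x : ℤ) ^ 12 + (445757906997115788751003126) * (x : ℤ) ^ 13 + (33962507180930918539338750) * (x : ℤ) ^ 14 + (2264167144557646740784350)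 * (x : ℤ) ^ 15 + (132076416734447189520630) * (x : ℤ) ^ 16 + (6733307518809761569726) * (x : ℤ) ^ 17 + (299258111921548303410) * (x : ℤ) ^ 18 + (11550313091170940626) * (x : ℤ) ^ 19 + (385010436363399000) * (x : ℤ) ^ 20 + (11000298181697550) * (x : ℤ) ^ 21 + (266673895312845) * (x : ℤ) ^ 22 + (5410774687501) * (x : ℤ) ^ 23 + (90179578125) * (x : ℤ) ^ 24 + (1202394375) * (x : ℤ) ^ 25 + (12332250) * (x : ℤ) ^ 26 + (91350) * (x : ℤ) ^ 27 + (435) * (x : ℤ) ^ 28 + (1) * (x : ℤ) ^ 29 := by push_cast; ring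
    have h0 : (0 : ℤ) < (6316979828050276600306354096640637) + (24714582688642498374958426485984376) * (x : ℤ) ^ 1 + (23066943498559522272063575142900000) * (x : ℤ) ^ 2 + (13840165930873962947252564128725000) * (x : ℤ) ^ 3 + (5997405177820689152534000905196250) * (x : ℤ) ^ 4 + (1999135043569256888908994132395350) * (x : ℤ) ^ 5 + (533102674969791754644595156846980) * (x : ℤ) ^ 6 + (116774871091706479857229299346876) * (x : ℤ) ^ 7 + (21408726286297744351071690763125) * (x : ℤ) ^ 8 + (3330246301659355945852706131125) * (x : ℤ) ^ 9 + (444032839266997214394502996665) * (x : ℤ) ^ 10 + (51131054137657320472416486301) * (x : ℤ) ^ 11 + (5113105407918148974849872070) * (x : ℤ) ^ 12 + (445757906997115788751003126) * (x : ℤ) ^ 13 + (33962507180930918539338750) * (x : ℤ) ^ 14 + (2264167144557646740784350)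 * (x : ℤ) ^ 15 + (132076416734447189520630) * (x : ℤ) ^ 16 + (6733307518809761569726) * (x : ℤ) ^ 17 + (299258111921548303410) * (x : ℤ) ^ 18 + (11550313091170940626) * (x : ℤ) ^ 19 + (385010436363399000) * (x : ℤ) ^ 20 + (11000298181697550) * (x : ℤ) ^ 21 + (266673895312845) * (x : ℤ) ^ 22 + (5410774687501) * (x : ℤ) ^ 23 + (90179578125) * (x : ℤ) ^ 24 + (1202394375) * (x : ℤ) ^ 25 + (12332250) * (x : ℤ) ^ 26 + (91350) * (x : ℤ) ^ 27 + (435) * (x : ℤ) ^ 28 + (1) * (x : ℤ) ^ 29 := by positivity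
    norm_num
    push_cast at e h0 ⊢
    linarith
  · exact (List.Forall₂.cons ⟨(3) + (8) * (q : ℤ) ^ 1, (-64) + (-21) * (q : ℤ) ^ 1 + (-56) * (q : ℤ) ^ 2 + (-21) * (q : ℤ) ^ 3 + (-56) * (q : ℤ) ^ 4 + (-21) * (q : ℤ) ^ 5 + (-56) * (q : ℤ) ^ 6 + (-18) * (q : ℤ) ^ 7 + (-48) * (q : ℤ) ^ 8 + (-18) * (q : ℤ) ^ 9 + (-48) * (q : ℤ) ^ 10 + (-15) * (q : ℤ) ^ 11 + (-40) * (q : ℤ) ^ 12 + (-12) * (q : ℤ) ^ 13 + (-32) * (q : ℤ) ^ 14 + (-12) * (q : ℤ) ^ 15 + (-32) * (q : ℤ) ^ 16 + (-9) * (q : ℤ) ^ 17 + (-24) * (q : ℤ) ^ 18 + (-6) * (q : ℤ) ^ 19 + (-16) * (q : ℤ) ^ 20 + (-6) * (q : ℤ) ^ 21 + (-16) * (q : ℤ) ^ 22 + (-3) * (q : ℤ) ^ 23 + (-8) * (q : ℤ) ^ 24 + (-3) * (q : ℤ) ^ 25 + (-8) * (q : ℤ) ^ 26 + (-3) * (q : ℤ) ^ 27 + (-8) * (q : ℤ) ^ 28, by push_cast; ring⟩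
      (List.Forall₂.cons ⟨(-39) + (6) * (q : ℤ) ^ 1 + (16) * (q : ℤ) ^ 2 + (6) * (q : ℤ) ^ 3 + (16) * (q : ℤ) ^ 4 + (6) * (q : ℤ) ^ 5 + (16) * (q : ℤ) ^ 6 + (6) * (q : ℤ) ^ 7, (-48) + (-57) * (q : ℤ) ^ 1 + (-42) * (q : ℤ) ^ 2 + (-2) * (q : ℤ) ^ 3 + (-42) * (q : ℤ) ^ 4 + (-2) * (q : ℤ) ^ 5 + (-42) * (q : ℤ) ^ 6 + (-41) * (q : ℤ) ^ 7 + (-36) * (q : ℤ) ^ 8 + (-41) * (q : ℤ) ^ 9 + (-36) * (q : ℤ) ^ 10 + (-25) * (q : ℤ) ^ 11 + (-30) * (q : ℤ) ^ 12 + (-9) * (q : ℤ) ^ 13 + (-24) * (q : ℤ) ^ 14 + (-9) * (q : ℤ) ^ 15 + (-24) * (q : ℤ) ^ 16 + (-48) * (q : ℤ) ^ 17 + (-18) * (q : ℤ) ^ 18 + (-32) * (q : ℤ) ^ 19 + (-12) * (q : ℤ) ^ 20 + (23) * (q : ℤ) ^ 21 + (-12) * (q : ℤ) ^ 22 + (-16) * (q : ℤ) ^ 23 + (-6) * (q : ℤ) ^ 24 + (-16) * (q : ℤ) ^ 25 + (-6) * (q : ℤ) ^ 26 + (-16) * (q :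 ℤ) ^ 27 + (-6) * (q : ℤ) ^ 28, by push_cast; ring⟩
      (List.Forall₂.cons ⟨(-17) + (138) * (q : ℤ) ^ 1 + (-72) * (q : ℤ) ^ 2 + (-192) * (q : ℤ) ^ 3 + (-72) * (q : ℤ) ^ 4 + (138) * (q : ℤ) ^ 5 + (368) * (q : ℤ) ^ 6 + (138) * (q : ℤ) ^ 7 + (-72) * (q : ℤ) ^ 8 + (-192) * (q : ℤ) ^ 9 + (-72) * (q : ℤ) ^ 10 + (138) * (q : ℤ) ^ 11, (-1104) + (-431) * (q : ℤ) ^ 1 + (354) * (q : ℤ) ^ 2 + (504) * (q : ℤ) ^ 3 + (24) * (q : ℤ) ^ 4 + (-486) * (q : ℤ) ^ 5 + (-966) * (q : ℤ) ^ 6 + (-63) * (q : ℤ) ^ 7 + (492) * (q : ℤ) ^ 8 + (432) * (q : ℤ) ^ 9 + (-168) * (q : ℤ) ^ 10 + (-575) * (q : ℤ) ^ 11 + (-690) * (q : ℤ) ^ 12 + (-152) * (q : ℤ) ^ 13 + (438) * (q : ℤ) ^ 14 + (288) * (q : ℤ) ^ 15 + (-222) * (q : ℤ) ^ 16 + (-279) * (q : ℤ) ^ 17 + (-414) * (q : ℤ) ^ 18 + (144) * (q : ℤ) ^ 19 + (384)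 * (q : ℤ) ^ 20 + (144) * (q : ℤ) ^ 21 + (-276) * (q : ℤ) ^ 22 + (-368) * (q : ℤ) ^ 23 + (-138) * (q : ℤ) ^ 24 + (72) * (q : ℤ) ^ 25 + (192) * (q : ℤ) ^ 26 + (72) * (q : ℤ) ^ 27 + (-138) * (q : ℤ) ^ 28, by push_cast; ring⟩
      (List.Forall₂.cons ⟨(-8943156) + (-2383181) * (q : ℤ) ^ 1 + (799929) * (q : ℤ) ^ 2 + (864514) * (q : ℤ) ^ 3 + (1882494) * (q : ℤ) ^ 4 + (1225369) * (q : ℤ) ^ 5 + (2002779) * (q : ℤ) ^ 6 + (1265464) * (q : ℤ) ^ 7 + (2016144) * (q : ℤ) ^ 8 + (1269919) * (q : ℤ) ^ 9 + (2017629) * (q : ℤ) ^ 10 + (1270414) * (q : ℤ) ^ 11 + (2017794) * (q : ℤ) ^ 12 + (1270469) * (q : ℤ) ^ 13, (-6053437) + (-1793613) * (q : ℤ) ^ 1 + (-4782968) * (q : ℤ) ^ 2 + (-1793613) * (q : ℤ) ^ 3 + (-4782968) * (q : ℤ) ^ 4 + (-1793613) * (q : ℤ) ^ 5 + (-4782968) * (q : ℤ) ^ 6 + (-10736769)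 * (q : ℤ) ^ 7 + (-7166149) * (q : ℤ) ^ 8 + (-993684) * (q : ℤ) ^ 9 + (-3918454) * (q : ℤ) ^ 10 + (-8854275) * (q : ℤ) ^ 11 + (-5940780) * (q : ℤ) ^ 12 + (-7934061) * (q : ℤ) ^ 13 + (-5036171) * (q : ℤ) ^ 14 + (2904954) * (q : ℤ) ^ 15 + (-1423166) * (q : ℤ) ^ 16 + (-4833867) * (q : ℤ) ^ 17 + (-3404902) * (q : ℤ) ^ 18 + (-3900123) * (q : ℤ) ^ 19 + (-2495783) * (q : ℤ) ^ 20 + (-4020573) * (q : ℤ) ^ 21 + (-2535933) * (q : ℤ) ^ 22 + (-2016144) * (q : ℤ) ^ 23 + (-1269919) * (q : ℤ) ^ 24 + (-2017629) * (q : ℤ) ^ 25 + (-1270414) * (q : ℤ) ^ 26 + (-2017794) * (q : ℤ) ^ 27 + (-1270469) * (q : ℤ) ^ 28, by push_cast; ring⟩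
      (List.Forall₂.cons ⟨(-39456612) + (8201553) * (q : ℤ) ^ 1 + (-25500087) * (q : ℤ) ^ 2 + (-47560967) * (q : ℤ) ^ 3 + (-26247372) * (q : ℤ) ^ 4 + (41216073) * (q : ℤ) ^ 5 + (95453163) * (q : ℤ) ^ 6 + (52172403) * (q : ℤ) ^ 7 + (-12318072) * (q : ℤ) ^ 8 + (-44851722) * (q : ℤ) ^ 9 + (-10915902) * (q : ℤ) ^ 10 + (8668943) * (q : ℤ) ^ 11 + (73516248) * (q : ℤ) ^ 12 + (41465168) * (q : ℤ) ^ 13 + (-15315297) * (q : ℤ) ^ 14 + (-49276527) * (q : ℤ) ^ 15 + (-15970182) * (q : ℤ) ^ 16 + (51954108) * (q : ℤ) ^ 17, (-307804759) + (-64061271) * (q : ℤ) ^ 1 + (84701814) * (q : ℤ) ^ 2 + (117182814) * (q : ℤ) ^ 3 + (31181149) * (q : ℤ) ^ 4 + (-149895591) * (q : ℤ) ^ 5 + (-245143416) * (q : ℤ) ^ 6 + (-100520658) * (q : ℤ) ^ 7 + (97328172) * (q : ℤ) ^ 8 + (96737007) * (q : ℤ) ^ 9 +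 (-59664983) * (q : ℤ) ^ 10 + (-102626715) * (q : ℤ) ^ 11 + (-162462175) * (q : ℤ) ^ 12 + (-20382792) * (q : ℤ) ^ 13 + (100224048) * (q : ℤ) ^ 14 + (68448753) * (q : ℤ) ^ 15 + (-52562597) * (q : ℤ) ^ 16 + (-152999229) * (q : ℤ) ^ 17 + (-145591679) * (q : ℤ) ^ 18 + (27633369) * (q : ℤ) ^ 19 + (94128249) * (q : ℤ) ^ 20 + (26886084) * (q : ℤ) ^ 21 + (-60623051) * (q : ℤ) ^ 22 + (-73516248) * (q : ℤ) ^ 23 + (-41465168) * (q : ℤ) ^ 24 + (15315297) * (q : ℤ) ^ 25 + (49276527) * (q : ℤ) ^ 26 + (15970182) * (q : ℤ) ^ 27 + (-51954108) * (q : ℤ) ^ 28, by push_cast; ring⟩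
      (List.Forall₂.cons ⟨(-331) + (-21) * (q : ℤ) ^ 1 + (54) * (q : ℤ) ^ 2 + (-21) * (q : ℤ) ^ 3 + (54) * (q : ℤ) ^ 4 + (144) * (q : ℤ) ^ 5 + (54) * (q : ℤ) ^ 6 + (-21) * (q : ℤ) ^ 7 + (54) * (q : ℤ) ^ 8 + (-21) * (q : ℤ) ^ 9 + (-56) * (q : ℤ) ^ 10 + (-21) * (q : ℤ) ^ 11 + (54) * (q : ℤ) ^ 12 + (-21) * (q : ℤ) ^ 13 + (54) * (q : ℤ) ^ 14 + (144) * (q : ℤ) ^ 15 + (54) * (q : ℤ) ^ 16 + (-21) * (q : ℤ) ^ 17 + (54) * (q : ℤ) ^ 18 + (-21) * (q : ℤ) ^ 19, (168) + (-268) * (q : ℤ) ^ 1 + (-183) * (q : ℤ) ^ 2 + (117) * (q : ℤ) ^ 3 + (-183) * (q : ℤ) ^ 4 + (-378) * (q : ℤ) ^ 5 + (-18) * (q : ℤ) ^ 6 + (-214) * (q : ℤ) ^ 7 + (-204) * (q : ℤ) ^ 8 + (171) * (q : ℤ) ^ 9 + (126) * (q : ℤ) ^ 10 + (-270) * (q : ℤ) ^ 11 + (-60) * (q : ℤ) ^ 12 + (-106) * (q : ℤ) ^ 13 + (-246) * (q : ℤ) ^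 14 + (-216) * (q : ℤ) ^ 15 + (84) * (q : ℤ) ^ 16 + (-162) * (q : ℤ) ^ 17 + (-102) * (q : ℤ) ^ 18 + (2) * (q : ℤ) ^ 19 + (42) * (q : ℤ) ^ 20 + (-108) * (q : ℤ) ^ 21 + (42) * (q : ℤ) ^ 22 + (-54) * (q : ℤ) ^ 23 + (-144) * (q : ℤ) ^ 24 + (-54) * (q : ℤ) ^ 25 + (21) * (q : ℤ) ^ 26 + (-54) * (q : ℤ) ^ 27 + (21) * (q : ℤ) ^ 28, by push_cast; ring⟩
      (List.Forall₂.cons ⟨(-201) + (69) * (q : ℤ) ^ 1 + (-36) * (q : ℤ) ^ 2 + (-96) * (q : ℤ) ^ 3 + (-36) * (q : ℤ) ^ 4 + (69) * (q : ℤ) ^ 5 + (184) * (q : ℤ) ^ 6 + (69) * (q : ℤ) ^ 7 + (-36) * (q : ℤ) ^ 8 + (-96) * (q : ℤ) ^ 9 + (-36) * (q : ℤ) ^ 10 + (69) * (q : ℤ) ^ 11 + (184) * (q : ℤ) ^ 12 + (69) * (q : ℤ) ^ 13 + (-36) * (q : ℤ) ^ 14 + (-96) * (q : ℤ) ^ 15 + (-36) * (q : ℤ) ^ 16 + (69) * (q : ℤ) ^ 17 + (184) * (q : ℤ) ^ 18 +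 (69) * (q : ℤ) ^ 19 + (-36) * (q : ℤ) ^ 20 + (-96) * (q : ℤ) ^ 21 + (-36) * (q : ℤ) ^ 22 + (69) * (q : ℤ) ^ 23, (-552) + (-408) * (q : ℤ) ^ 1 + (177) * (q : ℤ) ^ 2 + (252) * (q : ℤ) ^ 3 + (12) * (q : ℤ) ^ 4 + (-243) * (q : ℤ) ^ 5 + (-483) * (q : ℤ) ^ 6 + (-224) * (q : ℤ) ^ 7 + (246) * (q : ℤ) ^ 8 + (216) * (q : ℤ) ^ 9 + (-84) * (q : ℤ) ^ 10 + (-480) * (q : ℤ) ^ 11 + (-345) * (q : ℤ) ^ 12 + (-76) * (q : ℤ) ^ 13 + (219) * (q : ℤ) ^ 14 + (144) * (q : ℤ) ^ 15 + (-111) * (q : ℤ) ^ 16 + (-332) * (q : ℤ) ^ 17 + (-207) * (q : ℤ) ^ 18 + (72) * (q : ℤ) ^ 19 + (192) * (q : ℤ) ^ 20 + (72) * (q : ℤ) ^ 21 + (-138) * (q : ℤ) ^ 22 + (-184) * (q : ℤ) ^ 23 + (-69) * (q : ℤ) ^ 24 + (36) * (q : ℤ) ^ 25 + (96) * (q : ℤ) ^ 26 + (36) * (q : ℤ) ^ 27 + (-69) * (q : ℤ) ^ 28, by push_cast; ring⟩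
      (List.Forall₂.cons ⟨(-4608) + (197) * (q : ℤ) ^ 1 + (-153) * (q : ℤ) ^ 2 + (-1178) * (q : ℤ) ^ 3 + (-153) * (q : ℤ) ^ 4 + (2892) * (q : ℤ) ^ 5 + (2322) * (q : ℤ) ^ 6 + (197) * (q : ℤ) ^ 7 + (-153) * (q : ℤ) ^ 8 + (-1178) * (q : ℤ) ^ 9 + (-1308) * (q : ℤ) ^ 10 + (197) * (q : ℤ) ^ 11 + (2322) * (q : ℤ) ^ 12 + (197) * (q : ℤ) ^ 13 + (-153) * (q : ℤ) ^ 14 + (-408) * (q : ℤ) ^ 15 + (-153) * (q : ℤ) ^ 16 + (197) * (q : ℤ) ^ 17 + (2322) * (q : ℤ) ^ 18 + (197) * (q : ℤ) ^ 19 + (-1308) * (q : ℤ) ^ 20 + (-1178) * (q : ℤ) ^ 21 + (-153) * (q : ℤ) ^ 22 + (197) * (q : ℤ) ^ 23 + (2322) * (q : ℤ) ^ 24 + (2892) * (q : ℤ) ^ 25 + (-153) * (q : ℤ) ^ 26 + (-1178) * (q : ℤ) ^ 27 + (-153) * (q : ℤ) ^ 28 + (197) * (q : ℤ) ^ 29, (-1576) + (-5199) * (q : ℤ) ^ 1 + (656) * (q : ℤ) ^ 2 + (3381)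 * (q : ℤ) ^ 3 + (-719) * (q : ℤ) ^ 4 + (-8829) * (q : ℤ) ^ 5 + (-4074) * (q : ℤ) ^ 6 + (-2877) * (q : ℤ) ^ 7 + (853) * (q : ℤ) ^ 8 + (3228) * (q : ℤ) ^ 9 + (1568) * (q : ℤ) ^ 10 + (-6660) * (q : ℤ) ^ 11 + (-3680) * (q : ℤ) ^ 12 + (-708) * (q : ℤ) ^ 13 + (-128) * (q : ℤ) ^ 14 + (612) * (q : ℤ) ^ 15 + (587) * (q : ℤ) ^ 16 + (-4491) * (q : ℤ) ^ 17 + (-3286) * (q : ℤ) ^ 18 + (1461) * (q : ℤ) ^ 19 + (2356) * (q : ℤ) ^ 20 + (306) * (q : ℤ) ^ 21 + (-394) * (q : ℤ) ^ 22 + (-2322) * (q : ℤ) ^ 23 + (-2892) * (q : ℤ) ^ 24 + (153) * (q : ℤ) ^ 25 + (1178) * (q : ℤ) ^ 26 + (153) * (q : ℤ) ^ 27 + (-197) * (q : ℤ) ^ 28, by push_cast; ring⟩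
      List.Forall₂.nil))))))))

theorem exclE8_4 (q : ℕ) (hq : IsPrimePow q) :
    ¬ q * (q ^ 12 + 1) * (q ^ 10 + 1) * (q ^ 6 + 1) - 4 ∣ q ^ 120 * ((q ^ 2 - 1) * (q ^ 8 - 1) * (q ^ 12 - 1) * (q ^ 14 - 1) * (q ^ 18 - 1) * (q ^ 20 - 1) * (q ^ 24 - 1) * (q ^ 30 - 1)) := by
  intro hd
  have hq2 : 2 ≤ q := hq.two_le
  rcases Nat.lt_or_ge q 11 with hlt | hge
  · exact (by decide +kernel : ∀ q < 11, 2 ≤ q →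
      ¬ q * (q ^ 12 + 1) * (q ^ 10 + 1) * (q ^ 6 + 1) - 4 ∣ q ^ 120 * ((q ^ 2 - 1) * (q ^ 8 - 1) * (q ^ 12 - 1) * (q ^ 14 - 1) * (q ^ 18 - 1) * (q ^ 20 - 1) * (q ^ 24 - 1) * (q ^ 30 - 1))) q hlt hq2 hd
  refine no_dvd hq ((-4) + (-3) * (q : ℤ) ^ 1 + (1) * (q : ℤ) ^ 2 + (4) * (q : ℤ) ^ 3 + (3) * (q : ℤ) ^ 4 + (-1) * (q : ℤ) ^ 5 + (-4) * (q : ℤ) ^ 6 + (-2) * (q : ℤ) ^ 7 + (2) * (q : ℤ) ^ 8 + (4) * (q : ℤ) ^ 9 + (2) * (q : ℤ) ^ 10 + (-1) * (q : ℤ) ^ 11 + (-3) * (q : ℤ) ^ 12 + (-1) * (q : ℤ) ^ 13 + (2) * (q : ℤ) ^ 14 + (3) * (q : ℤ) ^ 15 + (1) * (q : ℤ) ^ 16 + (-1) * (q : ℤ) ^ 17 + (-2) * (q : ℤ) ^ 18 + (2) * (q : ℤ) ^ 20 + (2) * (q : ℤ) ^ 21 + (-1) * (q : ℤ) ^ 23 + (-1) * (q : ℤ) ^ 24 + (1) * (q : ℤ) ^ 26 + (1) * (q : ℤ) ^ 27) (g := (1) + (-1) * (q : ℤ) ^ 1 + (1) * (q :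 ℤ) ^ 2) (j := 4) (N := 120) (T := q * (q ^ 12 + 1) * (q ^ 10 + 1) * (q ^ 6 + 1))
    (L := [4, 8, 160, 71582788, 222848720, 24, 320, 3600]) (d := [2, 8, 12, 14, 18, 20, 24, 30]) ?_ (by norm_num) (by omega) ?_ (by norm_num) (by positivity) ?_ (by simpa [mul_assoc] using hd) (hqT := (((dvd_refl q).mul_right _).mul_right _).mul_right _)
  · push_cast; ring
  · obtain ⟨x, rfl⟩ := Nat.exists_eq_add_of_le hge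
    have e : ((-4) + (-3) * ((11 + x : ℕ) : ℤ) ^ 1 + (1) * ((11 + x : ℕ) : ℤ) ^ 2 + (4) * ((11 + x : ℕ) : ℤ) ^ 3 + (3) * ((11 + x : ℕ) : ℤ) ^ 4 + (-1) * ((11 + x : ℕ) : ℤ) ^ 5 + (-4) * ((11 + x : ℕ) : ℤ) ^ 6 + (-2) * ((11 + x : ℕ) : ℤ) ^ 7 + (2) * ((11 + x : ℕ) : ℤ) ^ 8 + (4) * ((11 + x : ℕ) : ℤ) ^ 9 + (2) * ((11 + x : ℕ) : ℤ) ^ 10 + (-1) * ((11 + x : ℕ) : ℤ) ^ 11 + (-3) * ((11 + x : ℕ) : ℤ) ^ 12 + (-1) * ((11 + x : ℕ) : ℤ) ^ 13 + (2) * ((11 + x : ℕ) : ℤ) ^ 14 + (3) * ((11 + x : ℕ) : ℤ) ^ 15 + (1) * ((11 + x : ℕ) : ℤ) ^ 16 + (-1) * ((11 + x : ℕ) : ℤ) ^ 17 + (-2) * ((11 + x : ℕ) : ℤ) ^ 18 + (2) * ((11 + x : ℕ) : ℤ) ^ 20 + (2) * ((11 + x : ℕ) : ℤ) ^ 21 + (-1) * ((11 + x : ℕ) : ℤ) ^ 23 + (-1) * ((11 + x : ℕ) : ℤ) ^ 24 + (1) * ((11 + x : ℕ) : ℤ) ^ 26 + (1) * ((11 + x : ℕ)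 : ℤ) ^ 27) - 9032592677518897997414400000 =
        (5258490139268484002015925164) + (34972768291041425926738745316) * (x : ℤ) ^ 1 + (41206669343878827656657073120) * (x : ℤ) ^ 2 + (31122433097820270884456534364) * (x : ℤ) ^ 3 + (16924088160325106904035985898) * (x : ℤ) ^ 4 + (7055647806675479038917017688) * (x : ℤ) ^ 5 + (2344636334008054748091000974) * (x : ℤ) ^ 6 + (637466519209042354310865538) * (x : ℤ) ^ 7 + (144428059529593487265428791) * (x : ℤ) ^ 8 + (27631883819812840832761864) * (x : ℤ) ^ 9 + (4507383901112289141783874) * (x : ℤ) ^ 10 + (631271442983395665072357) * (x : ℤ) ^ 11 + (76275336206698332161741) * (x : ℤ) ^ 12 + (7975451244004827066736) * (x : ℤ) ^ 13 + (722724124578750115351) * (x : ℤ) ^ 14 + (56759175206010508069) * (x : ℤ) ^ 15 + (3857473904303135458)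 * (x : ℤ) ^ 16 + (226176108314648337) * (x : ℤ) ^ 17 + (11385931847042333) * (x : ℤ) ^ 18 + (488704478913376) * (x : ℤ) ^ 19 + (17712901020157) * (x : ℤ) ^ 20 + (534990981835) * (x : ℤ) ^ 21 + (13220496531) * (x : ℤ) ^ 22 + (260409885) * (x : ℤ) ^ 23 + (3932499) * (x : ℤ) ^ 24 + (42757) * (x : ℤ) ^ 25 + (298) * (x : ℤ) ^ 26 + (1) * (x : ℤ) ^ 27 := by push_cast; ring
    have h0 : (0 : ℤ) < (5258490139268484002015925164) + (34972768291041425926738745316) * (x : ℤ) ^ 1 + (41206669343878827656657073120) * (x : ℤ) ^ 2 + (31122433097820270884456534364) * (x : ℤ) ^ 3 + (16924088160325106904035985898) * (x : ℤ) ^ 4 + (7055647806675479038917017688) * (x : ℤ) ^ 5 + (2344636334008054748091000974) * (x : ℤ) ^ 6 + (637466519209042354310865538) * (x : ℤ) ^ 7 + (144428059529593487265428791)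 * (x : ℤ) ^ 8 + (27631883819812840832761864) * (x : ℤ) ^ 9 + (4507383901112289141783874) * (x : ℤ) ^ 10 + (631271442983395665072357) * (x : ℤ) ^ 11 + (76275336206698332161741) * (x : ℤ) ^ 12 + (7975451244004827066736) * (x : ℤ) ^ 13 + (722724124578750115351) * (x : ℤ) ^ 14 + (56759175206010508069) * (x : ℤ) ^ 15 + (3857473904303135458) * (x : ℤ) ^ 16 + (226176108314648337) * (x : ℤ) ^ 17 + (11385931847042333) * (x : ℤ) ^ 18 + (488704478913376) * (x : ℤ) ^ 19 + (17712901020157) * (x : ℤ) ^ 20 + (534990981835) * (x : ℤ) ^ 21 + (13220496531) * (x : ℤ) ^ 22 + (260409885) * (x : ℤ) ^ 23 + (3932499) * (x : ℤ) ^ 24 + (42757) * (x : ℤ) ^ 25 + (298) * (x : ℤ) ^ 26 + (1) * (x : ℤ) ^ 27 := by positivity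
    norm_num
    push_cast at e h0 ⊢
    linarith
  · exact (List.Forall₂.cons ⟨(1) * (q : ℤ) ^ 1, (-4) + (-4) * (q : ℤ) ^ 1 + (-7) * (q : ℤ) ^ 2 + (-3) * (q : ℤ) ^ 3 + (-3) * (q : ℤ) ^ 4 + (-4) * (q : ℤ) ^ 6 + (-4) * (q : ℤ) ^ 7 + (-6) * (q : ℤ) ^ 8 + (-2) * (q : ℤ) ^ 9 + (-2) * (q : ℤ) ^ 10 + (-3) * (q : ℤ) ^ 12 + (-3) * (q : ℤ) ^ 13 + (-4) * (q : ℤ) ^ 14 + (-1) * (q : ℤ) ^ 15 + (-1) * (q : ℤ) ^ 16 + (-2) * (q : ℤ) ^ 18 + (-2) * (q : ℤ) ^ 19 + (-2) * (q : ℤ) ^ 20 + (-1) * (q : ℤ) ^ 24 + (-1) * (q : ℤ) ^ 25 + (-1) * (q : ℤ) ^ 26, by push_cast; ring⟩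
      (List.Forall₂.cons ⟨(-1) + (2) * (q : ℤ) ^ 1 + (-1) * (q : ℤ) ^ 2 + (1) * (q : ℤ) ^ 4 + (1) * (q : ℤ) ^ 6, (-4) + (-5) * (q : ℤ) ^ 1 + (-3) * (q : ℤ) ^ 2 + (1) * (q : ℤ) ^ 3 + (-4) * (q : ℤ) ^ 6 + (-4) * (q : ℤ) ^ 7 + (-2) * (q : ℤ) ^ 8 + (-1) * (q : ℤ) ^ 11 + (-3) * (q : ℤ) ^ 12 + (-2) * (q : ℤ) ^ 13 + (-1) * (q : ℤ) ^ 14 + (1) * (q : ℤ) ^ 15 + (-2) * (q : ℤ) ^ 17 + (-2) * (q : ℤ) ^ 18 + (-2) * (q : ℤ) ^ 19 + (2) * (q : ℤ) ^ 21 + (-1) * (q : ℤ) ^ 23 + (-1) * (q : ℤ) ^ 24 + (-1) * (q : ℤ) ^ 25, by push_cast; ring⟩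
      (List.Forall₂.cons ⟨(-24) + (33) * (q : ℤ) ^ 1 + (-23) * (q : ℤ) ^ 2 + (4) * (q : ℤ) ^ 3 + (7) * (q : ℤ) ^ 4 + (3) * (q : ℤ) ^ 5 + (16) * (q : ℤ) ^ 6 + (-7) * (q : ℤ) ^ 7 + (17) * (q : ℤ) ^ 8 + (4) * (q : ℤ) ^ 9 + (7) * (q : ℤ) ^ 10 + (3) * (q : ℤ) ^ 11, (-64) + (-60) * (q : ℤ) ^ 1 + (-31) * (q : ℤ) ^ 2 + (-10) * (q : ℤ) ^ 3 + (-3) * (q : ℤ) ^ 4 + (2) * (q : ℤ) ^ 5 + (-56) * (q : ℤ) ^ 6 + (-38) * (q : ℤ) ^ 7 + (-24) * (q : ℤ) ^ 8 + (-8) * (q : ℤ) ^ 9 + (-4) * (q : ℤ) ^ 10 + (-18) * (q : ℤ) ^ 11 + (-39) * (q : ℤ) ^ 12 + (-48) * (q : ℤ) ^ 13 + (-14) * (q : ℤ) ^ 14 + (-4) * (q : ℤ) ^ 15 + (-3) * (q : ℤ) ^ 16 + (2) * (q : ℤ) ^ 17 + (-24) * (q : ℤ) ^ 18 + (-20) * (q : ℤ) ^ 19 + (-4) * (q : ℤ) ^ 20 + (2) * (q : ℤ) ^ 21 + (-18) * (q : ℤ) ^ 23 + (-11) * (q : ℤ) ^ 24 + (-10)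 * (q : ℤ) ^ 25 + (-3) * (q : ℤ) ^ 26, by push_cast; ring⟩
      (List.Forall₂.cons ⟨(-13123512) + (14614819) * (q : ℤ) ^ 1 + (-9768068) * (q : ℤ) ^ 2 + (-2442017) * (q : ℤ) ^ 3 + (3863420) * (q : ℤ) ^ 4 + (965855) * (q : ℤ) ^ 5 + (4715388) * (q : ℤ) ^ 6 + (1178847) * (q : ℤ) ^ 7 + (4768636) * (q : ℤ) ^ 8 + (1192159) * (q : ℤ) ^ 9 + (4771964) * (q : ℤ) ^ 10 + (1192991) * (q : ℤ) ^ 11 + (4772172) * (q : ℤ) ^ 12 + (1193043) * (q : ℤ) ^ 13, (-19088740) + (-19088740) * (q : ℤ) ^ 1 + (-17895697) * (q : ℤ) ^ 2 + (1193043) * (q : ℤ) ^ 3 + (1193043) * (q : ℤ) ^ 4 + (-19088740) * (q : ℤ) ^ 6 + (-32212252) * (q : ℤ) ^ 7 + (-16404390) * (q : ℤ) ^ 8 + (6039794) * (q : ℤ) ^ 9 + (2106470) * (q : ℤ) ^ 10 + (-13193416) * (q : ℤ) ^ 11 + (-17614909) * (q : ℤ) ^ 12 + (-22597685) * (q : ℤ)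 ^ 13 + (-9526824) * (q : ℤ) ^ 14 + (11934849) * (q : ℤ) ^ 15 + (3281973) * (q : ℤ) ^ 16 + (-8425616) * (q : ℤ) ^ 17 + (-11650774) * (q : ℤ) ^ 18 + (-11860542) * (q : ℤ) ^ 19 + (-2368614) * (q : ℤ) ^ 20 + (4368) * (q : ℤ) ^ 21 + (1092) * (q : ℤ) ^ 22 + (-4771912) * (q : ℤ) ^ 23 + (-5965163) * (q : ℤ) ^ 24 + (-5965215) * (q : ℤ) ^ 25 + (-1193043) * (q : ℤ) ^ 26, by push_cast; ring⟩
      (List.Forall₂.cons ⟨(-42767612) + (43479559) * (q : ℤ) ^ 1 + (-30956729) * (q : ℤ) ^ 2 + (-2788068) * (q : ℤ) ^ 3 + (2568501) * (q : ℤ) ^ 4 + (7832089) * (q : ℤ) ^ 5 + (11222148) * (q : ℤ) ^ 6 + (246599) * (q : ℤ) ^ 7 + (13336391) * (q : ℤ) ^ 8 + (8186892) * (q : ℤ) ^ 9 + (8662021) * (q : ℤ) ^ 10 + (-6437191) * (q : ℤ) ^ 11 + (20403028) * (q : ℤ) ^ 12 + (-7513241) * (q : ℤ) ^ 13 + (9263511)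 * (q : ℤ) ^ 14 + (5743612) * (q : ℤ) ^ 15 + (8268741) * (q : ℤ) ^ 16 + (6961929) * (q : ℤ) ^ 17, (-51778272) + (-45615400) * (q : ℤ) ^ 1 + (-49379373) * (q : ℤ) ^ 2 + (-23568430) * (q : ℤ) ^ 3 + (12748871) * (q : ℤ) ^ 4 + (7557446) * (q : ℤ) ^ 5 + (-42247928) * (q : ℤ) ^ 6 + (-82337234) * (q : ℤ) ^ 7 + (-49708712) * (q : ℤ) ^ 8 + (-17739384) * (q : ℤ) ^ 9 + (2720068) * (q : ℤ) ^ 10 + (14671126) * (q : ℤ) ^ 11 + (-24786597) * (q : ℤ) ^ 12 + (-51503924) * (q : ℤ) ^ 13 + (-30346522) * (q : ℤ) ^ 14 + (-7605372) * (q : ℤ) ^ 15 + (8640711) * (q : ℤ) ^ 16 + (-23647834) * (q : ℤ) ^ 17 + (-31983832) * (q : ℤ) ^ 18 + (-30935900) * (q : ℤ) ^ 19 + (-12882572) * (q : ℤ) ^ 20 + (1122566) * (q : ℤ) ^ 21 + (13480400) * (q : ℤ) ^ 22 + (-8045194) * (q : ℤ) ^ 23 + (-14012353) * (q : ℤ)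 ^ 24 + (-15230670) * (q : ℤ) ^ 25 + (-6961929) * (q : ℤ) ^ 26, by push_cast; ring⟩
      (List.Forall₂.cons ⟨(-5) + (6) * (q : ℤ) ^ 1 + (-5) * (q : ℤ) ^ 2 + (-1) * (q : ℤ) ^ 3 + (2) * (q : ℤ) ^ 4 + (1) * (q : ℤ) ^ 5 + (1) * (q : ℤ) ^ 7 + (2) * (q : ℤ) ^ 8 + (-1) * (q : ℤ) ^ 9 + (1) * (q : ℤ) ^ 10 + (1) * (q : ℤ) ^ 12 + (-1) * (q : ℤ) ^ 13 + (2) * (q : ℤ) ^ 14 + (1) * (q : ℤ) ^ 15 + (1) * (q : ℤ) ^ 17 + (2) * (q : ℤ) ^ 18 + (-1) * (q : ℤ) ^ 19, (-4) + (-9) * (q : ℤ) ^ 1 + (-3) * (q : ℤ) ^ 2 + (5) * (q : ℤ) ^ 3 + (-1) * (q : ℤ) ^ 4 + (-8) * (q : ℤ) ^ 5 + (-6) * (q : ℤ) ^ 6 + (-7) * (q : ℤ) ^ 7 + (-2) * (q : ℤ) ^ 8 + (6) * (q : ℤ) ^ 9 + (2) * (q : ℤ) ^ 10 + (-6) * (q : ℤ) ^ 11 + (-5) * (q : ℤ) ^ 12 + (-4) * (q : ℤ) ^ 13 + (-2) * (q : ℤ) ^ 14 + (-1) * (q : ℤ) ^ 15 + (1) *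 (q : ℤ) ^ 16 + (-4) * (q : ℤ) ^ 17 + (-4) * (q : ℤ) ^ 18 + (-1) * (q : ℤ) ^ 19 + (2) * (q : ℤ) ^ 20 + (-2) * (q : ℤ) ^ 23 + (-3) * (q : ℤ) ^ 24 + (-1) * (q : ℤ) ^ 25 + (1) * (q : ℤ) ^ 26, by push_cast; ring⟩
      (List.Forall₂.cons ⟨(-64) + (73) * (q : ℤ) ^ 1 + (-63) * (q : ℤ) ^ 2 + (4) * (q : ℤ) ^ 3 + (7) * (q : ℤ) ^ 4 + (3) * (q : ℤ) ^ 5 + (16) * (q : ℤ) ^ 6 + (-7) * (q : ℤ) ^ 7 + (17) * (q : ℤ) ^ 8 + (4) * (q : ℤ) ^ 9 + (7) * (q : ℤ) ^ 10 + (3) * (q : ℤ) ^ 11 + (16) * (q : ℤ) ^ 12 + (-7) * (q : ℤ) ^ 13 + (17) * (q : ℤ) ^ 14 + (4) * (q : ℤ) ^ 15 + (7) * (q : ℤ) ^ 16 + (3) * (q : ℤ) ^ 17 + (16) * (q : ℤ) ^ 18 + (-7) * (q : ℤ) ^ 19 + (17) * (q : ℤ) ^ 20 + (4) * (q : ℤ) ^ 21 + (7) * (q : ℤ) ^ 22 + (3) * (q : ℤ) ^ 23, (-64) + (-100) * (q : ℤ) ^ 1 + (-31) * (q : ℤ) ^ 2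 + (-10) * (q : ℤ) ^ 3 + (-3) * (q : ℤ) ^ 4 + (2) * (q : ℤ) ^ 5 + (-56) * (q : ℤ) ^ 6 + (-78) * (q : ℤ) ^ 7 + (-24) * (q : ℤ) ^ 8 + (-8) * (q : ℤ) ^ 9 + (-4) * (q : ℤ) ^ 10 + (-58) * (q : ℤ) ^ 11 + (-39) * (q : ℤ) ^ 12 + (-48) * (q : ℤ) ^ 13 + (-14) * (q : ℤ) ^ 14 + (-4) * (q : ℤ) ^ 15 + (-3) * (q : ℤ) ^ 16 + (-38) * (q : ℤ) ^ 17 + (-24) * (q : ℤ) ^ 18 + (-20) * (q : ℤ) ^ 19 + (-4) * (q : ℤ) ^ 20 + (2) * (q : ℤ) ^ 21 + (-18) * (q : ℤ) ^ 23 + (-11) * (q : ℤ) ^ 24 + (-10) * (q : ℤ) ^ 25 + (-3) * (q : ℤ) ^ 26, by push_cast; ring⟩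
      (List.Forall₂.cons ⟨(-796) + (837) * (q : ℤ) ^ 1 + (-787) * (q : ℤ) ^ 2 + (-44) * (q : ℤ) ^ 3 + (103) * (q : ℤ) ^ 4 + (227) * (q : ℤ) ^ 5 + (-36) * (q : ℤ) ^ 6 + (77) * (q : ℤ) ^ 7 + (253) * (q : ℤ) ^ 8 + (-44) * (q : ℤ) ^ 9 + (23) * (q : ℤ) ^ 10 + (27) * (q : ℤ) ^ 11 + (164) * (q : ℤ) ^ 12 + (-203) * (q : ℤ) ^ 13 + (253) * (q : ℤ) ^ 14 + (-4) * (q : ℤ) ^ 15 + (63) * (q : ℤ) ^ 16 + (-13) * (q : ℤ) ^ 17 + (244) * (q : ℤ) ^ 18 + (-203) * (q : ℤ) ^ 19 + (173) * (q : ℤ) ^ 20 + (36) * (q : ℤ) ^ 21 + (23) * (q : ℤ) ^ 22 + (-53) * (q : ℤ) ^ 23 + (244) * (q : ℤ) ^ 24 + (77) * (q : ℤ) ^ 25 + (-27) * (q : ℤ) ^ 26 + (236) * (q : ℤ) ^ 27 + (103) * (q : ℤ) ^ 28 + (-53) * (q : ℤ) ^ 29, (-416) + (-960) * (q : ℤ) ^ 1 + (-159) * (q : ℤ) ^ 2 + (190) * (q : ℤ) ^ 3 + (-107) * (q :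 ℤ) ^ 4 + (-1102) * (q : ℤ) ^ 5 + (-624) * (q : ℤ) ^ 6 + (-662) * (q : ℤ) ^ 7 + (-136) * (q : ℤ) ^ 8 + (168) * (q : ℤ) ^ 9 + (124) * (q : ℤ) ^ 10 + (-822) * (q : ℤ) ^ 11 + (-511) * (q : ℤ) ^ 12 + (-332) * (q : ℤ) ^ 13 + (-166) * (q : ℤ) ^ 14 + (4) * (q : ℤ) ^ 15 + (53) * (q : ℤ) ^ 16 + (-542) * (q : ℤ) ^ 17 + (-416) * (q : ℤ) ^ 18 + (-20) * (q : ℤ) ^ 19 + (124) * (q : ℤ) ^ 20 + (18) * (q : ℤ) ^ 21 + (-262) * (q : ℤ) ^ 23 + (-339) * (q : ℤ) ^ 24 + (-50) * (q : ℤ) ^ 25 + (53) * (q : ℤ) ^ 26, by push_cast; ring⟩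
      List.Forall₂.nil))))))))

theorem exclE8_5 (q : ℕ) (hq : IsPrimePow q) :
    ¬ q * (q ^ 12 + 1) * (q ^ 10 + 1) * (q ^ 6 + 1) - 5 ∣ q ^ 120 * ((q ^ 2 - 1) * (q ^ 8 - 1) * (q ^ 12 - 1) * (q ^ 14 - 1) * (q ^ 18 - 1) * (q ^ 20 - 1) * (q ^ 24 - 1) * (q ^ 30 - 1)) := by
  intro hd
  have hq2 : 2 ≤ q := hq.two_le
  rcases Nat.lt_or_ge q 23 with hlt | hge
  · exact (by decide +kernel : ∀ q < 23, 2 ≤ q →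
      ¬ q * (q ^ 12 + 1) * (q ^ 10 + 1) * (q ^ 6 + 1) - 5 ∣ q ^ 120 * ((q ^ 2 - 1) * (q ^ 8 - 1) * (q ^ 12 - 1) * (q ^ 14 - 1) * (q ^ 18 - 1) * (q ^ 20 - 1) * (q ^ 24 - 1) * (q ^ 30 - 1))) q hlt hq2 hd
  refine no_dvd hq ((-5) + (1) * (q : ℤ) ^ 1 + (1) * (q : ℤ) ^ 7 + (1) * (q : ℤ) ^ 11 + (1) * (q : ℤ) ^ 13 + (1) * (q : ℤ) ^ 17 + (1) * (q : ℤ) ^ 19 + (1) * (q : ℤ) ^ 23 + (1) * (q : ℤ) ^ 29) (g := (1)) (j := 5) (N := 120) (T := q * (q ^ 12 + 1) * (q ^ 10 + 1) * (q ^ 6 + 1))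
    (L := [39, 195, 1755, 9918212889, 36754479567, 1365, 1755, 19656]) (d := [2, 8, 12, 14, 18, 20, 24, 30]) ?_ (by norm_num) (by omega) ?_ (by norm_num) (by positivity) ?_ (by simpa [mul_assoc] using hd) (hqT := (((dvd_refl q).mul_right _).mul_right _).mul_right _)
  · push_cast; ring
  · obtain ⟨x, rfl⟩ := Nat.exists_eq_add_of_le hge
    have e : ((-5) + (1) * ((23 + x : ℕ) : ℤ) ^ 1 + (1) * ((23 + x : ℕ) : ℤ) ^ 7 + (1) * ((23 + x : ℕ) : ℤ) ^ 11 + (1) * ((23 + x : ℕ) : ℤ) ^ 13 + (1) * ((23 + x : ℕ) : ℤ) ^ 17 + (1) * ((23 + x : ℕ) : ℤ) ^ 19 + (1) * ((23 + x : ℕ) : ℤ) ^ 23 + (1) * ((23 + x : ℕ) : ℤ) ^ 29) - 1145499655112998307058740419947997575000 =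
        (1945559008861081972110189593495708715995) + (3897421788259337923891028948531935073400) * (x : ℤ) ^ 1 + (2372343694477783396307203630702438588640) * (x : ℤ) ^ 2 + (928308401318580367744365312330950773320) * (x : ℤ) ^ 3 + (262348026261382154108690450905251602250) * (x : ℤ) ^ 4 + (57032179587567161157889922594398124310) * (x : ℤ) ^ 5 + (9918639923526347205396123927190709668) * (x : ℤ) ^ 6 + (1416948559973132787368198043939321852) * (x : ℤ) ^ 7 + (169417762556457587174069571187138973) * (x : ℤ) ^ 8 + (17187309241068592642166339160671557) * (x : ℤ) ^ 9 + (1494548629411002239370436716096433) * (x : ℤ) ^ 10 + (112238829863040062042069756689117) * (x : ℤ) ^ 11 + (7319923686075867275758980395830) * (x : ℤ) ^ 12 + (416182952025284626423534461078) * (x : ℤ) ^ 13 + (20679898236398093182405386254)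 * (x : ℤ) ^ 14 + (899126010252579980658080734) * (x : ℤ) ^ 15 + (34205880824200374684084838) * (x : ℤ) ^ 16 + (1137279925088482276272478) * (x : ℤ) ^ 17 + (32964635509594503963874) * (x : ℤ) ^ 18 + (829773433876979598546) * (x : ℤ) ^ 19 + (18038552910336800072) * (x : ℤ) ^ 20 + (336122103919051582) * (x : ℤ) ^ 21 + (5314183461169189) * (x : ℤ) ^ 22 + (70320007992781) * (x : ℤ) ^ 23 + (764347912965) * (x : ℤ) ^ 24 + (6646503591) * (x : ℤ) ^ 25 + (44458218) * (x : ℤ) ^ 26 + (214774) * (x : ℤ) ^ 27 + (667) * (x : ℤ) ^ 28 + (1) * (x : ℤ) ^ 29 := by push_cast; ring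
    have h0 : (0 : ℤ) < (1945559008861081972110189593495708715995) + (3897421788259337923891028948531935073400) * (x : ℤ) ^ 1 + (2372343694477783396307203630702438588640) * (x : ℤ) ^ 2 + (928308401318580367744365312330950773320) * (x : ℤ) ^ 3 + (262348026261382154108690450905251602250) * (x : ℤ) ^ 4 + (57032179587567161157889922594398124310) * (x : ℤ) ^ 5 + (9918639923526347205396123927190709668) * (x : ℤ) ^ 6 + (1416948559973132787368198043939321852) * (x : ℤ) ^ 7 + (169417762556457587174069571187138973) * (x : ℤ) ^ 8 + (17187309241068592642166339160671557) * (x : ℤ) ^ 9 + (1494548629411002239370436716096433) * (x : ℤ) ^ 10 + (112238829863040062042069756689117) * (x : ℤ) ^ 11 + (7319923686075867275758980395830) * (x : ℤ) ^ 12 + (416182952025284626423534461078) * (x :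 ℤ) ^ 13 + (20679898236398093182405386254) * (x : ℤ) ^ 14 + (899126010252579980658080734) * (x : ℤ) ^ 15 + (34205880824200374684084838) * (x : ℤ) ^ 16 + (1137279925088482276272478) * (x : ℤ) ^ 17 + (32964635509594503963874) * (x : ℤ) ^ 18 + (829773433876979598546) * (x : ℤ) ^ 19 + (18038552910336800072) * (x : ℤ) ^ 20 + (336122103919051582) * (x : ℤ) ^ 21 + (5314183461169189) * (x : ℤ) ^ 22 + (70320007992781) * (x : ℤ) ^ 23 + (764347912965) * (x : ℤ) ^ 24 + (6646503591) * (x : ℤ) ^ 25 + (44458218) * (x : ℤ) ^ 26 + (214774) * (x : ℤ) ^ 27 + (667) * (x : ℤ) ^ 28 + (1) * (x : ℤ) ^ 29 := by positivity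
    norm_num
    push_cast at e h0 ⊢
    linarith
  · exact (List.Forall₂.cons ⟨(5) + (8) * (q : ℤ) ^ 1, (-64) + (-35) * (q : ℤ) ^ 1 + (-56) * (q : ℤ) ^ 2 + (-35) * (q : ℤ) ^ 3 + (-56) * (q : ℤ) ^ 4 + (-35) * (q : ℤ) ^ 5 + (-56) * (q : ℤ) ^ 6 + (-30) * (q : ℤ) ^ 7 + (-48) * (q : ℤ) ^ 8 + (-30) * (q : ℤ) ^ 9 + (-48) * (q : ℤ) ^ 10 + (-25) * (q : ℤ) ^ 11 + (-40) * (q : ℤ) ^ 12 + (-20) * (q : ℤ) ^ 13 + (-32) * (q : ℤ) ^ 14 + (-20) * (q : ℤ) ^ 15 + (-32) * (q : ℤ) ^ 16 + (-15) * (q : ℤ) ^ 17 + (-24) * (q : ℤ) ^ 18 + (-10) * (q : ℤ) ^ 19 + (-16) * (q : ℤ) ^ 20 + (-10) * (q : ℤ) ^ 21 + (-16) * (q : ℤ) ^ 22 + (-5) * (q : ℤ) ^ 23 + (-8) * (q : ℤ) ^ 24 + (-5) * (q : ℤ) ^ 25 + (-8) * (q : ℤ) ^ 26 + (-5) * (q : ℤ) ^ 27 + (-8) * (q : ℤ) ^ 28, by push_cast; ring⟩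
      (List.Forall₂.cons ⟨(-23) + (10) * (q : ℤ) ^ 1 + (16) * (q : ℤ) ^ 2 + (10) * (q : ℤ) ^ 3 + (16) * (q : ℤ) ^ 4 + (10) * (q : ℤ) ^ 5 + (16) * (q : ℤ) ^ 6 + (10) * (q : ℤ) ^ 7, (-80) + (-73) * (q : ℤ) ^ 1 + (-70) * (q : ℤ) ^ 2 + (-34) * (q : ℤ) ^ 3 + (-70) * (q : ℤ) ^ 4 + (-34) * (q : ℤ) ^ 5 + (-70) * (q : ℤ) ^ 6 + (-57) * (q : ℤ) ^ 7 + (-60) * (q : ℤ) ^ 8 + (-57) * (q : ℤ) ^ 9 + (-60) * (q : ℤ) ^ 10 + (-41) * (q : ℤ) ^ 11 + (-50) * (q : ℤ) ^ 12 + (-25) * (q : ℤ) ^ 13 + (-40) * (q : ℤ) ^ 14 + (-25) * (q : ℤ) ^ 15 + (-40) * (q : ℤ) ^ 16 + (-48) * (q : ℤ) ^ 17 + (-30) * (q : ℤ) ^ 18 + (-32) * (q : ℤ) ^ 19 + (-20) * (q : ℤ) ^ 20 + (7) * (q : ℤ) ^ 21 + (-20) * (q : ℤ) ^ 22 + (-16) * (q : ℤ) ^ 23 + (-10) * (q : ℤ) ^ 24 + (-16) * (q : ℤ) ^ 25 + (-10) * (q : ℤ) ^ 26 + (-16)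 * (q : ℤ) ^ 27 + (-10) * (q : ℤ) ^ 28, by push_cast; ring⟩
      (List.Forall₂.cons ⟨(-463) + (-70) * (q : ℤ) ^ 1 + (200) * (q : ℤ) ^ 2 + (320) * (q : ℤ) ^ 3 + (200) * (q : ℤ) ^ 4 + (-70) * (q : ℤ) ^ 5 + (-112) * (q : ℤ) ^ 6 + (-70) * (q : ℤ) ^ 7 + (200) * (q : ℤ) ^ 8 + (320) * (q : ℤ) ^ 9 + (200) * (q : ℤ) ^ 10 + (-70) * (q : ℤ) ^ 11, (560) + (-113) * (q : ℤ) ^ 1 + (-1070) * (q : ℤ) ^ 2 + (-1400) * (q : ℤ) ^ 3 + (-680) * (q : ℤ) ^ 4 + (550) * (q : ℤ) ^ 5 + (490) * (q : ℤ) ^ 6 + (-225) * (q : ℤ) ^ 7 + (-1140) * (q : ℤ) ^ 8 + (-1200) * (q : ℤ) ^ 9 + (-360) * (q : ℤ) ^ 10 + (287) * (q : ℤ) ^ 11 + (350) * (q : ℤ) ^ 12 + (-488) * (q : ℤ) ^ 13 + (-890) * (q : ℤ) ^ 14 + (-800) * (q : ℤ) ^ 15 + (-110) * (q : ℤ) ^ 16 + (375) * (q : ℤ) ^ 17 + (210) * (q : ℤ) ^ 18 + (-400) * (q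 : ℤ) ^ 19 + (-640) * (q : ℤ) ^ 20 + (-400) * (q : ℤ) ^ 21 + (140) * (q : ℤ) ^ 22 + (112) * (q : ℤ) ^ 23 + (70) * (q : ℤ) ^ 24 + (-200) * (q : ℤ) ^ 25 + (-320) * (q : ℤ) ^ 26 + (-200) * (q : ℤ) ^ 27 + (70) * (q : ℤ) ^ 28, by push_cast; ring⟩
      (List.Forall₂.cons ⟨(-1506805420) + (-47047933) * (q : ℤ) ^ 1 + (397491455) * (q : ℤ) ^ 2 + (333811442) * (q : ℤ) ^ 3 + (473663330) * (q : ℤ) ^ 4 + (349045817) * (q : ℤ) ^ 5 + (476710205) * (q : ℤ) ^ 6 + (349655192) * (q : ℤ) ^ 7 + (476832080) * (q : ℤ) ^ 8 + (349679567) * (q : ℤ) ^ 9 + (476836955) * (q : ℤ) ^ 10 + (349680542) * (q : ℤ) ^ 11 + (476837150) * (q : ℤ) ^ 12 + (349680581) * (q : ℤ) ^ 13, (-2384185789) + (-1271565755) * (q : ℤ) ^ 1 + (-2034505208) * (q : ℤ) ^ 2 + (-1271565755) * (q : ℤ) ^ 3 + (-2034505208) * (q : ℤ)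 ^ 4 + (-1271565755) * (q : ℤ) ^ 5 + (-2034505208) * (q : ℤ) ^ 6 + (-2778371175) * (q : ℤ) ^ 7 + (-2081553141) * (q : ℤ) ^ 8 + (-874074300) * (q : ℤ) ^ 9 + (-1700693766) * (q : ℤ) ^ 10 + (-2304707845) * (q : ℤ) ^ 11 + (-1732507324) * (q : ℤ) ^ 12 + (-1904169515) * (q : ℤ) ^ 13 + (-1398086507) * (q : ℤ) ^ 14 + (76421110) * (q : ℤ) ^ 15 + (-1001968382) * (q : ℤ) ^ 16 + (-1351160685) * (q : ℤ) ^ 17 + (-1033171590) * (q : ℤ) ^ 18 + (-950500285) * (q : ℤ) ^ 19 + (-698726359) * (q : ℤ) ^ 20 + (-953547355) * (q : ℤ) ^ 21 + (-699335773) * (q : ℤ) ^ 22 + (-476832080) * (q : ℤ) ^ 23 + (-349679567) * (q : ℤ) ^ 24 + (-476836955) * (q : ℤ) ^ 25 + (-349680542) * (q : ℤ) ^ 26 + (-476837150) * (q : ℤ) ^ 27 + (-349680581) * (q : ℤ) ^ 28, by push_cast; ring⟩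
      (List.Forall₂.cons ⟨(-8700603820) + (-1894125403) * (q : ℤ) ^ 1 + (2615966315) * (q : ℤ) ^ 2 + (4455286445) * (q : ℤ) ^ 3 + (2606957900) * (q : ℤ) ^ 4 + (-597601603) * (q : ℤ) ^ 5 + (-1411472815) * (q : ℤ) ^ 6 + (-442055953) * (q : ℤ) ^ 7 + (2894953400) * (q : ℤ) ^ 8 + (4502595278) * (q : ℤ) ^ 9 + (2906287190) * (q : ℤ) ^ 10 + (-1891858645) * (q : ℤ) ^ 11 + (-1929989320) * (q : ℤ) ^ 12 + (-595799920) * (q : ℤ) ^ 13 + (2866169645) * (q : ℤ) ^ 14 + (4445461253) * (q : ℤ) ^ 15 + (2863844270) * (q : ℤ) ^ 16 + (-442521028) * (q : ℤ) ^ 17, (6748539533) + (770023195) * (q : ℤ) ^ 1 + (-14973956978) * (q : ℤ) ^ 2 + (-19660465910) * (q : ℤ) ^ 3 + (-8579503055) * (q : ℤ) ^ 4 + (5594965915) * (q : ℤ) ^ 5 + (6459762472) * (q : ℤ) ^ 6 + (-7901796870) * (q : ℤ) ^ 7 + (-16810948356)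 * (q : ℤ) ^ 8 + (-17002056675) * (q : ℤ) ^ 9 + (-5573554227) * (q : ℤ) ^ 10 + (6271934495) * (q : ℤ) ^ 11 + (5266360949) * (q : ℤ) ^ 12 + (-6447100040) * (q : ℤ) ^ 13 + (-12807543056) * (q : ℤ) ^ 14 + (-11243259005) * (q : ℤ) ^ 15 + (-1513479977) * (q : ℤ) ^ 16 + (477617865) * (q : ℤ) ^ 17 + (1480376901) * (q : ℤ) ^ 18 + (-5761123045) * (q : ℤ) ^ 19 + (-8948056531) * (q : ℤ) ^ 20 + (-5770131460) * (q : ℤ) ^ 21 + (2334379673) * (q : ℤ) ^ 22 + (1929989320) * (q : ℤ) ^ 23 + (595799920) * (q : ℤ) ^ 24 + (-2866169645) * (q : ℤ) ^ 25 + (-4445461253) * (q : ℤ) ^ 26 + (-2863844270) * (q : ℤ) ^ 27 + (442521028) * (q : ℤ) ^ 28, by push_cast; ring⟩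
      (List.Forall₂.cons ⟨(-249) + (15) * (q : ℤ) ^ 1 + (50) * (q : ℤ) ^ 2 + (15) * (q : ℤ) ^ 3 + (50) * (q : ℤ) ^ 4 + (80) * (q : ℤ) ^ 5 + (50) * (q : ℤ) ^ 6 + (15) * (q : ℤ) ^ 7 + (50) * (q : ℤ) ^ 8 + (15) * (q : ℤ) ^ 9 + (24) * (q : ℤ) ^ 10 + (15) * (q : ℤ) ^ 11 + (50) * (q : ℤ) ^ 12 + (15) * (q : ℤ) ^ 13 + (50) * (q : ℤ) ^ 14 + (80) * (q : ℤ) ^ 15 + (50) * (q : ℤ) ^ 16 + (15) * (q : ℤ) ^ 17 + (50) * (q : ℤ) ^ 18 + (15) * (q : ℤ) ^ 19, (-120) + (-324) * (q : ℤ) ^ 1 + (-235) * (q : ℤ) ^ 2 + (-25) * (q : ℤ) ^ 3 + (-235) * (q : ℤ) ^ 4 + (-350) * (q : ℤ) ^ 5 + (-170) * (q : ℤ) ^ 6 + (-274) * (q : ℤ) ^ 7 + (-220) * (q : ℤ) ^ 8 + (25) * (q : ℤ) ^ 9 + (-90) * (q : ℤ) ^ 10 + (-250) * (q : ℤ) ^ 11 + (-140) * (q : ℤ) ^ 12 + (-174) * (q : ℤ) ^ 13 + (-190) * (q : ℤ) ^ 14 + (-200)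 * (q : ℤ) ^ 15 + (-60) * (q : ℤ) ^ 16 + (-150) * (q : ℤ) ^ 17 + (-110) * (q : ℤ) ^ 18 + (-74) * (q : ℤ) ^ 19 + (-30) * (q : ℤ) ^ 20 + (-100) * (q : ℤ) ^ 21 + (-30) * (q : ℤ) ^ 22 + (-50) * (q : ℤ) ^ 23 + (-80) * (q : ℤ) ^ 24 + (-50) * (q : ℤ) ^ 25 + (-15) * (q : ℤ) ^ 26 + (-50) * (q : ℤ) ^ 27 + (-15) * (q : ℤ) ^ 28, by push_cast; ring⟩
      (List.Forall₂.cons ⟨(-407) + (-35) * (q : ℤ) ^ 1 + (100) * (q : ℤ) ^ 2 + (160) * (q : ℤ) ^ 3 + (100) * (q : ℤ) ^ 4 + (-35) * (q : ℤ) ^ 5 + (-56) * (q : ℤ) ^ 6 + (-35) * (q : ℤ) ^ 7 + (100) * (q : ℤ) ^ 8 + (160) * (q : ℤ) ^ 9 + (100) * (q : ℤ) ^ 10 + (-35) * (q : ℤ) ^ 11 + (-56) * (q : ℤ) ^ 12 + (-35) * (q : ℤ) ^ 13 + (100) * (q : ℤ) ^ 14 + (160) * (q : ℤ) ^ 15 + (100) * (q : ℤ) ^ 16 + (-35) * (q : ℤ) ^ 17 + (-56) * (q : ℤ) ^ 18 +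 (-35) * (q : ℤ) ^ 19 + (100) * (q : ℤ) ^ 20 + (160) * (q : ℤ) ^ 21 + (100) * (q : ℤ) ^ 22 + (-35) * (q : ℤ) ^ 23, (280) + (-232) * (q : ℤ) ^ 1 + (-535) * (q : ℤ) ^ 2 + (-700) * (q : ℤ) ^ 3 + (-340) * (q : ℤ) ^ 4 + (275) * (q : ℤ) ^ 5 + (245) * (q : ℤ) ^ 6 + (-288) * (q : ℤ) ^ 7 + (-570) * (q : ℤ) ^ 8 + (-600) * (q : ℤ) ^ 9 + (-180) * (q : ℤ) ^ 10 + (-32) * (q : ℤ) ^ 11 + (175) * (q : ℤ) ^ 12 + (-244) * (q : ℤ) ^ 13 + (-445) * (q : ℤ) ^ 14 + (-400) * (q : ℤ) ^ 15 + (-55) * (q : ℤ) ^ 16 + (12) * (q : ℤ) ^ 17 + (105) * (q : ℤ) ^ 18 + (-200) * (q : ℤ) ^ 19 + (-320) * (q : ℤ) ^ 20 + (-200) * (q : ℤ) ^ 21 + (70) * (q : ℤ) ^ 22 + (56) * (q : ℤ) ^ 23 + (35) * (q : ℤ) ^ 24 + (-100) * (q : ℤ) ^ 25 + (-160) * (q : ℤ) ^ 26 + (-100) * (q : ℤ) ^ 27 + (35) * (q : ℤ) ^ 28, by push_cast;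 ring⟩
      (List.Forall₂.cons ⟨(-4720) + (-493) * (q : ℤ) ^ 1 + (935) * (q : ℤ) ^ 2 + (1418) * (q : ℤ) ^ 3 + (935) * (q : ℤ) ^ 4 + (404) * (q : ℤ) ^ 5 + (-430) * (q : ℤ) ^ 6 + (-493) * (q : ℤ) ^ 7 + (935) * (q : ℤ) ^ 8 + (1418) * (q : ℤ) ^ 9 + (740) * (q : ℤ) ^ 10 + (-493) * (q : ℤ) ^ 11 + (-430) * (q : ℤ) ^ 12 + (-493) * (q : ℤ) ^ 13 + (935) * (q : ℤ) ^ 14 + (1496) * (q : ℤ) ^ 15 + (935) * (q : ℤ) ^ 16 + (-493) * (q : ℤ) ^ 17 + (-430) * (q : ℤ) ^ 18 + (-493) * (q : ℤ) ^ 19 + (740) * (q : ℤ) ^ 20 + (1418) * (q : ℤ) ^ 21 + (935) * (q : ℤ) ^ 22 + (-493) * (q : ℤ) ^ 23 + (-430) * (q : ℤ) ^ 24 + (404) * (q : ℤ) ^ 25 + (935) * (q : ℤ) ^ 26 + (1418) * (q : ℤ) ^ 27 + (935) * (q : ℤ) ^ 28 + (-493) * (q : ℤ) ^ 29, (3944) + (-2255) * (q : ℤ) ^ 1 + (-5168) * (q : ℤ) ^ 2 + (-6155)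 * (q : ℤ) ^ 3 + (-3257) * (q : ℤ) ^ 4 + (-1085) * (q : ℤ) ^ 5 + (2554) * (q : ℤ) ^ 6 + (-2685) * (q : ℤ) ^ 7 + (-5661) * (q : ℤ) ^ 8 + (-5220) * (q : ℤ) ^ 9 + (-864) * (q : ℤ) ^ 10 + (-580) * (q : ℤ) ^ 11 + (1568) * (q : ℤ) ^ 12 + (-2180) * (q : ℤ) ^ 13 + (-4736) * (q : ℤ) ^ 14 + (-3740) * (q : ℤ) ^ 15 + (61) * (q : ℤ) ^ 16 + (-75) * (q : ℤ) ^ 17 + (582) * (q : ℤ) ^ 18 + (-1675) * (q : ℤ) ^ 19 + (-2836) * (q : ℤ) ^ 20 + (-1870) * (q : ℤ) ^ 21 + (986) * (q : ℤ) ^ 22 + (430) * (q : ℤ) ^ 23 + (-404) * (q : ℤ) ^ 24 + (-935) * (q : ℤ) ^ 25 + (-1418) * (q : ℤ) ^ 26 + (-935) * (q : ℤ) ^ 27 + (493) * (q : ℤ) ^ 28, by push_cast; ring⟩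
      List.Forall₂.nil))))))))

theorem exclE8_6 (q : ℕ) (hq : IsPrimePow q) :
    ¬ q * (q ^ 12 + 1) * (q ^ 10 + 1) * (q ^ 6 + 1) - 6 ∣ q ^ 120 * ((q ^ 2 - 1) * (q ^ 8 - 1) * (q ^ 12 - 1) * (q ^ 14 - 1) * (q ^ 18 - 1) * (q ^ 20 - 1) * (q ^ 24 - 1) * (q ^ 30 - 1)) := by
  intro hd
  have hq2 : 2 ≤ q := hq.two_le
  rcases Nat.lt_or_ge q 19 with hlt | hge
  · exact (by decide +kernel : ∀ q < 19, 2 ≤ q →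
      ¬ q * (q ^ 12 + 1) * (q ^ 10 + 1) * (q ^ 6 + 1) - 6 ∣ q ^ 120 * ((q ^ 2 - 1) * (q ^ 8 - 1) * (q ^ 12 - 1) * (q ^ 14 - 1) * (q ^ 18 - 1) * (q ^ 20 - 1) * (q ^ 24 - 1) * (q ^ 30 - 1))) q hlt hq2 hd
  refine no_dvd hq ((-6) + (1) * (q : ℤ) ^ 1 + (1) * (q : ℤ) ^ 7 + (1) * (q : ℤ) ^ 11 + (1) * (q : ℤ) ^ 13 + (1) * (q : ℤ) ^ 17 + (1) * (q : ℤ) ^ 19 + (1) * (q : ℤ) ^ 23 + (1) * (q : ℤ) ^ 29) (g := (1)) (j := 6) (N := 120) (T := q * (q ^ 12 + 1) * (q ^ 10 + 1) * (q ^ 6 + 1))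
    (L := [14, 42, 210, 31345665638, 181121686270, 672, 420, 2800]) (d := [2, 8, 12, 14, 18, 20, 24, 30]) ?_ (by norm_num) (by omega) ?_ (by norm_num) (by positivity) ?_ (by simpa [mul_assoc] using hd) (hqT := (((dvd_refl q).mul_right _).mul_right _).mul_right _)
  · push_cast; ring
  · obtain ⟨x, rfl⟩ := Nat.exists_eq_add_of_le hge
    have e : ((-6) + (1) * ((19 + x : ℕ) : ℤ) ^ 1 + (1) * ((19 + x : ℕ) : ℤ) ^ 7 + (1) * ((19 + x : ℕ) : ℤ) ^ 11 + (1) * ((19 + x : ℕ) : ℤ) ^ 13 + (1) * ((19 + x : ℕ) : ℤ) ^ 17 + (1) * ((19 + x : ℕ) : ℤ) ^ 19 + (1) * ((19 + x : ℕ) : ℤ) ^ 23 + (1) * ((19 + x : ℕ) : ℤ) ^ 29) - 3324087257771421136417050497433600000 =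
        (8805734994649412553475865345163714386) + (18513939145958239967009176569090883320) * (x : ℤ) ^ 1 + (13641849847740883640241206428047791680) * (x : ℤ) ^ 2 + (6461928856224990308538600408281572200) * (x : ℤ) ^ 3 + (2210659866610735375590791137036799058) * (x : ℤ) ^ 4 + (581752595370045878558070894206876790) * (x : ℤ) ^ 5 + (122474230419809831153487049844099540) * (x : ℤ) ^ 6 + (21179754107791300876824727195632540) * (x : ℤ) ^ 7 + (3065490723336361268803906264271737) * (x : ℤ) ^ 8 + (376463772780130899379671659499853) * (x : ℤ) ^ 9 + (39627765535184056197647940042101) * (x : ℤ) ^ 10 + (3602524138180997310946783049725) * (x : ℤ) ^ 11 + (284409800303958299555665692638) * (x : ℤ) ^ 12 + (19574763579847235401760497254) * (x : ℤ) ^ 13 + (1177429388103269499865313542)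 * (x : ℤ) ^ 14 + (61969967789357400882508126) * (x : ℤ) ^ 15 + (2853880095398157680690702) * (x : ℤ) ^ 16 + (114862047179136892566574) * (x : ℤ) ^ 17 + (4030247269360081482122) * (x : ℤ) ^ 18 + (122805318455570600466) * (x : ℤ) ^ 19 + (3231718906707321184) * (x : ℤ) ^ 20 + (72895915188704278) * (x : ℤ) ^ 21 + (1395137132796857) * (x : ℤ) ^ 22 + (22347734392621) * (x : ℤ) ^ 23 + (294049136745) * (x : ℤ) ^ 24 + (3095254071) * (x : ℤ) ^ 25 + (25062786) * (x : ℤ) ^ 26 + (146566) * (x : ℤ) ^ 27 + (551) * (x : ℤ) ^ 28 + (1) * (x : ℤ) ^ 29 := by push_cast; ring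
    have h0 : (0 : ℤ) < (8805734994649412553475865345163714386) + (18513939145958239967009176569090883320) * (x : ℤ) ^ 1 + (13641849847740883640241206428047791680) * (x : ℤ) ^ 2 + (6461928856224990308538600408281572200) * (x : ℤ) ^ 3 + (2210659866610735375590791137036799058) * (x : ℤ) ^ 4 + (581752595370045878558070894206876790) * (x : ℤ) ^ 5 + (122474230419809831153487049844099540) * (x : ℤ) ^ 6 + (21179754107791300876824727195632540) * (x : ℤ) ^ 7 + (3065490723336361268803906264271737) * (x : ℤ) ^ 8 + (376463772780130899379671659499853) * (x : ℤ) ^ 9 + (39627765535184056197647940042101) * (x : ℤ) ^ 10 + (3602524138180997310946783049725) * (x : ℤ) ^ 11 + (284409800303958299555665692638) * (x : ℤ) ^ 12 + (19574763579847235401760497254) * (x : ℤ) ^ 13 + (1177429388103269499865313542)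 * (x : ℤ) ^ 14 + (61969967789357400882508126) * (x : ℤ) ^ 15 + (2853880095398157680690702) * (x : ℤ) ^ 16 + (114862047179136892566574) * (x : ℤ) ^ 17 + (4030247269360081482122) * (x : ℤ) ^ 18 + (122805318455570600466) * (x : ℤ) ^ 19 + (3231718906707321184) * (x : ℤ) ^ 20 + (72895915188704278) * (x : ℤ) ^ 21 + (1395137132796857) * (x : ℤ) ^ 22 + (22347734392621) * (x : ℤ) ^ 23 + (294049136745) * (x : ℤ) ^ 24 + (3095254071) * (x : ℤ) ^ 25 + (25062786) * (x : ℤ) ^ 26 + (146566) * (x : ℤ) ^ 27 + (551) * (x : ℤ) ^ 28 + (1) * (x : ℤ) ^ 29 := by positivity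
    norm_num
    push_cast at e h0 ⊢
    linarith
  · exact (List.Forall₂.cons ⟨(3) + (4) * (q : ℤ) ^ 1, (-32) + (-21) * (q : ℤ) ^ 1 + (-28) * (q : ℤ) ^ 2 + (-21) * (q : ℤ) ^ 3 + (-28) * (q : ℤ) ^ 4 + (-21) * (q : ℤ) ^ 5 + (-28) * (q : ℤ) ^ 6 + (-18) * (q : ℤ) ^ 7 + (-24) * (q : ℤ) ^ 8 + (-18) * (q : ℤ) ^ 9 + (-24) * (q : ℤ) ^ 10 + (-15) * (q : ℤ) ^ 11 + (-20) * (q : ℤ) ^ 12 + (-12) * (q : ℤ) ^ 13 + (-16) * (q : ℤ) ^ 14 + (-12) * (q : ℤ) ^ 15 + (-16) * (q : ℤ) ^ 16 + (-9) * (q : ℤ) ^ 17 + (-12) * (q : ℤ) ^ 18 + (-6) * (q : ℤ) ^ 19 + (-8) * (q : ℤ) ^ 20 + (-6) * (q : ℤ) ^ 21 + (-8) * (q : ℤ) ^ 22 + (-3) * (q : ℤ) ^ 23 + (-4) * (q : ℤ) ^ 24 + (-3) * (q : ℤ) ^ 25 + (-4) * (q : ℤ) ^ 26 + (-3) * (q : ℤ) ^ 27 + (-4) * (q : ℤ) ^ 28, by push_cast; ring⟩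
      (List.Forall₂.cons ⟨(-3) + (3) * (q : ℤ) ^ 1 + (4) * (q : ℤ) ^ 2 + (3) * (q : ℤ) ^ 3 + (4) * (q : ℤ) ^ 4 + (3) * (q : ℤ) ^ 5 + (4) * (q : ℤ) ^ 6 + (3) * (q : ℤ) ^ 7, (-24) + (-21) * (q : ℤ) ^ 1 + (-21) * (q : ℤ) ^ 2 + (-14) * (q : ℤ) ^ 3 + (-21) * (q : ℤ) ^ 4 + (-14) * (q : ℤ) ^ 5 + (-21) * (q : ℤ) ^ 6 + (-17) * (q : ℤ) ^ 7 + (-18) * (q : ℤ) ^ 8 + (-17) * (q : ℤ) ^ 9 + (-18) * (q : ℤ) ^ 10 + (-13) * (q : ℤ) ^ 11 + (-15) * (q : ℤ) ^ 12 + (-9) * (q : ℤ) ^ 13 + (-12) * (q : ℤ) ^ 14 + (-9) * (q : ℤ) ^ 15 + (-12) * (q : ℤ) ^ 16 + (-12) * (q : ℤ) ^ 17 + (-9) * (q : ℤ) ^ 18 + (-8) * (q : ℤ) ^ 19 + (-6) * (q : ℤ) ^ 20 + (-1) * (q : ℤ) ^ 21 + (-6) * (q : ℤ) ^ 22 + (-4) * (q : ℤ) ^ 23 + (-3) * (q : ℤ) ^ 24 + (-4) * (q : ℤ) ^ 25 + (-3) * (q : ℤ) ^ 26 + (-4) * (q : ℤ) ^ 27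 + (-3) * (q : ℤ) ^ 28, by push_cast; ring⟩
      (List.Forall₂.cons ⟨(-31) + (3) * (q : ℤ) ^ 1 + (18) * (q : ℤ) ^ 2 + (24) * (q : ℤ) ^ 3 + (18) * (q : ℤ) ^ 4 + (3) * (q : ℤ) ^ 5 + (4) * (q : ℤ) ^ 6 + (3) * (q : ℤ) ^ 7 + (18) * (q : ℤ) ^ 8 + (24) * (q : ℤ) ^ 9 + (18) * (q : ℤ) ^ 10 + (3) * (q : ℤ) ^ 11, (-24) + (-49) * (q : ℤ) ^ 1 + (-105) * (q : ℤ) ^ 2 + (-126) * (q : ℤ) ^ 3 + (-84) * (q : ℤ) ^ 4 + (-21) * (q : ℤ) ^ 6 + (-45) * (q : ℤ) ^ 7 + (-102) * (q : ℤ) ^ 8 + (-108) * (q : ℤ) ^ 9 + (-60) * (q : ℤ) ^ 10 + (-13) * (q : ℤ) ^ 11 + (-15) * (q : ℤ) ^ 12 + (-58) * (q : ℤ) ^ 13 + (-75) * (q : ℤ) ^ 14 + (-72) * (q : ℤ) ^ 15 + (-33) * (q : ℤ) ^ 16 + (9) * (q : ℤ) ^ 17 + (-9) * (q : ℤ) ^ 18 + (-36) * (q : ℤ) ^ 19 + (-48) * (q : ℤ) ^ 20 + (-36) * (q : ℤ) ^ 21 + (-6) * (q : ℤ)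 ^ 22 + (-4) * (q : ℤ) ^ 23 + (-3) * (q : ℤ) ^ 24 + (-18) * (q : ℤ) ^ 25 + (-24) * (q : ℤ) ^ 26 + (-18) * (q : ℤ) ^ 27 + (-3) * (q : ℤ) ^ 28, by push_cast; ring⟩
      (List.Forall₂.cons ⟨(-3497067459) + (536643482) * (q : ℤ) ^ 1 + (1582091325) * (q : ℤ) ^ 2 + (1383169946) * (q : ℤ) ^ 3 + (1723179069) * (q : ℤ) ^ 4 + (1406684570) * (q : ℤ) ^ 5 + (1727098173) * (q : ℤ) ^ 6 + (1407337754) * (q : ℤ) ^ 7 + (1727207037) * (q : ℤ) ^ 8 + (1407355898) * (q : ℤ) ^ 9 + (1727210061) * (q : ℤ) ^ 10 + (1407356402) * (q : ℤ) ^ 11 + (1727210145) * (q : ℤ) ^ 12 + (1407356416) * (q : ℤ) ^ 13, (-10363260884) + (-6716928351) * (q : ℤ) ^ 1 + (-8955904468) * (q : ℤ) ^ 2 + (-6716928351) * (q : ℤ) ^ 3 + (-8955904468) * (q : ℤ) ^ 4 + (-6716928351) * (q : ℤ) ^ 5 + (-8955904468) * (q : ℤ) ^ 6 +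 (-10213995810) * (q : ℤ) ^ 7 + (-8419260986) * (q : ℤ) ^ 8 + (-5134837026) * (q : ℤ) ^ 9 + (-7572734522) * (q : ℤ) ^ 10 + (-8490816741) * (q : ℤ) ^ 11 + (-7012576416) * (q : ℤ) ^ 12 + (-6904806312) * (q : ℤ) ^ 13 + (-5628753286) * (q : ℤ) ^ 14 + (-1684450920) * (q : ℤ) ^ 15 + (-4758694054) * (q : ℤ) ^ 16 + (-5036508507) * (q : ℤ) ^ 17 + (-4197882260) * (q : ℤ) ^ 18 + (-3450389130) * (q : ℤ) ^ 19 + (-2814040972) * (q : ℤ) ^ 20 + (-3454308318) * (q : ℤ) ^ 21 + (-2814694170) * (q : ℤ) ^ 22 + (-1727207037) * (q : ℤ) ^ 23 + (-1407355898) * (q : ℤ) ^ 24 + (-1727210061) * (q : ℤ) ^ 25 + (-1407356402) * (q : ℤ) ^ 26 + (-1727210145) * (q : ℤ) ^ 27 + (-1407356416) * (q : ℤ) ^ 28, by push_cast; ring⟩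
      (List.Forall₂.cons ⟨(-27289183203) + (-1481111616) * (q : ℤ) ^ 1 + (9829813824) * (q : ℤ) ^ 2 + (13765282372) * (q : ℤ) ^ 3 + (9810354804) * (q : ℤ) ^ 4 + (3134102064) * (q : ℤ) ^ 5 + (2770209657) * (q : ℤ) ^ 6 + (3518671704) * (q : ℤ) ^ 7 + (10640155524) * (q : ℤ) ^ 8 + (13885846662) * (q : ℤ) ^ 9 + (10663016544) * (q : ℤ) ^ 10 + (-1477301446) * (q : ℤ) ^ 11 + (1231899597) * (q : ℤ) ^ 12 + (3137345234) * (q : ℤ) ^ 13 + (10579462584) * (q : ℤ) ^ 14 + (13748113542) * (q : ℤ) ^ 15 + (10576060584) * (q : ℤ) ^ 16 + (3518104704) * (q : ℤ) ^ 17, (-17386587052) + (-18402513507) * (q : ℤ) ^ 1 + (-60459994560) * (q : ℤ) ^ 2 + (-72761880408) * (q : ℤ) ^ 3 + (-45096846452) * (q : ℤ) ^ 4 + (-8994257580) * (q : ℤ) ^ 5 + (-13487155878) * (q : ℤ) ^ 6 + (-45631003770) * (q : ℤ)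 ^ 7 + (-61803373056) * (q : ℤ) ^ 8 + (-62845110624) * (q : ℤ) ^ 9 + (-36326970230) * (q : ℤ) ^ 10 + (2047996821) * (q : ℤ) ^ 11 + (-7215708580) * (q : ℤ) ^ 12 + (-32281331529) * (q : ℤ) ^ 13 + (-44536587810) * (q : ℤ) ^ 14 + (-41628894516) * (q : ℤ) ^ 15 + (-18923018864) * (q : ℤ) ^ 16 + (-14578169838) * (q : ℤ) ^ 17 + (-10174121642) * (q : ℤ) ^ 18 + (-21219618108) * (q : ℤ) ^ 19 + (-27633960204) * (q : ℤ) ^ 20 + (-21239077128) * (q : ℤ) ^ 21 + (-2040803258) * (q : ℤ) ^ 22 + (-1231899597) * (q : ℤ) ^ 23 + (-3137345234) * (q : ℤ) ^ 24 + (-10579462584) * (q : ℤ) ^ 25 + (-13748113542) * (q : ℤ) ^ 26 + (-10576060584) * (q : ℤ) ^ 27 + (-3518104704) * (q : ℤ) ^ 28, by push_cast; ring⟩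
      (List.Forall₂.cons ⟨(-92) + (15) * (q : ℤ) ^ 1 + (27) * (q : ℤ) ^ 2 + (15) * (q : ℤ) ^ 3 + (27) * (q : ℤ) ^ 4 + (36) * (q : ℤ) ^ 5 + (27) * (q : ℤ) ^ 6 + (15) * (q : ℤ) ^ 7 + (27) * (q : ℤ) ^ 8 + (15) * (q : ℤ) ^ 9 + (20) * (q : ℤ) ^ 10 + (15) * (q : ℤ) ^ 11 + (27) * (q : ℤ) ^ 12 + (15) * (q : ℤ) ^ 13 + (27) * (q : ℤ) ^ 14 + (36) * (q : ℤ) ^ 15 + (27) * (q : ℤ) ^ 16 + (15) * (q : ℤ) ^ 17 + (27) * (q : ℤ) ^ 18 + (15) * (q : ℤ) ^ 19, (-120) + (-182) * (q : ℤ) ^ 1 + (-147) * (q : ℤ) ^ 2 + (-63) * (q : ℤ) ^ 3 + (-147) * (q : ℤ) ^ 4 + (-189) * (q : ℤ) ^ 5 + (-126) * (q : ℤ) ^ 6 + (-155) * (q : ℤ) ^ 7 + (-132) * (q : ℤ) ^ 8 + (-36) * (q : ℤ) ^ 9 + (-90) * (q : ℤ) ^ 10 + (-135) * (q : ℤ) ^ 11 + (-96) * (q : ℤ) ^ 12 + (-101) * (q : ℤ) ^ 13 + (-102) * (q : ℤ) ^ 14 + (-108)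 * (q : ℤ) ^ 15 + (-60) * (q : ℤ) ^ 16 + (-81) * (q : ℤ) ^ 17 + (-66) * (q : ℤ) ^ 18 + (-47) * (q : ℤ) ^ 19 + (-30) * (q : ℤ) ^ 20 + (-54) * (q : ℤ) ^ 21 + (-30) * (q : ℤ) ^ 22 + (-27) * (q : ℤ) ^ 23 + (-36) * (q : ℤ) ^ 24 + (-27) * (q : ℤ) ^ 25 + (-15) * (q : ℤ) ^ 26 + (-27) * (q : ℤ) ^ 27 + (-15) * (q : ℤ) ^ 28, by push_cast; ring⟩
      (List.Forall₂.cons ⟨(-66) + (3) * (q : ℤ) ^ 1 + (18) * (q : ℤ) ^ 2 + (24) * (q : ℤ) ^ 3 + (18) * (q : ℤ) ^ 4 + (3) * (q : ℤ) ^ 5 + (4) * (q : ℤ) ^ 6 + (3) * (q : ℤ) ^ 7 + (18) * (q : ℤ) ^ 8 + (24) * (q : ℤ) ^ 9 + (18) * (q : ℤ) ^ 10 + (3) * (q : ℤ) ^ 11 + (4) * (q : ℤ) ^ 12 + (3) * (q : ℤ) ^ 13 + (18) * (q : ℤ) ^ 14 + (24) * (q : ℤ) ^ 15 + (18) * (q : ℤ) ^ 16 + (3) * (q : ℤ) ^ 17 + (4) * (q : ℤ) ^ 18 + (3) * (q : ℤ) ^ 19 + (18) * (q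 : ℤ) ^ 20 + (24) * (q : ℤ) ^ 21 + (18) * (q : ℤ) ^ 22 + (3) * (q : ℤ) ^ 23, (-24) + (-84) * (q : ℤ) ^ 1 + (-105) * (q : ℤ) ^ 2 + (-126) * (q : ℤ) ^ 3 + (-84) * (q : ℤ) ^ 4 + (-21) * (q : ℤ) ^ 6 + (-80) * (q : ℤ) ^ 7 + (-102) * (q : ℤ) ^ 8 + (-108) * (q : ℤ) ^ 9 + (-60) * (q : ℤ) ^ 10 + (-48) * (q : ℤ) ^ 11 + (-15) * (q : ℤ) ^ 12 + (-58) * (q : ℤ) ^ 13 + (-75) * (q : ℤ) ^ 14 + (-72) * (q : ℤ) ^ 15 + (-33) * (q : ℤ) ^ 16 + (-26) * (q : ℤ) ^ 17 + (-9) * (q : ℤ) ^ 18 + (-36) * (q : ℤ) ^ 19 + (-48) * (q : ℤ) ^ 20 + (-36) * (q : ℤ) ^ 21 + (-6) * (q : ℤ) ^ 22 + (-4) * (q : ℤ) ^ 23 + (-3) * (q : ℤ) ^ 24 + (-18) * (q : ℤ) ^ 25 + (-24) * (q : ℤ) ^ 26 + (-18) * (q : ℤ) ^ 27 + (-3) * (q : ℤ) ^ 28, by push_cast; ring⟩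
      (List.Forall₂.cons ⟨(-468) + (-1) * (q : ℤ) ^ 1 + (99) * (q : ℤ) ^ 2 + (127) * (q : ℤ) ^ 3 + (99) * (q : ℤ) ^ 4 + (84) * (q : ℤ) ^ 5 + (27) * (q : ℤ) ^ 6 + (-1) * (q : ℤ) ^ 7 + (99) * (q : ℤ) ^ 8 + (127) * (q : ℤ) ^ 9 + (84) * (q : ℤ) ^ 10 + (-1) * (q : ℤ) ^ 11 + (27) * (q : ℤ) ^ 12 + (-1) * (q : ℤ) ^ 13 + (99) * (q : ℤ) ^ 14 + (132) * (q : ℤ) ^ 15 + (99) * (q : ℤ) ^ 16 + (-1) * (q : ℤ) ^ 17 + (27) * (q : ℤ) ^ 18 + (-1) * (q : ℤ) ^ 19 + (84) * (q : ℤ) ^ 20 + (127) * (q : ℤ) ^ 21 + (99) * (q : ℤ) ^ 22 + (-1) * (q : ℤ) ^ 23 + (27) * (q : ℤ) ^ 24 + (84) * (q : ℤ) ^ 25 + (99) * (q : ℤ) ^ 26 + (127) * (q : ℤ) ^ 27 + (99) * (q : ℤ) ^ 28 + (-1) * (q : ℤ) ^ 29, (8) + (-462) * (q : ℤ) ^ 1 + (-595) * (q : ℤ) ^ 2 + (-663) * (q : ℤ) ^ 3 + (-467) * (q : ℤ) ^ 4 + (-405) * (q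 : ℤ) ^ 5 + (-78) * (q : ℤ) ^ 6 + (-435) * (q : ℤ) ^ 7 + (-596) * (q : ℤ) ^ 8 + (-564) * (q : ℤ) ^ 9 + (-250) * (q : ℤ) ^ 10 + (-279) * (q : ℤ) ^ 11 + (-80) * (q : ℤ) ^ 12 + (-309) * (q : ℤ) ^ 13 + (-470) * (q : ℤ) ^ 14 + (-396) * (q : ℤ) ^ 15 + (-124) * (q : ℤ) ^ 16 + (-153) * (q : ℤ) ^ 17 + (-82) * (q : ℤ) ^ 18 + (-183) * (q : ℤ) ^ 19 + (-254) * (q : ℤ) ^ 20 + (-198) * (q : ℤ) ^ 21 + (2) * (q : ℤ) ^ 22 + (-27) * (q : ℤ) ^ 23 + (-84) * (q : ℤ) ^ 24 + (-99) * (q : ℤ) ^ 25 + (-127) * (q : ℤ) ^ 26 + (-99) * (q : ℤ) ^ 27 + (1) * (q : ℤ) ^ 28, by push_cast; ring⟩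
      List.Forall₂.nil))))))))

theorem exclE8_7 (q : ℕ) (hq : IsPrimePow q) :
    ¬ q * (q ^ 12 + 1) * (q ^ 10 + 1) * (q ^ 6 + 1) - 7 ∣ q ^ 120 * ((q ^ 2 - 1) * (q ^ 8 - 1) * (q ^ 12 - 1) * (q ^ 14 - 1) * (q ^ 18 - 1) * (q ^ 20 - 1) * (q ^ 24 - 1) * (q ^ 30 - 1)) := by
  intro hd
  have hq2 : 2 ≤ q := hq.two_le
  rcases Nat.lt_or_ge q 31 with hlt | hge
  · exact (by decide +kernel : ∀ q < 31, 2 ≤ q →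
      ¬ q * (q ^ 12 + 1) * (q ^ 10 + 1) * (q ^ 6 + 1) - 7 ∣ q ^ 120 * ((q ^ 2 - 1) * (q ^ 8 - 1) * (q ^ 12 - 1) * (q ^ 14 - 1) * (q ^ 18 - 1) * (q ^ 20 - 1) * (q ^ 24 - 1) * (q ^ 30 - 1))) q hlt hq2 hd
  refine no_dvd hq ((-7) + (1) * (q : ℤ) ^ 1 + (1) * (q : ℤ) ^ 7 + (1) * (q : ℤ) ^ 11 + (1) * (q : ℤ) ^ 13 + (1) * (q : ℤ) ^ 17 + (1) * (q : ℤ) ^ 19 + (1) * (q : ℤ) ^ 23 + (1) * (q : ℤ) ^ 29) (g := (1)) (j := 7) (N := 120) (T := q * (q ^ 12 + 1) * (q ^ 10 + 1) * (q ^ 6 + 1))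
    (L := [15, 105, 3465, 211944710265, 2590184286855, 1575, 3465, 118800]) (d := [2, 8, 12, 14, 18, 20, 24, 30]) ?_ (by norm_num) (by omega) ?_ (by norm_num) (by positivity) ?_ (by simpa [mul_assoc] using hd) (hqT := (((dvd_refl q).mul_right _).mul_right _).mul_right _)
  · push_cast; ring
  · obtain ⟨x, rfl⟩ := Nat.exists_eq_add_of_le hge
    have e : ((-7) + (1) * ((31 + x : ℕ) : ℤ) ^ 1 + (1) * ((31 + x : ℕ) : ℤ) ^ 7 + (1) * ((31 + x : ℕ) : ℤ) ^ 11 + (1) * ((31 + x : ℕ) : ℤ) ^ 13 + (1) * ((31 + x : ℕ) : ℤ) ^ 17 + (1) * ((31 + x : ℕ) : ℤ) ^ 19 + (1) * ((31 + x : ℕ) : ℤ) ^ 23 + (1) * ((31 + x : ℕ) : ℤ) ^ 29) - 13596756535818210707777236907112177656250000 =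
        (4165131237289020609308174605996389098901601) + (16615959525807407140450234198816363761715320) * (x : ℤ) ^ 1 + (7503981719895415332469277787688070064668320) * (x : ℤ) ^ 2 + (2178575337694226415833409710909519616510600) * (x : ℤ) ^ 3 + (456798054620253496754277162580261499648442) * (x : ℤ) ^ 4 + (73677105576483704676767623779958763864790) * (x : ℤ) ^ 5 + (9506723299432656411883904725757374699460) * (x : ℤ) ^ 6 + (1007625050107340511597139374097771207740) * (x : ℤ) ^ 7 + (89386093150368925953666181261914924613) * (x : ℤ) ^ 8 + (6727985505694320240162816557243136853) * (x : ℤ) ^ 9 + (434063581000564522449396166270036649) * (x : ℤ) ^ 10 + (24185360817721742507254298108496925) * (x : ℤ) ^ 11 + (1170259394388713643434241742967462) * (x : ℤ) ^ 12 + (49365780904223341113563534092854)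 * (x : ℤ) ^ 13 + (1819936623184210148482845180958) * (x : ℤ) ^ 14 + (58707633005663473236371106526) * (x : ℤ) ^ 15 + (1657070286445119997533482198) * (x : ℤ) ^ 16 + (40876496629499222975371774) * (x : ℤ) ^ 17 + (879064443644181237810578) * (x : ℤ) ^ 18 + (16417162784516491616466) * (x : ℤ) ^ 19 + (264792948137283628216) * (x : ℤ) ^ 20 + (3660732001897444078) * (x : ℤ) ^ 21 + (42941137852167293) * (x : ℤ) ^ 22 + (421581998548621) * (x : ℤ) ^ 23 + (3399854827005) * (x : ℤ) ^ 24 + (21934547271) * (x : ℤ) ^ 25 + (108856314) * (x : ℤ) ^ 26 + (390166) * (x : ℤ) ^ 27 + (899) * (x : ℤ) ^ 28 + (1) * (x : ℤ) ^ 29 := by push_cast; ring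
    have h0 : (0 : ℤ) < (4165131237289020609308174605996389098901601) + (16615959525807407140450234198816363761715320) * (x : ℤ) ^ 1 + (7503981719895415332469277787688070064668320) * (x : ℤ) ^ 2 + (2178575337694226415833409710909519616510600) * (x : ℤ) ^ 3 + (456798054620253496754277162580261499648442) * (x : ℤ) ^ 4 + (73677105576483704676767623779958763864790) * (x : ℤ) ^ 5 + (9506723299432656411883904725757374699460) * (x : ℤ) ^ 6 + (1007625050107340511597139374097771207740) * (x : ℤ) ^ 7 + (89386093150368925953666181261914924613) * (x : ℤ) ^ 8 + (6727985505694320240162816557243136853) * (x : ℤ) ^ 9 + (434063581000564522449396166270036649) * (x : ℤ) ^ 10 + (24185360817721742507254298108496925) * (x : ℤ) ^ 11 + (1170259394388713643434241742967462) * (x : ℤ) ^ 12 + (49365780904223341113563534092854)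 * (x : ℤ) ^ 13 + (1819936623184210148482845180958) * (x : ℤ) ^ 14 + (58707633005663473236371106526) * (x : ℤ) ^ 15 + (1657070286445119997533482198) * (x : ℤ) ^ 16 + (40876496629499222975371774) * (x : ℤ) ^ 17 + (879064443644181237810578) * (x : ℤ) ^ 18 + (16417162784516491616466) * (x : ℤ) ^ 19 + (264792948137283628216) * (x : ℤ) ^ 20 + (3660732001897444078) * (x : ℤ) ^ 21 + (42941137852167293) * (x : ℤ) ^ 22 + (421581998548621) * (x : ℤ) ^ 23 + (3399854827005) * (x : ℤ) ^ 24 + (21934547271) * (x : ℤ) ^ 25 + (108856314) * (x : ℤ) ^ 26 + (390166) * (x : ℤ) ^ 27 + (899) * (x : ℤ) ^ 28 + (1) * (x : ℤ) ^ 29 := by positivity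
    norm_num
    push_cast at e h0 ⊢
    linarith
  · exact (List.Forall₂.cons ⟨(7) + (8) * (q : ℤ) ^ 1, (-64) + (-49) * (q : ℤ) ^ 1 + (-56) * (q : ℤ) ^ 2 + (-49) * (q : ℤ) ^ 3 + (-56) * (q : ℤ) ^ 4 + (-49) * (q : ℤ) ^ 5 + (-56) * (q : ℤ) ^ 6 + (-42) * (q : ℤ) ^ 7 + (-48) * (q : ℤ) ^ 8 + (-42) * (q : ℤ) ^ 9 + (-48) * (q : ℤ) ^ 10 + (-35) * (q : ℤ) ^ 11 + (-40) * (q : ℤ) ^ 12 + (-28) * (q : ℤ) ^ 13 + (-32) * (q : ℤ) ^ 14 + (-28) * (q : ℤ) ^ 15 + (-32) * (q : ℤ) ^ 16 + (-21) * (q : ℤ) ^ 17 + (-24) * (q : ℤ) ^ 18 + (-14) * (q : ℤ) ^ 19 + (-16) * (q : ℤ) ^ 20 + (-14) * (q : ℤ) ^ 21 + (-16) * (q : ℤ) ^ 22 + (-7) * (q : ℤ) ^ 23 + (-8) * (q : ℤ) ^ 24 + (-7) * (q : ℤ) ^ 25 + (-8) * (q : ℤ) ^ 26 + (-7) * (q : ℤ) ^ 27 + (-8) * (q : ℤ) ^ 28, by push_cast; ring⟩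
      (List.Forall₂.cons ⟨(1) + (14) * (q : ℤ) ^ 1 + (16) * (q : ℤ) ^ 2 + (14) * (q : ℤ) ^ 3 + (16) * (q : ℤ) ^ 4 + (14) * (q : ℤ) ^ 5 + (16) * (q : ℤ) ^ 6 + (14) * (q : ℤ) ^ 7, (-112) + (-97) * (q : ℤ) ^ 1 + (-98) * (q : ℤ) ^ 2 + (-82) * (q : ℤ) ^ 3 + (-98) * (q : ℤ) ^ 4 + (-82) * (q : ℤ) ^ 5 + (-98) * (q : ℤ) ^ 6 + (-81) * (q : ℤ) ^ 7 + (-84) * (q : ℤ) ^ 8 + (-81) * (q : ℤ) ^ 9 + (-84) * (q : ℤ) ^ 10 + (-65) * (q : ℤ) ^ 11 + (-70) * (q : ℤ) ^ 12 + (-49) * (q : ℤ) ^ 13 + (-56) * (q : ℤ) ^ 14 + (-49) * (q : ℤ) ^ 15 + (-56) * (q : ℤ) ^ 16 + (-48) * (q : ℤ) ^ 17 + (-42) * (q : ℤ) ^ 18 + (-32) * (q : ℤ) ^ 19 + (-28) * (q : ℤ) ^ 20 + (-17) * (q : ℤ) ^ 21 + (-28) * (q : ℤ) ^ 22 + (-16) * (q : ℤ) ^ 23 + (-14) * (q : ℤ) ^ 24 + (-16) * (q : ℤ) ^ 25 + (-14) * (q : ℤ) ^ 26 + (-16)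 * (q : ℤ) ^ 27 + (-14) * (q : ℤ) ^ 28, by push_cast; ring⟩
      (List.Forall₂.cons ⟨(-223) + (238) * (q : ℤ) ^ 1 + (392) * (q : ℤ) ^ 2 + (448) * (q : ℤ) ^ 3 + (392) * (q : ℤ) ^ 4 + (238) * (q : ℤ) ^ 5 + (272) * (q : ℤ) ^ 6 + (238) * (q : ℤ) ^ 7 + (392) * (q : ℤ) ^ 8 + (448) * (q : ℤ) ^ 9 + (392) * (q : ℤ) ^ 10 + (238) * (q : ℤ) ^ 11, (-1904) + (-1889) * (q : ℤ) ^ 1 + (-2506) * (q : ℤ) ^ 2 + (-2744) * (q : ℤ) ^ 3 + (-2296) * (q : ℤ) ^ 4 + (-1274) * (q : ℤ) ^ 5 + (-1666) * (q : ℤ) ^ 6 + (-1617) * (q : ℤ) ^ 7 + (-2268) * (q : ℤ) ^ 8 + (-2352) * (q : ℤ) ^ 9 + (-1848) * (q : ℤ) ^ 10 + (-1105) * (q : ℤ) ^ 11 + (-1190) * (q : ℤ) ^ 12 + (-1448) * (q : ℤ) ^ 13 + (-1582) * (q : ℤ) ^ 14 + (-1568) * (q : ℤ) ^ 15 + (-1162) * (q : ℤ) ^ 16 + (-441) * (q : ℤ) ^ 17 + (-714) * (q : ℤ)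 ^ 18 + (-784) * (q : ℤ) ^ 19 + (-896) * (q : ℤ) ^ 20 + (-784) * (q : ℤ) ^ 21 + (-476) * (q : ℤ) ^ 22 + (-272) * (q : ℤ) ^ 23 + (-238) * (q : ℤ) ^ 24 + (-392) * (q : ℤ) ^ 25 + (-448) * (q : ℤ) ^ 26 + (-392) * (q : ℤ) ^ 27 + (-238) * (q : ℤ) ^ 28, by push_cast; ring⟩
      (List.Forall₂.cons ⟨(-11732653604) + (12453553979) * (q : ℤ) ^ 1 + (17927247541) * (q : ℤ) ^ 2 + (16690682714) * (q : ℤ) ^ 3 + (18532551646) * (q : ℤ) ^ 4 + (16777154729) * (q : ℤ) ^ 5 + (18544904791) * (q : ℤ) ^ 6 + (16778919464) * (q : ℤ) ^ 7 + (18545156896) * (q : ℤ) ^ 8 + (16778955479) * (q : ℤ) ^ 9 + (18545162041) * (q : ℤ) ^ 10 + (16778956214) * (q : ℤ) ^ 11 + (18545162146) * (q : ℤ) ^ 12 + (16778956229) * (q : ℤ) ^ 13, (-129816135037) + (-98907531457) * (q : ℤ) ^ 1 + (-113037178808) * (q : ℤ) ^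 2 + (-98907531457) * (q : ℤ) ^ 3 + (-113037178808) * (q : ℤ) ^ 4 + (-98907531457) * (q : ℤ) ^ 5 + (-113037178808) * (q : ℤ) ^ 6 + (-110640185061) * (q : ℤ) ^ 7 + (-100583624829) * (q : ℤ) ^ 8 + (-80980283916) * (q : ℤ) ^ 9 + (-96346496094) * (q : ℤ) ^ 10 + (-92107633415) * (q : ℤ) ^ 11 + (-83806470100) * (q : ℤ) ^ 12 + (-74168032729) * (q : ℤ) ^ 13 + (-67114022651) * (q : ℤ) ^ 14 + (-43902575374) * (q : ℤ) ^ 15 + (-62790385886) * (q : ℤ) ^ 16 + (-55017566583) * (q : ℤ) ^ 17 + (-50248594422) * (q : ℤ) ^ 18 + (-37077713687) * (q : ℤ) ^ 19 + (-33556110943) * (q : ℤ) ^ 20 + (-37090066937) * (q : ℤ) ^ 21 + (-33557875693) * (q : ℤ) ^ 22 + (-18545156896) * (q : ℤ) ^ 23 + (-16778955479) * (q : ℤ) ^ 24 + (-18545162041) * (q : ℤ) ^ 25 + (-16778956214) * (q : ℤ) ^ 26 + (-18545162146)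 * (q : ℤ) ^ 27 + (-16778956229) * (q : ℤ) ^ 28, by push_cast; ring⟩
      (List.Forall₂.cons ⟨(-229170430244) + (84495829829) * (q : ℤ) ^ 1 + (190577952481) * (q : ℤ) ^ 2 + (222972106349) * (q : ℤ) ^ 3 + (190442578396) * (q : ℤ) ^ 4 + (134134560509) * (q : ℤ) ^ 5 + (139990721731) * (q : ℤ) ^ 6 + (137173566479) * (q : ℤ) ^ 7 + (197950471096) * (q : ℤ) ^ 8 + (223941513854) * (q : ℤ) ^ 9 + (198102993466) * (q : ℤ) ^ 10 + (84517618739) * (q : ℤ) ^ 11 + (125808577216) * (q : ℤ) ^ 12 + (134153899664) * (q : ℤ) ^ 13 + (197533475671) * (q : ℤ) ^ 14 + (222871407509) * (q : ℤ) ^ 15 + (197516327386) * (q : ℤ) ^ 16 + (137171116724) * (q : ℤ) ^ 17, (-985991275147) + (-820641239047) * (q : ℤ) ^ 1 + (-1249549837538) * (q : ℤ) ^ 2 + (-1370226791962) * (q : ℤ) ^ 3 + (-1110125942423) *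 (q : ℤ) ^ 4 + (-748499345167) * (q : ℤ) ^ 5 + (-845800491608) * (q : ℤ) ^ 6 + (-1049394673866) * (q : ℤ) ^ 7 + (-1163983901364) * (q : ℤ) ^ 8 + (-1179062173401) * (q : ℤ) ^ 9 + (-939807334059) * (q : ℤ) ^ 10 + (-432248189555) * (q : ℤ) ^ 11 + (-577512031435) * (q : ℤ) ^ 12 + (-711870476464) * (q : ℤ) ^ 13 + (-803938927376) * (q : ℤ) ^ 14 + (-783595374919) * (q : ℤ) ^ 15 + (-578694703481) * (q : ℤ) ^ 16 + (-463315626333) * (q : ℤ) ^ 17 + (-408498582867) * (q : ℤ) ^ 18 + (-395483946767) * (q : ℤ) ^ 19 + (-446812921363) * (q : ℤ) ^ 20 + (-395619320852) * (q : ℤ) ^ 21 + (-221688735463) * (q : ℤ) ^ 22 + (-125808577216) * (q : ℤ) ^ 23 + (-134153899664) * (q : ℤ) ^ 24 + (-197533475671) * (q : ℤ) ^ 25 + (-222871407509) * (q : ℤ) ^ 26 + (-197516327386) * (q : ℤ) ^ 27 + (-137171116724)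 * (q : ℤ) ^ 28, by push_cast; ring⟩
      (List.Forall₂.cons ⟨(-137) + (77) * (q : ℤ) ^ 1 + (98) * (q : ℤ) ^ 2 + (77) * (q : ℤ) ^ 3 + (98) * (q : ℤ) ^ 4 + (112) * (q : ℤ) ^ 5 + (98) * (q : ℤ) ^ 6 + (77) * (q : ℤ) ^ 7 + (98) * (q : ℤ) ^ 8 + (77) * (q : ℤ) ^ 9 + (88) * (q : ℤ) ^ 10 + (77) * (q : ℤ) ^ 11 + (98) * (q : ℤ) ^ 12 + (77) * (q : ℤ) ^ 13 + (98) * (q : ℤ) ^ 14 + (112) * (q : ℤ) ^ 15 + (98) * (q : ℤ) ^ 16 + (77) * (q : ℤ) ^ 17 + (98) * (q : ℤ) ^ 18 + (77) * (q : ℤ) ^ 19, (-616) + (-676) * (q : ℤ) ^ 1 + (-609) * (q : ℤ) ^ 2 + (-441) * (q : ℤ) ^ 3 + (-609) * (q : ℤ) ^ 4 + (-686) * (q : ℤ) ^ 5 + (-574) * (q : ℤ) ^ 6 + (-578) * (q : ℤ) ^ 7 + (-532) * (q : ℤ) ^ 8 + (-343) * (q : ℤ) ^ 9 + (-462) * (q : ℤ) ^ 10 + (-490) * (q : ℤ) ^ 11 + (-420) * (q : ℤ) ^ 12 + (-382) *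 (q : ℤ) ^ 13 + (-378) * (q : ℤ) ^ 14 + (-392) * (q : ℤ) ^ 15 + (-308) * (q : ℤ) ^ 16 + (-294) * (q : ℤ) ^ 17 + (-266) * (q : ℤ) ^ 18 + (-186) * (q : ℤ) ^ 19 + (-154) * (q : ℤ) ^ 20 + (-196) * (q : ℤ) ^ 21 + (-154) * (q : ℤ) ^ 22 + (-98) * (q : ℤ) ^ 23 + (-112) * (q : ℤ) ^ 24 + (-98) * (q : ℤ) ^ 25 + (-77) * (q : ℤ) ^ 26 + (-98) * (q : ℤ) ^ 27 + (-77) * (q : ℤ) ^ 28, by push_cast; ring⟩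
      (List.Forall₂.cons ⟨(-359) + (119) * (q : ℤ) ^ 1 + (196) * (q : ℤ) ^ 2 + (224) * (q : ℤ) ^ 3 + (196) * (q : ℤ) ^ 4 + (119) * (q : ℤ) ^ 5 + (136) * (q : ℤ) ^ 6 + (119) * (q : ℤ) ^ 7 + (196) * (q : ℤ) ^ 8 + (224) * (q : ℤ) ^ 9 + (196) * (q : ℤ) ^ 10 + (119) * (q : ℤ) ^ 11 + (136) * (q : ℤ) ^ 12 + (119) * (q : ℤ) ^ 13 + (196) * (q : ℤ) ^ 14 + (224) * (q : ℤ) ^ 15 + (196) * (q : ℤ) ^ 16 + (119) * (q : ℤ) ^ 17 + (136) * (q : ℤ) ^ 18 + (119) * (q : ℤ) ^ 19 + (196) * (q : ℤ) ^ 20 + (224) * (q : ℤ) ^ 21 + (196) * (q : ℤ) ^ 22 + (119) * (q : ℤ) ^ 23, (-952) + (-1192) * (q : ℤ) ^ 1 + (-1253) * (q : ℤ) ^ 2 + (-1372) * (q : ℤ) ^ 3 + (-1148) * (q : ℤ) ^ 4 + (-637) * (q : ℤ) ^ 5 + (-833) * (q : ℤ) ^ 6 + (-1056) * (q : ℤ) ^ 7 + (-1134) * (q : ℤ) ^ 8 + (-1176) * (q : ℤ) ^ 9 + (-924)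 * (q : ℤ) ^ 10 + (-800) * (q : ℤ) ^ 11 + (-595) * (q : ℤ) ^ 12 + (-724) * (q : ℤ) ^ 13 + (-791) * (q : ℤ) ^ 14 + (-784) * (q : ℤ) ^ 15 + (-581) * (q : ℤ) ^ 16 + (-468) * (q : ℤ) ^ 17 + (-357) * (q : ℤ) ^ 18 + (-392) * (q : ℤ) ^ 19 + (-448) * (q : ℤ) ^ 20 + (-392) * (q : ℤ) ^ 21 + (-238) * (q : ℤ) ^ 22 + (-136) * (q : ℤ) ^ 23 + (-119) * (q : ℤ) ^ 24 + (-196) * (q : ℤ) ^ 25 + (-224) * (q : ℤ) ^ 26 + (-196) * (q : ℤ) ^ 27 + (-119) * (q : ℤ) ^ 28, by push_cast; ring⟩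
      (List.Forall₂.cons ⟨(-13832) + (2747) * (q : ℤ) ^ 1 + (5453) * (q : ℤ) ^ 2 + (6122) * (q : ℤ) ^ 3 + (5453) * (q : ℤ) ^ 4 + (5332) * (q : ℤ) ^ 5 + (3878) * (q : ℤ) ^ 6 + (2747) * (q : ℤ) ^ 7 + (5453) * (q : ℤ) ^ 8 + (6122) * (q : ℤ) ^ 9 + (5068) * (q : ℤ) ^ 10 + (2747) * (q : ℤ) ^ 11 + (3878) * (q : ℤ) ^ 12 + (2747) * (q : ℤ) ^ 13 + (5453) * (q : ℤ) ^ 14 + (6232) * (q : ℤ) ^ 15 + (5453) * (q : ℤ) ^ 16 + (2747) * (q : ℤ) ^ 17 + (3878) * (q : ℤ) ^ 18 + (2747) * (q : ℤ) ^ 19 + (5068) * (q : ℤ) ^ 20 + (6122) * (q : ℤ) ^ 21 + (5453) * (q : ℤ) ^ 22 + (2747) * (q : ℤ) ^ 23 + (3878) * (q : ℤ) ^ 24 + (5332) * (q : ℤ) ^ 25 + (5453) * (q : ℤ) ^ 26 + (6122) * (q : ℤ) ^ 27 + (5453) * (q : ℤ) ^ 28 + (2747) * (q : ℤ) ^ 29, (-21976) + (-33061) * (q : ℤ) ^ 1 + (-35424) * (q : ℤ)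 ^ 2 + (-37401) * (q : ℤ) ^ 3 + (-32049) * (q : ℤ) ^ 4 + (-31871) * (q : ℤ) ^ 5 + (-21814) * (q : ℤ) ^ 6 + (-29183) * (q : ℤ) ^ 7 + (-32677) * (q : ℤ) ^ 8 + (-31948) * (q : ℤ) ^ 9 + (-23232) * (q : ℤ) ^ 10 + (-22540) * (q : ℤ) ^ 11 + (-16320) * (q : ℤ) ^ 12 + (-19852) * (q : ℤ) ^ 13 + (-23808) * (q : ℤ) ^ 14 + (-21812) * (q : ℤ) ^ 15 + (-14363) * (q : ℤ) ^ 16 + (-13209) * (q : ℤ) ^ 17 + (-10826) * (q : ℤ) ^ 18 + (-10521) * (q : ℤ) ^ 19 + (-12244) * (q : ℤ) ^ 20 + (-10906) * (q : ℤ) ^ 21 + (-5494) * (q : ℤ) ^ 22 + (-3878) * (q : ℤ) ^ 23 + (-5332) * (q : ℤ) ^ 24 + (-5453) * (q : ℤ) ^ 25 + (-6122) * (q : ℤ) ^ 26 + (-5453) * (q : ℤ) ^ 27 + (-2747) * (q : ℤ) ^ 28, by push_cast; ring⟩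
      List.Forall₂.nil))))))))

theorem exclE8_8 (q : ℕ) (hq : IsPrimePow q) :
    ¬ q * (q ^ 12 + 1) * (q ^ 10 + 1) * (q ^ 6 + 1) - 8 ∣ q ^ 120 * ((q ^ 2 - 1) * (q ^ 8 - 1) * (q ^ 12 - 1) * (q ^ 14 - 1) * (q ^ 18 - 1) * (q ^ 20 - 1) * (q ^ 24 - 1) * (q ^ 30 - 1)) := by
  intro hd
  have hq2 : 2 ≤ q := hq.two_le
  rcases Nat.lt_or_ge q 39 with hlt | hge
  · exact (by decide +kernel : ∀ q < 39, 2 ≤ q →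
      ¬ q * (q ^ 12 + 1) * (q ^ 10 + 1) * (q ^ 6 + 1) - 8 ∣ q ^ 120 * ((q ^ 2 - 1) * (q ^ 8 - 1) * (q ^ 12 - 1) * (q ^ 14 - 1) * (q ^ 18 - 1) * (q ^ 20 - 1) * (q ^ 24 - 1) * (q ^ 30 - 1))) q hlt hq2 hd
  refine no_dvd hq ((8) + (7) * (q : ℤ) ^ 1 + (7) * (q : ℤ) ^ 2 + (7) * (q : ℤ) ^ 3 + (7) * (q : ℤ) ^ 4 + (7) * (q : ℤ) ^ 5 + (7) * (q : ℤ) ^ 6 + (6) * (q : ℤ) ^ 7 + (6) * (q : ℤ) ^ 8 + (6) * (q : ℤ) ^ 9 + (6) * (q : ℤ) ^ 10 + (5) * (q : ℤ) ^ 11 + (5) * (q : ℤ) ^ 12 + (4) * (q : ℤ) ^ 13 + (4) * (q : ℤ) ^ 14 + (4) * (q : ℤ) ^ 15 + (4) * (q : ℤ) ^ 16 + (3) * (q : ℤ) ^ 17 + (3) * (q : ℤ) ^ 18 + (2) * (q : ℤ) ^ 19 + (2) * (q : ℤ) ^ 20 + (2) * (q : ℤ) ^ 21 + (2) * (q : ℤ) ^ 22 + (1) * (q : ℤ) ^ 23 + (1) * (q : ℤ) ^ 24 + (1) * (q : ℤ) ^ 25 + (1) * (q : ℤ) ^ 26 + (1) * (q : ℤ)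 ^ 27 + (1) * (q : ℤ) ^ 28) (g := (-1) + (1) * (q : ℤ) ^ 1) (j := 8) (N := 120) (T := q * (q ^ 12 + 1) * (q ^ 10 + 1) * (q ^ 6 + 1))
    (L := [120, 480, 720, 1196747349960, 9075462213240, 1200, 1440, 37800]) (d := [2, 8, 12, 14, 18, 20, 24, 30]) ?_ (by norm_num) (by omega) ?_ (by norm_num) (by positivity) ?_ (by simpa [mul_assoc] using hd) (hqT := (((dvd_refl q).mul_right _).mul_right _).mul_right _)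
  · push_cast; ring
  · obtain ⟨x, rfl⟩ := Nat.exists_eq_add_of_le hge
    have e : ((8) + (7) * ((39 + x : ℕ) : ℤ) ^ 1 + (7) * ((39 + x : ℕ) : ℤ) ^ 2 + (7) * ((39 + x : ℕ) : ℤ) ^ 3 + (7) * ((39 + x : ℕ) : ℤ) ^ 4 + (7) * ((39 + x : ℕ) : ℤ) ^ 5 + (7) * ((39 + x : ℕ) : ℤ) ^ 6 + (6) * ((39 + x : ℕ) : ℤ) ^ 7 + (6) * ((39 + x : ℕ) : ℤ) ^ 8 + (6) * ((39 + x : ℕ) : ℤ) ^ 9 + (6) * ((39 + x : ℕ) : ℤ) ^ 10 + (5) * ((39 + x : ℕ) : ℤ) ^ 11 + (5) * ((39 + x : ℕ) : ℤ) ^ 12 + (4) * ((39 + x : ℕ) : ℤ) ^ 13 + (4) * ((39 + x : ℕ) : ℤ) ^ 14 + (4) * ((39 + x : ℕ) : ℤ) ^ 15 + (4) * ((39 + x : ℕ) : ℤ) ^ 16 + (3) * ((39 + x : ℕ) : ℤ) ^ 17 + (3) * ((39 + x : ℕ) : ℤ) ^ 18 + (2) * ((39 + x : ℕ) : ℤ) ^ 19 + (2) * ((39 + x : ℕ) : ℤ) ^ 20 + (2) * ((39 + x : ℕ) : ℤ) ^ 21 + (2) * ((39 + x : ℕ) : ℤ)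 ^ 22 + (1) * ((39 + x : ℕ) : ℤ) ^ 23 + (1) * ((39 + x : ℕ) : ℤ) ^ 24 + (1) * ((39 + x : ℕ) : ℤ) ^ 25 + (1) * ((39 + x : ℕ) : ℤ) ^ 26 + (1) * ((39 + x : ℕ) : ℤ) ^ 27 + (1) * ((39 + x : ℕ) : ℤ) ^ 28) - 235370338638242941468053945565839360000000000 =
        (128620126481486332212386328409000325648592968) + (261080880161057441709313650797265140773959304) * (x : ℤ) ^ 1 + (90289298531796863596364459331283253135713252) * (x : ℤ) ^ 2 + (20045469214086551009094260249577648482782726) * (x : ℤ) ^ 3 + (3209404883138087694805747573259256541424614) * (x : ℤ) ^ 4 + (394633929423906206075974584171010730836552) * (x : ℤ) ^ 5 + (38752532763824391312892841376759225476026) * (x : ℤ) ^ 6 + (3119997355613233531985859453311008202043) * (x : ℤ) ^ 7 + (209803840680106048090408857204027054243)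 * (x : ℤ) ^ 8 + (11943489372448988344865181920363791995) * (x : ℤ) ^ 9 + (581320369859373076738129130945534337) * (x : ℤ) ^ 10 + (24368369920378628705981815761104666) * (x : ℤ) ^ 11 + (884353045443660266951287650480074) * (x : ℤ) ^ 12 + (27882661785556418170233231012130) * (x : ℤ) ^ 13 + (765296595225910122703428099874) * (x : ℤ) ^ 14 + (18297817267383454625538611434) * (x : ℤ) ^ 15 + (380851600225527956384847706) * (x : ℤ) ^ 16 + (6886866080720363048779926) * (x : ℤ) ^ 17 + (107814145555817773536402) * (x : ℤ) ^ 18 + (1453638677227666629728) * (x : ℤ) ^ 19 + (16757286932084621132) * (x : ℤ) ^ 20 + (163534548822183827) * (x : ℤ) ^ 21 + (1332970046901755) * (x : ℤ) ^ 22 + (8907989853907) * (x : ℤ) ^ 23 + (47541707851) * (x : ℤ) ^ 24 + (194863930) * (x : ℤ) ^ 25 + (575992)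 * (x : ℤ) ^ 26 + (1093) * (x : ℤ) ^ 27 + (1) * (x : ℤ) ^ 28 := by push_cast; ring
    have h0 : (0 : ℤ) < (128620126481486332212386328409000325648592968) + (261080880161057441709313650797265140773959304) * (x : ℤ) ^ 1 + (90289298531796863596364459331283253135713252) * (x : ℤ) ^ 2 + (20045469214086551009094260249577648482782726) * (x : ℤ) ^ 3 + (3209404883138087694805747573259256541424614) * (x : ℤ) ^ 4 + (394633929423906206075974584171010730836552) * (x : ℤ) ^ 5 + (38752532763824391312892841376759225476026) * (x : ℤ) ^ 6 + (3119997355613233531985859453311008202043) * (x : ℤ) ^ 7 + (209803840680106048090408857204027054243) * (x : ℤ) ^ 8 + (11943489372448988344865181920363791995) * (x : ℤ) ^ 9 + (581320369859373076738129130945534337) * (x : ℤ) ^ 10 + (24368369920378628705981815761104666)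 * (x : ℤ) ^ 11 + (884353045443660266951287650480074) * (x : ℤ) ^ 12 + (27882661785556418170233231012130) * (x : ℤ) ^ 13 + (765296595225910122703428099874) * (x : ℤ) ^ 14 + (18297817267383454625538611434) * (x : ℤ) ^ 15 + (380851600225527956384847706) * (x : ℤ) ^ 16 + (6886866080720363048779926) * (x : ℤ) ^ 17 + (107814145555817773536402) * (x : ℤ) ^ 18 + (1453638677227666629728) * (x : ℤ) ^ 19 + (16757286932084621132) * (x : ℤ) ^ 20 + (163534548822183827) * (x : ℤ) ^ 21 + (1332970046901755) * (x : ℤ) ^ 22 + (8907989853907) * (x : ℤ) ^ 23 + (47541707851) * (x : ℤ) ^ 24 + (194863930) * (x : ℤ) ^ 25 + (575992) * (x : ℤ) ^ 26 + (1093) * (x : ℤ) ^ 27 + (1) * (x : ℤ) ^ 28 := by positivity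
    norm_num
    push_cast at e h0 ⊢
    linarith
  · exact (List.Forall₂.cons ⟨(8) + (-7) * (q : ℤ) ^ 1, (-56) + (-49) * (q : ℤ) ^ 2 + (7) * (q : ℤ) ^ 3 + (-42) * (q : ℤ) ^ 4 + (14) * (q : ℤ) ^ 5 + (-35) * (q : ℤ) ^ 6 + (13) * (q : ℤ) ^ 7 + (-29) * (q : ℤ) ^ 8 + (19) * (q : ℤ) ^ 9 + (-23) * (q : ℤ) ^ 10 + (17) * (q : ℤ) ^ 11 + (-18) * (q : ℤ) ^ 12 + (14) * (q : ℤ) ^ 13 + (-14) * (q : ℤ) ^ 14 + (18) * (q : ℤ) ^ 15 + (-10) * (q : ℤ) ^ 16 + (14) * (q : ℤ) ^ 17 + (-7) * (q : ℤ) ^ 18 + (9) * (q : ℤ) ^ 19 + (-5) * (q : ℤ) ^ 20 + (11) * (q : ℤ) ^ 21 + (-3) * (q : ℤ) ^ 22 + (5) * (q : ℤ) ^ 23 + (-2) * (q : ℤ) ^ 24 + (6) * (q : ℤ) ^ 25 + (-1) * (q : ℤ) ^ 26 + (7) * (q : ℤ) ^ 27, by push_cast; ring⟩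
      (List.Forall₂.cons ⟨(53) + (-52) * (q : ℤ) ^ 1 + (-7) * (q : ℤ) ^ 2 + (8) * (q : ℤ) ^ 3 + (-7) * (q : ℤ) ^ 4 + (8) * (q : ℤ) ^ 5 + (-7) * (q : ℤ) ^ 6 + (8) * (q : ℤ) ^ 7, (-56) + (-45) * (q : ℤ) ^ 1 + (-49) * (q : ℤ) ^ 2 + (22) * (q : ℤ) ^ 3 + (-42) * (q : ℤ) ^ 4 + (29) * (q : ℤ) ^ 5 + (-35) * (q : ℤ) ^ 6 + (-17) * (q : ℤ) ^ 7 + (-29) * (q : ℤ) ^ 8 + (-11) * (q : ℤ) ^ 9 + (-23) * (q : ℤ) ^ 10 + (2) * (q : ℤ) ^ 11 + (-18) * (q : ℤ) ^ 12 + (14) * (q : ℤ) ^ 13 + (-14) * (q : ℤ) ^ 14 + (18) * (q : ℤ) ^ 15 + (-10) * (q : ℤ) ^ 16 + (-31) * (q : ℤ) ^ 17 + (-7) * (q : ℤ) ^ 18 + (-21) * (q : ℤ) ^ 19 + (-5) * (q : ℤ) ^ 20 + (41) * (q : ℤ) ^ 21 + (-3) * (q : ℤ) ^ 22 + (-10) * (q : ℤ) ^ 23 + (-2) * (q : ℤ) ^ 24 + (-9) * (q : ℤ) ^ 25 + (-1) * (q : ℤ) ^ 26 + (-8) * (q : ℤ) ^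 27, by push_cast; ring⟩
      (List.Forall₂.cons ⟨(83) + (-82) * (q : ℤ) ^ 1 + (-22) * (q : ℤ) ^ 2 + (-7) * (q : ℤ) ^ 3 + (8) * (q : ℤ) ^ 4 + (23) * (q : ℤ) ^ 5 + (-7) * (q : ℤ) ^ 6 + (8) * (q : ℤ) ^ 7 + (-22) * (q : ℤ) ^ 8 + (-7) * (q : ℤ) ^ 9 + (8) * (q : ℤ) ^ 10 + (23) * (q : ℤ) ^ 11, (-56) + (-75) * (q : ℤ) ^ 1 + (-169) * (q : ℤ) ^ 2 + (-203) * (q : ℤ) ^ 3 + (-132) * (q : ℤ) ^ 4 + (44) * (q : ℤ) ^ 5 + (-35) * (q : ℤ) ^ 6 + (-47) * (q : ℤ) ^ 7 + (-149) * (q : ℤ) ^ 8 + (-161) * (q : ℤ) ^ 9 + (-83) * (q : ℤ) ^ 10 + (2) * (q : ℤ) ^ 11 + (-18) * (q : ℤ) ^ 12 + (-91) * (q : ℤ) ^ 13 + (-104) * (q : ℤ) ^ 14 + (-102) * (q : ℤ) ^ 15 + (-40) * (q : ℤ) ^ 16 + (44) * (q : ℤ) ^ 17 + (-7) * (q : ℤ) ^ 18 + (-51) * (q : ℤ) ^ 19 + (-65) * (q : ℤ) ^ 20 + (-49) * (q : ℤ) ^ 21 + (-3)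 * (q : ℤ) ^ 22 + (-10) * (q : ℤ) ^ 23 + (-2) * (q : ℤ) ^ 24 + (-24) * (q : ℤ) ^ 25 + (-31) * (q : ℤ) ^ 26 + (-23) * (q : ℤ) ^ 27, by push_cast; ring⟩
      (List.Forall₂.cons ⟨(141995022872) + (-121871146303) * (q : ℤ) ^ 1 + (-23960176048) * (q : ℤ) ^ 2 + (6977872577) * (q : ℤ) ^ 3 + (-7854048688) * (q : ℤ) ^ 4 + (8991138497) * (q : ℤ) ^ 5 + (-7602390448) * (q : ℤ) ^ 6 + (9022595777) * (q : ℤ) ^ 7 + (-7598458288) * (q : ℤ) ^ 8 + (9023087297) * (q : ℤ) ^ 9 + (-7598396848) * (q : ℤ) ^ 10 + (9023094977) * (q : ℤ) ^ 11 + (-7598395888) * (q : ℤ) ^ 12 + (9023095097) * (q : ℤ) ^ 13, (-60787166984) + (18995989680) * (q : ℤ) ^ 1 + (-50814272401) * (q : ℤ) ^ 2 + (28968884263) * (q : ℤ) ^ 3 + (-40841377818) * (q : ℤ) ^ 4 + (38941778846) * (q : ℤ) ^ 5 + (-30868483235) * (q : ℤ) ^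 6 + (-93080349443) * (q : ℤ) ^ 7 + (-41019465221) * (q : ℤ) ^ 8 + (62723867491) * (q : ℤ) ^ 9 + (-14064267167) * (q : ℤ) ^ 10 + (-68422084687) * (q : ℤ) ^ 11 + (-25352338962) * (q : ℤ) ^ 12 + (-56001638674) * (q : ℤ) ^ 13 + (-19941222806) * (q : ℤ) ^ 14 + (99254616882) * (q : ℤ) ^ 15 + (4452256430) * (q : ℤ) ^ 16 + (-34704773794) * (q : ℤ) ^ 17 + (-9680718823) * (q : ℤ) ^ 18 + (-25133164359) * (q : ℤ) ^ 19 + (-7118930885) * (q : ℤ) ^ 20 + (-22319717221) * (q : ℤ) ^ 21 + (-4274026347) * (q : ℤ) ^ 22 + (-11872484635) * (q : ℤ) ^ 23 + (-2849397338) * (q : ℤ) ^ 24 + (-10447794186) * (q : ℤ) ^ 25 + (-1424699209) * (q : ℤ) ^ 26 + (-9023095097) * (q : ℤ) ^ 27, by push_cast; ring⟩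
      (List.Forall₂.cons ⟨(1112561561054) + (-962650730341) * (q : ℤ) ^ 1 + (-265756507006) * (q : ℤ) ^ 2 + (-69548128351) * (q : ℤ) ^ 3 + (78202438424) * (q : ℤ) ^ 4 + (138734172599) * (q : ℤ) ^ 5 + (-26624653666) * (q : ℤ) ^ 6 + (28691652059) * (q : ℤ) ^ 7 + (-141659066686) * (q : ℤ) ^ 8 + (-54178166311) * (q : ℤ) ^ 9 + (62306121824) * (q : ℤ) ^ 10 + (291813759599) * (q : ℤ) ^ 11 + (-127971451546) * (q : ℤ) ^ 12 + (1203239699) * (q : ℤ) ^ 13 + (-147196006006) * (q : ℤ) ^ 14 + (-52741026151) * (q : ℤ) ^ 15 + (61168377824) * (q : ℤ) ^ 16 + (149273264759) * (q : ℤ) ^ 17, (-174969724808) + (86725084650) * (q : ℤ) ^ 1 + (-1076676241057) * (q : ℤ) ^ 2 + (-1367304760859) * (q : ℤ) ^ 3 + (-672137125116) * (q : ℤ) ^ 4 + (359533817252) * (q : ℤ) ^ 5 + (7802415325) * (q : ℤ) ^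 6 + (-848601275591) * (q : ℤ) ^ 7 + (-1047914730797) * (q : ℤ) ^ 8 + (-1073924487593) * (q : ℤ) ^ 9 + (-451749218339) * (q : ℤ) ^ 10 + (629690737151) * (q : ℤ) ^ 11 + (138021922926) * (q : ℤ) ^ 12 + (-544561108318) * (q : ℤ) ^ 13 + (-719825189432) * (q : ℤ) ^ 14 + (-665344257366) * (q : ℤ) ^ 15 + (-138264086560) * (q : ℤ) ^ 16 + (-231691813948) * (q : ℤ) ^ 17 + (-52523657431) * (q : ℤ) ^ 18 + (-341378730123) * (q : ℤ) ^ 19 + (-448297922585) * (q : ℤ) ^ 20 + (-324823422937) * (q : ℤ) ^ 21 + (116263601421) * (q : ℤ) ^ 22 + (-11707850125) * (q : ℤ) ^ 23 + (-10504610426) * (q : ℤ) ^ 24 + (-157700616432) * (q : ℤ) ^ 25 + (-210441642583) * (q : ℤ) ^ 26 + (-149273264759) * (q : ℤ) ^ 27, by push_cast; ring⟩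
      (List.Forall₂.cons ⟨(143) + (-142) * (q : ℤ) ^ 1 + (-12) * (q : ℤ) ^ 2 + (13) * (q : ℤ) ^ 3 + (-12) * (q : ℤ) ^ 4 + (-7) * (q : ℤ) ^ 5 + (8) * (q : ℤ) ^ 6 + (13) * (q : ℤ) ^ 7 + (-12) * (q : ℤ) ^ 8 + (13) * (q : ℤ) ^ 9 + (-7) * (q : ℤ) ^ 10 + (8) * (q : ℤ) ^ 11 + (-12) * (q : ℤ) ^ 12 + (13) * (q : ℤ) ^ 13 + (-12) * (q : ℤ) ^ 14 + (-7) * (q : ℤ) ^ 15 + (8) * (q : ℤ) ^ 16 + (13) * (q : ℤ) ^ 17 + (-12) * (q : ℤ) ^ 18 + (13) * (q : ℤ) ^ 19, (-56) + (-135) * (q : ℤ) ^ 1 + (-89) * (q : ℤ) ^ 2 + (27) * (q : ℤ) ^ 3 + (-82) * (q : ℤ) ^ 4 + (-126) * (q : ℤ) ^ 5 + (-55) * (q : ℤ) ^ 6 + (-102) * (q : ℤ) ^ 7 + (-69) * (q : ℤ) ^ 8 + (59) * (q : ℤ) ^ 9 + (-23) * (q : ℤ) ^ 10 + (-83) * (q : ℤ) ^ 11 + (-38) * (q : ℤ) ^ 12 + (-61) * (q : ℤ) ^ 13 + (-54) * (q : ℤ) ^ 14 + (-62) * (q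 : ℤ) ^ 15 + (-10) * (q : ℤ) ^ 16 + (-46) * (q : ℤ) ^ 17 + (-27) * (q : ℤ) ^ 18 + (-26) * (q : ℤ) ^ 19 + (-5) * (q : ℤ) ^ 20 + (-29) * (q : ℤ) ^ 21 + (-3) * (q : ℤ) ^ 22 + (-15) * (q : ℤ) ^ 23 + (-22) * (q : ℤ) ^ 24 + (-14) * (q : ℤ) ^ 25 + (-1) * (q : ℤ) ^ 26 + (-13) * (q : ℤ) ^ 27, by push_cast; ring⟩
      (List.Forall₂.cons ⟨(173) + (-172) * (q : ℤ) ^ 1 + (-22) * (q : ℤ) ^ 2 + (-7) * (q : ℤ) ^ 3 + (8) * (q : ℤ) ^ 4 + (23) * (q : ℤ) ^ 5 + (-7) * (q : ℤ) ^ 6 + (8) * (q : ℤ) ^ 7 + (-22) * (q : ℤ) ^ 8 + (-7) * (q : ℤ) ^ 9 + (8) * (q : ℤ) ^ 10 + (23) * (q : ℤ) ^ 11 + (-7) * (q : ℤ) ^ 12 + (8) * (q : ℤ) ^ 13 + (-22) * (q : ℤ) ^ 14 + (-7) * (q : ℤ) ^ 15 + (8) * (q : ℤ) ^ 16 + (23) * (q : ℤ) ^ 17 + (-7) * (q : ℤ) ^ 18 + (8) * (q : ℤ) ^ 19 + (-22) * (q : ℤ) ^ 20 + (-7) * (q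 : ℤ) ^ 21 + (8) * (q : ℤ) ^ 22 + (23) * (q : ℤ) ^ 23, (-56) + (-165) * (q : ℤ) ^ 1 + (-169) * (q : ℤ) ^ 2 + (-203) * (q : ℤ) ^ 3 + (-132) * (q : ℤ) ^ 4 + (44) * (q : ℤ) ^ 5 + (-35) * (q : ℤ) ^ 6 + (-137) * (q : ℤ) ^ 7 + (-149) * (q : ℤ) ^ 8 + (-161) * (q : ℤ) ^ 9 + (-83) * (q : ℤ) ^ 10 + (-88) * (q : ℤ) ^ 11 + (-18) * (q : ℤ) ^ 12 + (-91) * (q : ℤ) ^ 13 + (-104) * (q : ℤ) ^ 14 + (-102) * (q : ℤ) ^ 15 + (-40) * (q : ℤ) ^ 16 + (-46) * (q : ℤ) ^ 17 + (-7) * (q : ℤ) ^ 18 + (-51) * (q : ℤ) ^ 19 + (-65) * (q : ℤ) ^ 20 + (-49) * (q : ℤ) ^ 21 + (-3) * (q : ℤ) ^ 22 + (-10) * (q : ℤ) ^ 23 + (-2) * (q : ℤ) ^ 24 + (-24) * (q : ℤ) ^ 25 + (-31) * (q : ℤ) ^ 26 + (-23) * (q : ℤ) ^ 27, by push_cast; ring⟩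
      (List.Forall₂.cons ⟨(4578) + (-4557) * (q : ℤ) ^ 1 + (-602) * (q : ℤ) ^ 2 + (-127) * (q : ℤ) ^ 3 + (148) * (q : ℤ) ^ 4 + (3) * (q : ℤ) ^ 5 + (318) * (q : ℤ) ^ 6 + (323) * (q : ℤ) ^ 7 + (-602) * (q : ℤ) ^ 8 + (-127) * (q : ℤ) ^ 9 + (228) * (q : ℤ) ^ 10 + (543) * (q : ℤ) ^ 11 + (-302) * (q : ℤ) ^ 12 + (323) * (q : ℤ) ^ 13 + (-602) * (q : ℤ) ^ 14 + (-147) * (q : ℤ) ^ 15 + (168) * (q : ℤ) ^ 16 + (623) * (q : ℤ) ^ 17 + (-302) * (q : ℤ) ^ 18 + (323) * (q : ℤ) ^ 19 + (-522) * (q : ℤ) ^ 20 + (-207) * (q : ℤ) ^ 21 + (148) * (q : ℤ) ^ 22 + (623) * (q : ℤ) ^ 23 + (-302) * (q : ℤ) ^ 24 + (-297) * (q : ℤ) ^ 25 + (18) * (q : ℤ) ^ 26 + (-127) * (q : ℤ) ^ 27 + (148) * (q : ℤ) ^ 28 + (623) * (q : ℤ) ^ 29, (-1176) + (-4410) * (q : ℤ) ^ 1 + (-4669) * (q : ℤ) ^ 2 + (-5083) * (q : ℤ)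 ^ 3 + (-3772) * (q : ℤ) ^ 4 + (-3896) * (q : ℤ) ^ 5 + (-1355) * (q : ℤ) ^ 6 + (-3667) * (q : ℤ) ^ 7 + (-4249) * (q : ℤ) ^ 8 + (-4061) * (q : ℤ) ^ 9 + (-1983) * (q : ℤ) ^ 10 + (-2593) * (q : ℤ) ^ 11 + (-998) * (q : ℤ) ^ 12 + (-2406) * (q : ℤ) ^ 13 + (-3184) * (q : ℤ) ^ 14 + (-2702) * (q : ℤ) ^ 15 + (-960) * (q : ℤ) ^ 16 + (-1416) * (q : ℤ) ^ 17 + (-767) * (q : ℤ) ^ 18 + (-1271) * (q : ℤ) ^ 19 + (-1605) * (q : ℤ) ^ 20 + (-1309) * (q : ℤ) ^ 21 + (-63) * (q : ℤ) ^ 22 + (-365) * (q : ℤ) ^ 23 + (-662) * (q : ℤ) ^ 24 + (-644) * (q : ℤ) ^ 25 + (-771) * (q : ℤ) ^ 26 + (-623) * (q : ℤ) ^ 27, by push_cast; ring⟩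
      List.Forall₂.nil))))))))

end CfsgLib.CharsMore.EMinDeg
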