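import Cfsg.Agent.Lib.Chev.Twist.Class
import Cfsg.Agent.Lib.CharsMore.G2MinDeg.Chars

/-!
# Weight spaces of root subgroups of a simply laced Chevalley group in a complex representation

`W ρ h S c` consists of the vectors on which the root subgroup of each `g` in the list `S` acts by the
character `t ↦ ψ (c g * t)`. Root elements shift these weights, Weyl and torus elements move them.
-/

set_option autoImplicit false
set_option linter.unusedSectionVars false

namespace CfsgLib.CharsMore.EMinDeg

open Cfsg.Lie CfsgLib.Chev CfsgLib.CharsMore.G2MinDeg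

variable {D : ChevalleyDatum} {A : Aux}

/-- the root reached by a commutator with one term of bidegree `(1, 1)` -/
noncomputable def addR (A : Aux) (r s : ℕ) : Option (ℕ × ℤ) :=
  match A.terms r s with
  | [(k, c, 1, 1)] => some (k, c)
  | _ => none

/-- the root elements commute or have a single term -/
noncomputable def okPair (D : ChevalleyDatum) (A : Aux) (r s : ℕ) : Bool :=
  Nat.blt r D.nroots && Nat.blt s D.nroots && (Nat.beq r s ||
    (!Nat.beq s (A.neg r) && ((A.terms r s).isEmpty || (!Nat.beq r s && (addR A r s).isSome))))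

/-- the effect of `x_b(a)` on a weight -/
noncomputable def shiftC (D : ChevalleyDatum) (A : Aux) {F : Type*} [Field F] (b : ℕ) (a : F)
    (c : ℕ → F) (g : ℕ) : F :=
  if Nat.beq b g then c g else
    match addR A b g with
    | some (k, κ) => c g - (κ : F) * a * c k
    | none => c g

variable {F : Type*} [Field F]

/-- root elements of the group -/
noncomputable def X (h : Std D A) (r : ℕ) : AddChar F ↥(D.group F) where
  toFun t := ⟨xG h.good r t, xG_mem_group h.good r t⟩
  map_zero_eq_one' := Subtype.ext (xG_zero h.good r)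
  map_add_eq_mul' t u := Subtype.ext (xG_add h.good r t u).symm

lemma X_val (h : Std D A) (r : ℕ) (t : F) :
    ((X h r t : ↥(D.group F)) : GL D.Idx F) = xG h.good r t := rfl

/-- the Weyl element of a fundamental root -/
noncomputable def N (F : Type*) [Field F] (h : Std D A) (i : ℕ) : ↥(D.group F) :=
  ⟨nS F h.good i, nG_mem_group h.good _ _⟩

/-- torus elements -/
noncomputable def T (h : Std D A) (c : Fin D.rank → Fˣ) : ↥(D.group F) :=
  ⟨tor D A c, diagonalSubgroup_le_group h.good (by rw [diagonalSubgroup_eq h.good]; exact ⟨c, rfl⟩)⟩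

/-- the group relation behind the shift of weights -/
theorem X_swap (h : Std D A) {b g : ℕ} (hok : okPair D A b g = true) (a t : F) :
    X h g t * X h b a = X h b a * X h g t * (if Nat.beq b g then 1 else
      match addR A b g with
      | some (k, κ) => X h k ((κ : F) * -a * t)
      | none => 1) := by
  simp only [okPair, Bool.and_eq_true, Nat.blt_eq, Bool.or_eq_true, Bool.not_eq_true'] at hok
  obtain ⟨⟨hb, hg⟩, hc⟩ := hok
  by_cases hbg : b = g
  · subst hbg
    rw [if_pos (Nat.beq_refl b), mul_one, ← AddChar.map_add_eq_mul, ← AddChar.map_add_eq_mul,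
      add_comm]
  have hf : Nat.beq b g = false := by
    rcases h' : Nat.beq b g
    · rfl
    · exact absurd (Nat.eq_of_beq_eq_true h') hbg
  rw [if_neg (by simp [hf])]
  rw [hf] at hc
  simp only [Bool.false_eq_true, false_or, true_and] at hc
  obtain ⟨hn, hc⟩ := hc
  have hn' : g ≠ A.neg b := fun e => by simp [e] at hn
  have hs := xG_swap (F := F) h hb hg (Ne.symm hbg) hn' a t
  apply Subtype.ext
  rcases hc with hc | hc
  · rw [List.isEmpty_iff] at hc
    simp only [addR, hc]
    simp only [hc, List.map_nil, List.prod_nil, mul_one] at hs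
    simpa [X_val] using hs
  · unfold addR at hc ⊢
    split
    · rename_i k κ heq
      split at heq
      · rename_i k' κ' hterm
        simp only [Option.some.injEq, Prod.mk.injEq] at heq
        obtain ⟨rfl, rfl⟩ := heq
        rw [hterm] at hs
        simpa [X_val] using hs
      · simp at heq
    · rename_i heq
      rw [heq] at hc
      simp at hc

variable [Fintype F] {V : Type*} [AddCommGroup V] [Module ℂ V]
  (ρ : Representation ℂ ↥(D.group F) V) (h : Std D A)

/-- the vectors of weight `c` for the roots of `S` -/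
noncomputable def W (S : List ℕ) (c : ℕ → F) : Submodule ℂ V where
  carrier := {v | ∀ g ∈ S, ∀ t, ρ (X h g t) v = psi F (c g * t) • v}
  add_mem' hu hv g hg t := by rw [map_add, hu g hg t, hv g hg t, smul_add]
  zero_mem' g _ t := by rw [map_zero, smul_zero]
  smul_mem' a v hv g hg t := by rw [map_smul, hv g hg t, smul_comm]

variable {ρ h}

lemma mem_W {S : List ℕ} {c : ℕ → F} {v : V} :
    v ∈ W ρ h S c ↔ ∀ g ∈ S, ∀ t, ρ (X h g t) v = psi F (c g * t) • v := Iff.rfl

lemma W_mono {S S' : List ℕ} {c c' : ℕ → F} (hS : ∀ g ∈ S, g ∈ S') (hc : ∀ g ∈ S, c g = c' g) :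
    W ρ h S' c' ≤ W ρ h S c := fun v hv g hg t => by rw [hc g hg]; exact hv g (hS g hg) t

lemma W_congr {S : List ℕ} {c c' : ℕ → F} (hc : ∀ g ∈ S, c g = c' g) : W ρ h S c = W ρ h S c' :=
  le_antisymm (W_mono (fun _ hg => hg) fun g hg => (hc g hg).symm) (W_mono (fun _ hg => hg) hc)

lemma rho_mul (x y : ↥(D.group F)) (v : V) : ρ (x * y) v = ρ x (ρ y v) := by
  rw [map_mul]; rfl

/-- a fixed vector has weight zero -/
lemma fixed_of_zero {S : List ℕ} {c : ℕ → F} {v : V} (hv : v ∈ W ρ h S c) {k : ℕ} (hk : k ∈ S)
    (hc : c k = 0) (t : F) : ρ (X h k t) v = v := by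
  rw [hv k hk t, hc, zero_mul, AddChar.map_zero_eq_one, one_smul]

/-- the side condition for `x_b` to act on the weights of `S` -/
noncomputable def normB (D : ChevalleyDatum) (A : Aux) (b : ℕ) (S S' : List ℕ) : Bool :=
  S.all fun g => okPair D A b g && S'.elem g &&
    (Nat.beq b g || match addR A b g with
      | some (k, _) => S'.elem k
      | none => true)

lemma X_mem {S S' : List ℕ} {c : ℕ → F} {b : ℕ} (hb : normB D A b S S' = true) {v : V}
    (hv : v ∈ W ρ h S' c) (a : F) : ρ (X h b a) v ∈ W ρ h S (shiftC D A b a c) := by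
  intro g hg t
  simp only [normB, List.all_eq_true, Bool.and_eq_true, Bool.or_eq_true] at hb
  obtain ⟨⟨hok, hg'⟩, hk⟩ := hb g hg
  have hvg := hv g (List.elem_iff.1 hg') t
  rw [← rho_mul, X_swap h hok a t, rho_mul, rho_mul]
  rcases hbg : Nat.beq b g
  · simp only [hbg, Bool.false_eq_true, false_or] at hk
    simp only [shiftC, hbg, Bool.false_eq_true, if_false]
    split at hk
    · rename_i k κ heq
      try simp only [heq]
      rw [hv k (List.elem_iff.1 hk) _, map_smul, hvg, smul_smul, map_smul, ← AddChar.map_add_eq_mul]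
      congr 2
      ring
    · rename_i heq
      simp only [map_one]
      rw [Module.End.one_apply, hvg, map_smul]
  · simp only [shiftC, hbg, if_true, map_one]
    rw [Module.End.one_apply, hvg, map_smul]

lemma rho_injective (x : ↥(D.group F)) : Function.Injective (ρ x) := fun u v e => by
  have := congrArg (ρ x⁻¹) e
  rwa [← rho_mul, ← rho_mul, inv_mul_cancel, map_one] at this

lemma N_mul_X {i r : ℕ} (hi : i < D.rank) (hr : r < D.nroots) (t : F) :
    N F h i * X h r t = X h (A.refl i r) ((A.eta i r : F) * t) * N F h i := by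
  apply Subtype.ext
  push_cast [X_val]
  show nS F h.good i * xG h.good r t = xG h.good (A.refl i r) _ * nS F h.good i
  rw [← nS_conj_xG h.good hi hr t, inv_mul_cancel_right]

/-- the effect of a Weyl element on a weight -/
noncomputable def reflC (A : Aux) {F : Type*} [Field F] (i : ℕ) (c : ℕ → F) (g : ℕ) : F :=
  (A.eta i (A.refl i g) : F) * c (A.refl i g)

lemma N_mem {S S' : List ℕ} {c : ℕ → F} {i : ℕ} (hi : i < D.rank)
    (hS : ∀ g ∈ S', g < D.nroots ∧ A.refl i g ∈ S) {v : V} (hv : v ∈ W ρ h S c) :
    ρ (N F h i) v ∈ W ρ h S' (reflC A i c) := by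
  intro g hg t
  obtain ⟨hgn, hgS⟩ := hS g hg
  have hr := h.good.refl_lt i hi g hgn
  have hX : X h g t * N F h i = N F h i * X h (A.refl i g) ((A.eta i (A.refl i g) : F) * t) := by
    rw [N_mul_X hi hr, h.good.refl_refl i hi g hgn, ← mul_assoc, eta_sq h.good hi hr, one_mul]
  rw [← rho_mul, hX, rho_mul, hv _ hgS, map_smul, reflC]
  congr 2
  ring

lemma T_mul_X (d : Fin D.rank → Fˣ) {r : ℕ} (hr : r < D.nroots) (t : F) :
    T h d * X h r t = X h r ((chi D A d r : F) * t) * T h d := by
  apply Subtype.ext
  push_cast [X_val]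
  show tor D A d * xG h.good r t = xG h.good r _ * tor D A d
  rw [← tor_conj_xG h.good d hr t, inv_mul_cancel_right]

lemma T_mem {S : List ℕ} {c : ℕ → F} (d : Fin D.rank → Fˣ) (hS : ∀ g ∈ S, g < D.nroots) {v : V}
    (hv : v ∈ W ρ h S c) :
    ρ (T h d) v ∈ W ρ h S (fun g => ((chi D A d g)⁻¹ : Fˣ) * c g) := by
  intro g hg t
  have hX : X h g t * T h d = T h d * X h g (((chi D A d g)⁻¹ : Fˣ) * t) := by
    rw [T_mul_X d (hS g hg), ← mul_assoc, Units.mul_inv, one_mul]
  rw [← rho_mul, hX, rho_mul, hv g hg, map_smul]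
  congr 2
  ring

end CfsgLib.CharsMore.EMinDeg
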