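import Cfsg.Agent.Lib.CharsMore.EMinDeg.Global
import Cfsg.Agent.Lib.Chev.Data.AuxE6
import Cfsg.Prelude.Def_ChevE6

/-!
# The certificate for type E6
-/

set_option autoImplicit false
set_option maxRecDepth 100000

namespace CfsgLib.CharsMore.EMinDeg

/-- a stage -/
def stageE6_0 : Stage where
  P := [71]
  R := [46, 47, 48, 49, 50, 51, 52, 53, 54, 55, 61, 62, 63, 64, 65, 66, 67, 68, 69, 70]
  top := 70
  tj := 1
  wmove := []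
  cls := [(70, [], [(39, 69), (40, 68), (43, 66), (41, 67), (44, 65), (58, 55), (45, 64), (59, 54), (60, 53)]),
    (69, [3], [(37, 68), (42, 66), (38, 67), (57, 55), (44, 63), (45, 62), (59, 52), (60, 51)]),
    (66, [3, 2], [(37, 65), (56, 55), (38, 64), (40, 63), (41, 62), (59, 49), (60, 48)]),
    (68, [3, 4], [(36, 67), (42, 65), (43, 63), (57, 54), (58, 52), (45, 61), (60, 50)]),
    (55, [3, 2, 0], [(37, 54), (38, 53), (40, 52), (41, 51), (44, 49), (45, 48)]),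
    (65, [3, 2, 4], [(36, 64), (39, 63), (56, 54), (41, 61), (58, 49), (60, 47)]),
    (67, [3, 4, 5], [(42, 64), (43, 62), (57, 53), (44, 61), (58, 51), (59, 50)]),
    (54, [3, 2, 0, 4], [(36, 53), (39, 52), (43, 49), (41, 50), (45, 47)]),
    (63, [3, 2, 4, 3], [(36, 62), (56, 52), (38, 61), (57, 49), (60, 46)]),
    (64, [3, 2, 4, 5], [(39, 62), (56, 53), (40, 61), (58, 48), (59, 47)]),
    (52, [3, 2, 0, 4, 3], [(36, 51), (42, 49), (38, 50), (45, 46)]),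
    (53, [3, 2, 0, 4, 5], [(39, 51), (40, 50), (43, 48), (44, 47)]),
    (62, [3, 2, 4, 3, 5], [(37, 61), (56, 51), (57, 48), (59, 46)]),
    (49, [3, 2, 0, 4, 3, 2], [(36, 48), (38, 47), (41, 46)]),
    (51, [3, 2, 0, 4, 3, 5], [(37, 50), (42, 48), (44, 46)]),
    (61, [3, 2, 4, 3, 5, 4], [(56, 50), (57, 47), (58, 46)]),
    (48, [3, 2, 0, 4, 3, 2, 5], [(37, 47), (40, 46)]),
    (50, [3, 2, 0, 4, 3, 5, 4], [(42, 47), (43, 46)]),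
    (47, [3, 2, 0, 4, 3, 2, 5, 4], [(39, 46)]),
    (46, [3, 2, 0, 4, 3, 2, 5, 4, 3], [])]
  clr := [(39, 69), (40, 68), (43, 66), (41, 67), (44, 65), (58, 55), (45, 64), (59, 54), (60, 53)]
  orth := [47, 48, 49, 50, 51, 52, 61, 62, 63]
  g0 := 63
  ow := [(47, [4, 5, 2, 0]), (48, [5, 2, 0]), (49, [2, 0]), (50, [4, 5, 0]), (51, [5, 0]), (52, [0]), (61, [4, 5]), (62, [5]), (63, [])]
  st1 := [(36, 62), (56, 52), (38, 61), (57, 49)]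
  weird := [(46, 11, 63)]

/-- a stage -/
def stageE6_1 : Stage where
  P := [71, 46, 47, 48, 49, 50, 51, 52, 53, 54, 55, 61, 62, 63, 64, 65, 66, 67, 68, 69, 70]
  R := [36, 38, 41, 45, 60]
  top := 60
  tj := 0
  wmove := [2, 3, 4, 5]
  cls := [(60, [], [(56, 45), (57, 41), (58, 38), (59, 36)]),
    (45, [0], [(42, 41), (43, 38), (44, 36)]),
    (41, [0, 2], [(39, 38), (40, 36)]),
    (38, [0, 2, 3], [(37, 36)]),
    (36, [0, 2, 3, 4], [])]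
  clr := [(56, 45), (57, 41), (58, 38), (59, 36)]
  orth := []
  g0 := 0
  ow := []
  st1 := []
  weird := []

/-- a stage -/
def stageE6_2 : Stage where
  P := [71, 46, 47, 48, 49, 50, 51, 52, 53, 54, 55, 61, 62, 63, 64, 65, 66, 67, 68, 69, 70, 36, 38, 41, 45, 60]
  R := [37, 40, 44, 59]
  top := 59
  tj := 0
  wmove := [2, 3, 4]
  cls := [(59, [], [(56, 44), (57, 40), (58, 37)]),
    (44, [0], [(42, 40), (43, 37)]),
    (40, [0, 2], [(39, 37)]),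
    (37, [0, 2, 3], [])]
  clr := [(56, 44), (57, 40), (58, 37)]
  orth := []
  g0 := 0
  ow := []
  st1 := []
  weird := []

/-- a stage -/
def stageE6_3 : Stage where
  P := [71, 46, 47, 48, 49, 50, 51, 52, 53, 54, 55, 61, 62, 63, 64, 65, 66, 67, 68, 69, 70, 36, 38, 41, 45, 60, 37, 40, 44, 59]
  R := [39, 43, 58]
  top := 58
  tj := 0
  wmove := [2, 3]
  cls := [(58, [], [(56, 43), (57, 39)]),
    (43, [0], [(42, 39)]),
    (39, [0, 2], [])]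
  clr := [(56, 43), (57, 39)]
  orth := []
  g0 := 0
  ow := []
  st1 := []
  weird := []

/-- a stage -/
def stageE6_4 : Stage where
  P := [71, 46, 47, 48, 49, 50, 51, 52, 53, 54, 55, 61, 62, 63, 64, 65, 66, 67, 68, 69, 70, 36, 38, 41, 45, 60, 37, 40, 44, 59, 39, 43, 58]
  R := [42, 57]
  top := 57
  tj := 0
  wmove := [2]
  cls := [(57, [], [(56, 42)]),
    (42, [0], [])]
  clr := [(56, 42)]
  orth := []
  g0 := 0
  ow := []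
  st1 := []
  weird := []

/-- a stage -/
def stageE6_5 : Stage where
  P := [71, 46, 47, 48, 49, 50, 51, 52, 53, 54, 55, 61, 62, 63, 64, 65, 66, 67, 68, 69, 70, 36, 38, 41, 45, 60, 37, 40, 44, 59, 39, 43, 58, 42, 57]
  R := [56]
  top := 56
  tj := 2
  wmove := []
  cls := [(56, [], [])]
  clr := []
  orth := []
  g0 := 0
  ow := []
  st1 := []
  weird := []

/-- the certificate -/
def certE6 : Cert where
  th := 71
  t1 := 70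
  a1 := 56
  tj := 1
  A0 := [61, 62, 63, 64, 65, 66, 67, 68, 69, 70]
  clrA := [(55, 61), (54, 62), (53, 63), (52, 64), (51, 65), (50, 66), (49, 67), (48, 68), (47, 69), (46, 70)]
  steps := [(26, none), (27, none), (28, none), (29, none), (30, none), (31, none), (32, none), (33, none), (34, none), (35, none), (36, none), (37, none), (38, none), (39, none), (40, none), (41, none), (42, none), (43, none), (44, none), (45, none), (56, none), (57, none), (58, none), (59, none), (60, none), (26, some (27, 35)), (27, some (26, 36)), (28, some (26, 38)), (29, some (26, 41)), (30, some (26, 42)), (31, some (27, 42)), (32, some (28, 42)), (33, some (26, 43)), (34, some (27, 43)), (35, some (26, 44)), (36, some (27, 45)), (37, some (28, 44)), (38, some (28, 45)), (39, some (29, 43)), (40, some (29, 44)), (41, some (29, 45)), (42, some (30, 45)), (43, some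 (33, 45)), (44, some (35, 45)), (45, some (36, 44)), (56, some (26, 60)), (57, some (30, 60)), (58, some (33, 60)), (59, some (35, 60)), (60, some (36, 59)), (16, none), (17, none), (18, none), (19, none), (20, none), (21, none), (22, none), (23, none), (24, none), (25, none), (16, some (26, 23)), (17, some (26, 24)), (18, some (27, 24)), (19, some (26, 25)), (20, some (27, 25)), (21, some (28, 25)), (22, some (30, 25)), (23, some (31, 25)), (24, some (32, 25)), (25, some (39, 24))]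
  uw := [1, 3, 2, 4, 3, 1, 5, 4, 3, 2]
  gen := [[1, 3, 2, 0, 4, 3, 1, 2, 3, 4, 5, 4, 3, 1, 2, 0, 3, 2, 4, 3, 1],
    [1, 3, 2, 0, 4, 3, 1, 2, 3, 4, 5, 4, 3, 1, 2, 0, 3, 2, 4, 3],
    [1, 3, 2, 0, 4, 3, 1, 2, 3, 4, 5, 4, 3, 1, 2, 0, 3, 2, 4],
    [1, 3, 2, 0, 4, 3, 1, 2, 3, 4, 5, 4, 3, 1, 2, 0, 3, 2],
    [1, 3, 2, 0, 4, 3, 1, 2, 3, 5, 4, 3, 1, 2, 0, 3, 2],
    [1, 3, 2, 0, 4, 3, 1, 2, 3, 4, 5, 4, 3, 1, 2, 0, 3, 4],
    [1, 3, 2, 0, 4, 3, 1, 2, 3, 4, 5, 4, 3, 1, 2, 0, 3],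
    [1, 3, 2, 0, 4, 3, 1, 2, 3, 5, 4, 3, 1, 2, 0, 3],
    [1, 3, 2, 0, 4, 3, 1, 2, 3, 4, 5, 4, 3, 1, 2, 0],
    [1, 3, 2, 0, 4, 3, 1, 2, 3, 5, 4, 3, 1, 2, 0],
    [1, 3, 2, 0, 4, 3, 1, 2, 5, 4, 3, 1, 2, 0],
    [1, 3, 2, 0, 4, 3, 1, 2, 3, 4, 5, 4, 3, 2, 0],
    [1, 3, 2, 0, 4, 3, 1, 2, 3, 5, 4, 3, 2, 0],
    [1, 3, 2, 0, 4, 3, 1, 2, 5, 4, 3, 2, 0],
    [1, 3, 2, 0, 4, 3, 1, 5, 4, 3, 2, 0],
    [1, 3, 2, 4, 3, 1, 5, 4, 3, 2, 0],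
    [1, 3, 2, 0, 4, 3, 1, 2, 3, 4, 5, 4, 3, 1, 2, 3, 4],
    [1, 3, 2, 0, 4, 3, 1, 2, 3, 4, 5, 4, 3, 1, 2, 3],
    [1, 3, 2, 0, 4, 3, 1, 2, 3, 5, 4, 3, 1, 2, 3],
    [1, 3, 2, 0, 4, 3, 1, 2, 3, 4, 5, 4, 3, 1, 2],
    [1, 3, 2, 0, 4, 3, 1, 2, 3, 5, 4, 3, 1, 2],
    [1, 3, 2, 0, 4, 3, 1, 2, 5, 4, 3, 1, 2],
    [1, 3, 2, 0, 4, 3, 1, 2, 3, 4, 5, 4, 3, 1],
    [1, 3, 2, 0, 4, 3, 1, 2, 3, 5, 4, 3, 1],
    [1, 3, 2, 0, 4, 3, 1, 2, 5, 4, 3, 1],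
    [1, 3, 2, 0, 4, 3, 2, 5, 4, 3, 1],
    [1, 3, 2, 0, 4, 3, 1, 2, 3, 4, 5, 4, 3, 2],
    [1, 3, 2, 0, 4, 3, 1, 2, 3, 5, 4, 3, 2],
    [1, 3, 2, 0, 4, 3, 1, 2, 5, 4, 3, 2],
    [1, 3, 2, 0, 4, 3, 1, 5, 4, 3, 2],
    [1, 3, 2, 0, 4, 3, 1, 2, 3, 4, 5, 4, 3],
    [1, 3, 2, 0, 4, 3, 1, 2, 3, 5, 4, 3],
    [1, 3, 2, 0, 4, 3, 1, 2, 5, 4, 3],
    [1, 3, 2, 0, 4, 3, 1, 2, 3, 4, 5, 4],
    [1, 3, 2, 0, 4, 3, 1, 2, 3, 5, 4],
    [1, 3, 2, 0, 4, 3, 1, 2, 3, 4, 5],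
    [1, 3, 2, 0, 4, 3, 1, 2, 3, 4],
    [1, 3, 2, 0, 4, 3, 1, 2, 3, 5],
    [1, 3, 2, 0, 4, 3, 1, 2, 3],
    [1, 3, 2, 0, 4, 3, 1, 2, 5, 4],
    [1, 3, 2, 0, 4, 3, 1, 2, 5],
    [1, 3, 2, 0, 4, 3, 1, 2],
    [1, 3, 2, 0, 4, 3, 1, 5, 4, 3],
    [1, 3, 2, 0, 4, 3, 1, 5, 4],
    [1, 3, 2, 0, 4, 3, 1, 5],
    [1, 3, 2, 0, 4, 3, 1],
    [1, 3, 2, 0, 4, 3, 2, 5, 4, 3],
    [1, 3, 2, 0, 4, 3, 2, 5, 4],
    [1, 3, 2, 0, 4, 3, 2, 5],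
    [1, 3, 2, 0, 4, 3, 2],
    [1, 3, 2, 0, 4, 3, 5, 4],
    [1, 3, 2, 0, 4, 3, 5],
    [1, 3, 2, 0, 4, 3],
    [1, 3, 2, 0, 4, 5],
    [1, 3, 2, 0, 4],
    [1, 3, 2, 0],
    [1, 3, 2, 4, 3, 1, 5, 4, 3, 2],
    [1, 3, 2, 4, 3, 1, 5, 4, 3],
    [1, 3, 2, 4, 3, 1, 5, 4],
    [1, 3, 2, 4, 3, 1, 5],
    [1, 3, 2, 4, 3, 1],
    [1, 3, 2, 4, 3, 5, 4],
    [1, 3, 2, 4, 3, 5],
    [1, 3, 2, 4, 3],
    [1, 3, 2, 4, 5],
    [1, 3, 2, 4],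
    [1, 3, 2],
    [1, 3, 4, 5],
    [1, 3, 4],
    [1, 3],
    [1],
    []]
  w1t := [1]
  posL := [36, 37, 38, 39, 40, 41, 42, 43, 44, 45, 46, 47, 48, 49, 50, 51, 52, 53, 54, 55, 56, 57, 58, 59, 60, 61, 62, 63, 64, 65, 66, 67, 68, 69, 70, 71]
  first := stageE6_0
  others := [stageE6_1, stageE6_2, stageE6_3, stageE6_4, stageE6_5]

theorem certB_E6 : certB Cfsg.Lie.chevE6 CfsgLib.Chev.auxE6 certE6 = true := by decide +kernel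

end CfsgLib.CharsMore.EMinDeg
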