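import Cfsg.Agent.Lib.CharsMore.EMinDeg.Global
import Cfsg.Agent.S0165
import Cfsg.Agent.Lib.Chev.Data.AuxE6
import Cfsg.Prelude.Def_ChevE6

/-!
# An element of order divisible by 31 commuting with the highest root subgroup of type E6

When 31 divides the degree and the order exactly once, every weight space of the highest root
subgroup has dimension divisible by 31.
-/

set_option autoImplicit false
set_option linter.unusedSectionVars false
set_option maxRecDepth 100000

namespace CfsgLib.CharsMore.EMinDeg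

open Cfsg.Lie CfsgLib.Chev CfsgLib.CharsMore.G2MinDeg CfsgLib.CharsMore.D4MinDeg Module Matrix

variable {D : ChevalleyDatum} {A : Aux} {F : Type*} [Field F]

/-- reduce the coefficients modulo two -/
def mod2 (v : List (ℕ × ℤ)) : List (ℕ × ℤ) := v.map fun p => (p.1, p.2 % 2)

/-- iterate a word modulo two -/
noncomputable def iter2 (D : ChevalleyDatum) (A : Aux) (w : List (ℕ × ℤ)) :
    ℕ → List (ℕ × ℤ) → List (ℕ × ℤ)
  | 0, v => v
  | n + 1, v => scompact (mod2 (A.appWord D.rank D.nroots w (iter2 D A w n v)))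

/-- all coefficients are even -/
noncomputable def even2 (v : List (ℕ × ℤ)) : Bool := (snorm v).all fun p => p.2 % 2 == 0

/-- the coefficient at an index -/
def coef (c : ℕ) (v : List (ℕ × ℤ)) : ℤ := ((v.filter fun p => p.1 == c).map Prod.snd).sum

lemma sval_mod2 (h2 : (2 : F) = 0) (v : List (ℕ × ℤ)) :
    sval (ev D F) (mod2 v) = sval (ev D F) v := by
  induction v with
  | nil => rfl
  | cons p v ih =>
    rw [mod2, List.map_cons, sval_cons, sval_cons, ← mod2, ih, ← Int.cast_smul_eq_zsmul F,
      ← Int.cast_smul_eq_zsmul F (p.2 : ℤ)]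
    congr 2
    conv_rhs => rw [← Int.emod_add_mul_ediv p.2 2]
    push_cast
    rw [h2, zero_mul, add_zero]

lemma sval_iter (h : Std D A) (h2 : (2 : F) = 0) {w : List (ℕ × ℤ)}
    (hw : ∀ p ∈ w, p.1 < D.nroots) : ∀ (n : ℕ) (v : List (ℕ × ℤ)),
    sval (ev D F) (iter2 D A w n v) =
      (D.wordMat F (w.map fun p => (p.1, (p.2 : F)))) ^ n *ᵥ sval (ev D F) v
  | 0, v => by simp [iter2]
  | n + 1, v => by
    rw [iter2, sval_scompact, sval_mod2 h2, sval_appWord h.good hw, sval_iter h h2 hw n v,
      Matrix.mulVec_mulVec, ← pow_succ']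

lemma sval_eq_zero (h2 : (2 : F) = 0) {v : List (ℕ × ℤ)} (hv : even2 v = true) :
    sval (ev D F) v = 0 := by
  rw [← sval_snorm (ev D F) v, sval]
  refine List.sum_eq_zero fun x hx => ?_
  obtain ⟨p, hp, rfl⟩ := List.mem_map.1 hx
  have := List.all_eq_true.1 hv p hp
  rw [beq_iff_eq] at this
  obtain ⟨c, hc⟩ := Int.dvd_of_emod_eq_zero this
  rw [← Int.cast_smul_eq_zsmul F, hc]
  push_cast
  rw [h2, zero_mul, zero_smul]

lemma sval_apply (v : List (ℕ × ℤ)) (x : D.Idx) :
    sval (ev D F) v x = (coef (idx D x) v : F) := by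
  induction v with
  | nil => simp [coef, sval]
  | cons p v ih =>
    rw [sval_cons, Pi.add_apply, Pi.smul_apply, ih, zsmul_eq_mul, ev]
    by_cases e : p.1 = idx D x
    · simp [coef, e]
    · simp [coef, e, Ne.symm e]

/-- the word -/
def w31 : List (ℕ × ℤ) := [(15, 1), (42, 1), (37, 1), (39, 1), (32, 1), (34, 1), (56, 1), (29, 1)]

theorem w31_check : (w31.all fun p => Nat.blt p.1 chevE6.nroots && commPair chevE6 auxE6 71 p.1) = true ∧
    even2 (iter2 chevE6 auxE6 w31 31 [(66, 1)] ++ [(66, 1)]) = true ∧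
    (coef 51 (iter2 chevE6 auxE6 w31 1 [(66, 1)]) % 2 == 1) = true := by decide +kernel

variable [Fintype F]

/-- weights of the highest root group have dimensions divisible by 31 -/
theorem thirty_one_dvd (h : Std chevE6 auxE6) (h2 : (2 : F) = 0) {V : Type*} [AddCommGroup V]
    [Module ℂ V] [FiniteDimensional ℂ V] (ρ : Representation ℂ ↥(chevE6.group F) V) [ρ.IsIrreducible]
    (hn : 31 ∣ Nat.card ↥(chevE6.group F)) (hn' : ¬ 31 ^ 2 ∣ Nat.card ↥(chevE6.group F))
    (hdeg : 31 ∣ finrank ℂ V) (τ : F) :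
    31 ∣ finrank ℂ (W ρ h [71] fun x => if x = 71 then τ else 0) := by
  classical
  haveI : Finite (GL chevE6.Idx F) := finite_GL
  obtain ⟨hw, hev, hco⟩ := w31_check
  have hw' : ∀ p ∈ w31, p.1 < chevE6.nroots := fun p hp => by
    have := List.all_eq_true.1 hw p hp
    simp only [Bool.and_eq_true] at this
    simpa [Nat.blt_eq] using this.1
  let g : ↥(chevE6.group F) := (w31.map fun p => X h p.1 (p.2 : F)).prod
  have hgval : ((g : GL chevE6.Idx F) : Matrix chevE6.Idx chevE6.Idx F) =
      chevE6.wordMat F (w31.map fun p => (p.1, (p.2 : F))) := by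
    show ((((w31.map fun p => X h p.1 (p.2 : F)).prod : ↥(chevE6.group F)) : GL chevE6.Idx F) :
      Matrix chevE6.Idx chevE6.Idx F) = _
    induction w31 with
    | nil => simp [wordMat_nil]
    | cons p w ih =>
      rw [List.map_cons, List.map_cons, List.prod_cons, wordMat_cons, Subgroup.coe_mul, Units.val_mul,
        ih, X_val, xG_val]
  have hfix : ((g : GL chevE6.Idx F) : Matrix chevE6.Idx chevE6.Idx F) ^ 31 *ᵥ
      ev chevE6 F 66 = ev chevE6 F 66 := by
    have h0 := sval_eq_zero (D := chevE6) (F := F) h2 hev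
    rw [sval_append, sval_iter h h2 hw', sval_cons, sval_nil, add_zero, one_smul, ← hgval] at h0
    have htwo : ev chevE6 F 66 + ev chevE6 F 66 = 0 := by rw [← two_smul F, h2, zero_smul]
    exact add_right_cancel (h0.trans htwo.symm)
  have hmove : ((g : GL chevE6.Idx F) : Matrix chevE6.Idx chevE6.Idx F) *ᵥ
      ev chevE6 F 66 ≠ ev chevE6 F 66 := by
    intro e
    have h1 := sval_iter (F := F) h h2 hw' 1 [(66, 1)]
    rw [sval_cons, sval_nil, add_zero, one_smul, pow_one, ← hgval, e] at h1
    obtain ⟨x, hx⟩ := exists_idx (D := chevE6) (c := 51) (by decide +kernel)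
    have h4 := congrFun h1 x
    rw [sval_apply] at h4
    simp only [ev] at h4
    rw [hx] at h4
    norm_num at h4
    rw [beq_iff_eq] at hco
    have h5 : (coef 51 (iter2 chevE6 auxE6 w31 1 [(66, 1)]) : F) = 1 := by
      conv_lhs => rw [← Int.emod_add_mul_ediv (coef 51 (iter2 chevE6 auxE6 w31 1 [(66, 1)])) 2]
      rw [hco]
      push_cast
      rw [h2, zero_mul, add_zero]
    rw [h5] at h4
    exact one_ne_zero h4
  have hpow : ∀ n : ℕ, ((g ^ n : ↥(chevE6.group F)) : GL chevE6.Idx F).val =
      ((g : GL chevE6.Idx F) : Matrix chevE6.Idx chevE6.Idx F) ^ n := fun n => by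
    rw [SubmonoidClass.coe_pow, Units.val_pow_eq_pow_val]
  have hord : 31 ∣ orderOf g := by
    by_contra hc
    refine hmove ?_
    have hcop : Nat.Coprime (orderOf g) 31 := ((Nat.Prime.coprime_iff_not_dvd (by norm_num)).2 hc).symm
    set M := ((g : GL chevE6.Idx F) : Matrix chevE6.Idx chevE6.Idx F)
    obtain ⟨m, hm⟩ := exists_pow_eq_self_of_coprime hcop.symm
    have hk : ∀ k, (M ^ 31) ^ k *ᵥ ev chevE6 F 66 = ev chevE6 F 66 := by
      intro k
      induction k with
      | zero => simp
      | succ k ih => rw [pow_succ', ← Matrix.mulVec_mulVec, ih, hfix]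
    have hM : (M ^ 31) ^ m = M := by rw [← pow_mul, ← hpow, pow_mul, hm]
    rw [← hM]
    exact hk m
  set n := orderOf g / 31 with hn31
  set g' := g ^ n
  have hg31 : g' ^ 31 = 1 := by
    rw [← pow_mul, hn31, Nat.div_mul_cancel hord, pow_orderOf_eq_one]
  have hgord : orderOf g' = 31 := by
    rw [orderOf_pow' g (by
      rw [hn31]; exact (Nat.div_pos (Nat.le_of_dvd (orderOf_pos g) hord) (by norm_num)).ne'),
      Nat.gcd_eq_right (Nat.div_dvd_of_dvd hord)]
    exact Nat.div_div_self hord (orderOf_pos g).ne'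
  have hcomm : ∀ t : F, Commute (X h 71 t) g' := fun t => by
    refine Commute.pow_right ?_ n
    refine Commute.list_prod_right _ _ fun y hy => ?_
    obtain ⟨p, hp, rfl⟩ := List.mem_map.1 hy
    have := List.all_eq_true.1 hw p hp
    simp only [Bool.and_eq_true] at this
    exact Subtype.ext (commute_xG h this.2 t _).eq
  let e31 : AddChar (ZMod 31) ↥(chevE6.group F) :=
    { toFun := fun i => g' ^ i.val
      map_zero_eq_one' := by simp
      map_add_eq_mul' := fun i j => by
        rw [← pow_add, ZMod.val_add]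
        exact (pow_eq_pow_mod _ hg31).symm }
  let e := prodChar (X h 71) e31 fun t i => (hcomm t).pow_right _
  let χ : AddChar (F × ZMod 31) ℂ :=
    { toFun := fun p => psi F (τ * p.1)
      map_zero_eq_one' := by simp
      map_add_eq_mul' := fun p p' => by rw [Prod.fst_add, mul_add, AddChar.map_add_eq_mul] }
  have hU : finrank ℂ (W ρ h [71] fun x => if x = 71 then τ else 0) =
      mult ρ (X h 71) (w1 F τ) := by
    rw [mult]
    refine congrArg (fun U : Submodule ℂ V => finrank ℂ U) (le_antisymm (fun v hv => ?_) ?_)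
    · exact ⟨v, wp_apply ρ (X h 71) fun t => by
        rw [w1_apply]; simpa using hv 71 List.mem_cons_self t⟩
    · rintro _ ⟨v, rfl⟩ g hg t
      obtain rfl := List.mem_singleton.1 hg
      show _ = psi F ((if 71 = 71 then τ else 0) * t) • _
      rw [if_pos rfl]
      exact isWt_wp ρ (X h 71) (w1 F τ) v t
  have h1 := trace_wp ρ (X h 71) (w1 F τ)
  have h2' := trace_wp ρ e χ
  simp only [wp, map_smul, map_sum, smul_eq_mul] at h1 h2'
  rw [Fintype.sum_prod_type] at h2'
  have hterm : ∀ t : F, ∑ i : ZMod 31, χ (-(t, i)) * LinearMap.trace ℂ V (ρ (e (t, i))) =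
      psi F (τ * -t) * LinearMap.trace ℂ V (ρ (X h 71 t)) := by
    intro t
    rw [Finset.sum_eq_single (0 : ZMod 31)]
    · simp only [e, prodChar_apply, e31, χ, AddChar.coe_mk, ZMod.val_zero, pow_zero, mul_one,
        Prod.fst_neg]
    · intro i _ hi
      have hz : LinearMap.trace ℂ V (ρ (e (t, i))) = 0 := by
        refine Cfsg.Agent.S0165.result ρ 31 1 (by norm_num) (by simpa using hn) (by simpa using hn')
          (by simpa using hdeg) _ ?_
        simp only [e, prodChar_apply, e31, AddChar.coe_mk]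
        set x := X h 71 t
        have hx2 : x ^ 2 = 1 := by
          rw [sq, ← AddChar.map_add_eq_mul, ← two_mul, h2, zero_mul, AddChar.map_zero_eq_one]
        have hp := pow_orderOf_eq_one (x * g' ^ i.val)
        set o := orderOf (x * g' ^ i.val)
        have h3 : (x * g' ^ i.val) ^ (2 * o) = 1 := by rw [mul_comm, pow_mul, hp, one_pow]
        rw [((hcomm t).pow_right i.val).mul_pow, pow_mul, hx2, one_pow, one_mul, ← pow_mul] at h3
        have h4 := orderOf_dvd_of_pow_eq_one h3
        rw [hgord] at h4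
        have hp31 : Nat.Prime 31 := by norm_num
        rcases (Nat.Prime.dvd_mul hp31).1 h4 with h5 | h5
        · exact absurd ((ZMod.val_eq_zero i).1 (Nat.eq_zero_of_dvd_of_lt h5 (ZMod.val_lt i))) hi
        · exact (Nat.Prime.dvd_mul hp31).1 h5 |>.resolve_left (by norm_num)
      rw [hz, mul_zero]
    · simp
  simp only [hterm, Fintype.card_prod, ZMod.card, Nat.cast_mul] at h2'
  simp only [w1_apply] at h1
  refine ⟨mult ρ e χ, ?_⟩
  rw [hU]
  have : (mult ρ (X h 71) (w1 F τ) : ℂ) = (31 * mult ρ e χ : ℕ) := by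
    rw [← h1, Nat.cast_mul, ← h2']
    push_cast
    field_simp
  exact_mod_cast this

end CfsgLib.CharsMore.EMinDeg
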