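import Cfsg.Agent.Lib.CharsMore.EMinDeg.Common
import Cfsg.Agent.Lib.Chev.OrderTypes

/-!
# The group side: a moved root element, and the order
-/

set_option autoImplicit false
set_option linter.unusedSectionVars false

namespace CfsgLib.CharsMore.EMinDeg

open Cfsg.Lie CfsgLib.Chev Module

variable {D : ChevalleyDatum} {A : Aux} {F : Type*} [Field F] [Fintype F]

theorem exists_moved_root (h : Std D A) {k : ℕ}
    (ρ : Representation ℂ ↥(D.group F) (Fin k → ℂ)) (hirr : ρ.IsIrreducible) (hk : 2 ≤ k) :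
    ∃ r t v, r < D.nroots ∧ ρ (X h r t) v ≠ v := by
  obtain ⟨s, ⟨r, t, hr, rfl⟩, x, hx⟩ := CfsgLib.KnownA.MinDegree.exists_moved_of_generator ρ hirr hk
    {s | ∃ r t, r < D.nroots ∧ s = X h r t} fun H hH => by
      refine eq_top_iff.2 fun s _ => ?_
      have hle : D.group F ≤ H.map (D.group F).subtype := by
        conv_lhs => rw [group_eq h.good]
        rw [Subgroup.closure_le]
        rintro y ⟨r, t, hr, rfl⟩
        exact ⟨X h r t, hH _ ⟨r, t, hr, rfl⟩, rfl⟩
      obtain ⟨y, hy, hys⟩ := hle s.2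
      obtain rfl : y = s := Subtype.ext hys
      exact hy
  exact ⟨r, t, x, hr, hx⟩

theorem dvd_poly (h : Std D A) {k : ℕ} (ρ : Representation ℂ ↥(D.group F) (Fin k → ℂ))
    [ρ.IsIrreducible] {lv : List (List Rep)} (hw : checkWeyl D A lv = true)
    {U Ui V Vi : Matrix (Fin D.rank) (Fin D.rank) ℤ} {d : Fin D.rank → ℕ}
    (hs : smithCheck D A U Ui V Vi d = true) {deg : List ℕ} (hp : poinCheck D.rank lv deg = true) :
    k ∣ Fintype.card F ^ (D.nroots / 2) * (deg.map fun d => Fintype.card F ^ d - 1).prod ∧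
      k ∣ Nat.card ↥(D.group F) := by
  haveI : Finite (GL D.Idx F) := finite_GL
  have h1 := CfsgLib.Chars.finrank_dvd_card ρ
  rw [finrank_fin_fun] at h1
  exact ⟨h1.trans (Dvd.intro_left _ (order_formula h hw hs hp rfl)), h1⟩

end CfsgLib.CharsMore.EMinDeg
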