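import Cfsg.Agent.Lib.CharsMore.EMinDeg.ArithE6
import Cfsg.Agent.Lib.CharsMore.EMinDeg.Rep
import Cfsg.Agent.Lib.CharsMore.EMinDeg.Exc

/-!
# The smallest degree for type E6
-/

set_option autoImplicit false
set_option maxRecDepth 100000

namespace CfsgLib.CharsMore.EMinDeg

open Cfsg.Lie CfsgLib.Chev Module

variable {F : Type*} [Field F] [Fintype F]

theorem exc_false {j : ℕ} (hj : (Fintype.card F = 2 ∧ j = 2) ∨ (Fintype.card F = 4 ∧ j = 4))
    {k : ℕ} (ρ : Representation ℂ ↥(chevE6.group F) (Fin k → ℂ)) [ρ.IsIrreducible] (hk2 : 2 ≤ k)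
    (hk : k = Fintype.card F * (Fintype.card F ^ 6 + Fintype.card F ^ 3 + 1) *
      (Fintype.card F ^ 4 + 1) - j) : False := by
  have hq : 2 ≤ Fintype.card F := Fintype.one_lt_card
  obtain ⟨hd, hcard⟩ := dvd_poly stdE6 ρ weylOKE6 smithE6 poinE6
  have hb := cert_bound (F := F) (h := stdE6) certB_E6 (exists_moved_root stdE6 ρ inferInstance hk2)
    (suffixE6 _ hq) (tailE6 _ hq)
  have h31k : 31 ∣ k := by
    rcases hj with ⟨hq', rfl⟩ | ⟨hq', rfl⟩ <;> rw [hk, hq'] <;> norm_num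
  have h2 : (2 : F) = 0 := by
    obtain ⟨p, hp⟩ := CharP.exists F
    obtain ⟨n, hpp, hn⟩ := FiniteField.card F p
    have hdp : p ∣ 2 ^ 2 := by
      have hpd : p ∣ Fintype.card F := hn ▸ dvd_pow_self p n.pos.ne'
      rcases hj with ⟨hq', -⟩ | ⟨hq', -⟩ <;> rw [hq'] at hpd
      · exact hpd.trans (by norm_num)
      · exact hpd
    obtain rfl := (Nat.prime_dvd_prime_iff_eq hpp Nat.prime_two).1 (hpp.dvd_of_dvd_pow hdp)
    simpa using CharP.cast_eq_zero F 2
  have hn' : ¬ 31 ^ 2 ∣ Nat.card ↥(chevE6.group F) := fun hc => by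
    haveI : Finite (GL chevE6.Idx F) := finite_GL
    have h3 := hc.trans (Dvd.intro_left _ (order_formula (F := F) stdE6 weylOKE6 smithE6 poinE6 rfl))
    rcases hj with ⟨hq', -⟩ | ⟨hq', -⟩ <;> rw [hq'] at h3 <;> revert h3 <;> decide +kernel
  have h31 := thirty_one_dvd (F := F) stdE6 h2 ρ (h31k.trans hcard) hn'
    (by rwa [finrank_fin_fun]) 1
  have hdim := hb.2 k (by
    rw [hk, show certE6.first = stageE6_0 from rfl, sumE6_0]
    rcases hj with ⟨hq', rfl⟩ | ⟨hq', rfl⟩ <;> rw [hq'] <;> decide +kernel)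
    (by rw [finrank_fin_fun]) 1 one_ne_zero
  rw [show finrank ℂ (W ρ stdE6 [71] fun x => if x = 71 then (1 : F) else 0) =
    Fintype.card F ^ certE6.A0.length from hdim] at h31
  rcases hj with ⟨hq', -⟩ | ⟨hq', -⟩ <;> rw [hq'] at h31 <;> revert h31 <;> decide +kernel

/-- the smallest degree for type E6 -/
theorem min_degree_E6 {k : ℕ} (ρ : Representation ℂ ↥(chevE6.group F) (Fin k → ℂ))
    (hρ : ρ.IsIrreducible) (hk : 2 ≤ k) :
    Fintype.card F * (Fintype.card F ^ 6 + Fintype.card F ^ 3 + 1) * (Fintype.card F ^ 4 + 1) ≤ k := by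
  haveI := hρ
  have hq : 2 ≤ Fintype.card F := Fintype.one_lt_card
  have hpp : IsPrimePow (Fintype.card F) := FiniteField.isPrimePow_card F
  obtain ⟨hd, -⟩ := dvd_poly stdE6 ρ weylOKE6 smithE6 poinE6
  have hb := (cert_bound (F := F) (h := stdE6) certB_E6 (exists_moved_root stdE6 ρ hρ hk)
    (suffixE6 _ hq) (tailE6 _ hq)).1
  rw [finrank_fin_fun] at hb
  have ht := targetE6 _ hq
  have hA : certE6.A0.length = 10 := rfl
  rw [hA] at hb
  rw [show chevE6.nroots / 2 = 36 by decide +kernel] at hd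
  simp only [List.map_cons, List.map_nil, List.prod_cons, List.prod_nil, mul_one, ← mul_assoc] at hd
  by_contra hlt
  obtain ⟨j, hj0, hj6, hj⟩ : ∃ j, 1 ≤ j ∧ j ≤ 6 ∧ k = Fintype.card F *
      (Fintype.card F ^ 6 + Fintype.card F ^ 3 + 1) * (Fintype.card F ^ 4 + 1) - j :=
    ⟨Fintype.card F * (Fintype.card F ^ 6 + Fintype.card F ^ 3 + 1) * (Fintype.card F ^ 4 + 1) - k,
      by omega, by omega, by omega⟩
  rw [hj] at hd
  interval_cases j
  · exact exclE6_1 _ hpp (by simpa only [← mul_assoc] using hd)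
  · by_cases h : Fintype.card F = 2
    · exact exc_false (Or.inl ⟨h, rfl⟩) ρ hk hj
    · exact exclE6_2 _ hpp h (by simpa only [← mul_assoc] using hd)
  · exact exclE6_3 _ hpp (by simpa only [← mul_assoc] using hd)
  · by_cases h : Fintype.card F = 4
    · exact exc_false (Or.inr ⟨h, rfl⟩) ρ hk hj
    · exact exclE6_4 _ hpp h (by simpa only [← mul_assoc] using hd)
  · exact exclE6_5 _ hpp (by simpa only [← mul_assoc] using hd)
  · exact exclE6_6 _ hpp (by simpa only [← mul_assoc] using hd)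

end CfsgLib.CharsMore.EMinDeg
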