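import Cfsg.Agent.Lib.CharsMore.EMinDeg.ArithE8
import Cfsg.Agent.Lib.CharsMore.EMinDeg.Rep

/-!
# The smallest degree for type E8
-/

set_option autoImplicit false
set_option maxRecDepth 100000

namespace CfsgLib.CharsMore.EMinDeg

open Cfsg.Lie CfsgLib.Chev Module

variable {F : Type*} [Field F] [Fintype F]

/-- the smallest degree for type E8 -/
theorem min_degree_E8 {k : ℕ} (ρ : Representation ℂ ↥(chevE8.group F) (Fin k → ℂ))
    (hρ : ρ.IsIrreducible) (hk : 2 ≤ k) :
    Fintype.card F * (Fintype.card F ^ 12 + 1) * (Fintype.card F ^ 10 + 1) * (Fintype.card F ^ 6 + 1) ≤ k := by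
  haveI := hρ
  have hq : 2 ≤ Fintype.card F := Fintype.one_lt_card
  have hpp : IsPrimePow (Fintype.card F) := FiniteField.isPrimePow_card F
  obtain ⟨hd, -⟩ := dvd_poly stdE8 ρ weylOKE8 smithE8 poinE8
  have hb := (cert_bound (F := F) (h := stdE8) certB_E8 (exists_moved_root stdE8 ρ hρ hk)
    (suffixE8 _ hq) (tailE8 _ hq)).1
  rw [finrank_fin_fun] at hb
  have ht := targetE8 _ hq
  have hA : certE8.A0.length = 28 := rfl
  rw [hA] at hb
  rw [show chevE8.nroots / 2 = 120 by decide +kernel] at hd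
  simp only [List.map_cons, List.map_nil, List.prod_cons, List.prod_nil, mul_one, ← mul_assoc] at hd
  by_contra hlt
  obtain ⟨j, hj0, hj8, hj⟩ : ∃ j, 1 ≤ j ∧ j ≤ 8 ∧ k = Fintype.card F * (Fintype.card F ^ 12 + 1) * (Fintype.card F ^ 10 + 1) * (Fintype.card F ^ 6 + 1) - j :=
    ⟨Fintype.card F * (Fintype.card F ^ 12 + 1) * (Fintype.card F ^ 10 + 1) * (Fintype.card F ^ 6 + 1) - k,
      by omega, by omega, by omega⟩
  rw [hj] at hd
  interval_cases j
  · exact exclE8_1 _ hpp (by simpa only [← mul_assoc] using hd)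
  · exact exclE8_2 _ hpp (by simpa only [← mul_assoc] using hd)
  · exact exclE8_3 _ hpp (by simpa only [← mul_assoc] using hd)
  · exact exclE8_4 _ hpp (by simpa only [← mul_assoc] using hd)
  · exact exclE8_5 _ hpp (by simpa only [← mul_assoc] using hd)
  · exact exclE8_6 _ hpp (by simpa only [← mul_assoc] using hd)
  · exact exclE8_7 _ hpp (by simpa only [← mul_assoc] using hd)
  · exact exclE8_8 _ hpp (by simpa only [← mul_assoc] using hd)

end CfsgLib.CharsMore.EMinDeg
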