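import Cfsg.Agent.Lib.CharsMore.EMinDeg.Stage
import Cfsg.Agent.Lib.KnownA.MinDegree.Nontrivial

/-!
# The lower bound from a certificate
-/

set_option autoImplicit false
set_option linter.unusedSectionVars false

namespace CfsgLib.CharsMore.EMinDeg

open Cfsg.Lie CfsgLib.Chev CfsgLib.CharsMore.G2MinDeg Module

/-- the data for a group -/
structure Cert where
  /-- the highest root -/
  th : ℕ
  /-- its neighbour -/
  t1 : ℕ
  /-- the witness root -/
  a1 : ℕ
  /-- a fundamental torus moving `th` -/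
  tj : ℕ
  /-- an abelian set of roots inside the Heisenberg radical -/
  A0 : List ℕ
  /-- their shifts from `th` -/
  clrA : List (ℕ × ℕ)
  /-- the steps fixing a line -/
  steps : List (ℕ × Option (ℕ × ℕ))
  /-- the word for the witness -/
  uw : List ℕ
  /-- words from `th` to all roots -/
  gen : List (List ℕ)
  /-- a word from `t1` to `th` -/
  w1t : List ℕ
  /-- the roots fixing the witness -/
  posL : List ℕ
  /-- the first stage -/
  first : Stage
  /-- the other stages -/
  others : List Stage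

/-- the contribution of a stage -/
def orbSum (q : ℕ) (s : Stage) : ℕ :=
  ((s.cls.map fun p => (q - 1) * q ^ p.2.2.length)).sum

/-- the contribution of a list of stages -/
def orbSums (q : ℕ) (l : List Stage) : ℕ := (l.map (orbSum q)).sum

/-- the many weights outweigh the remaining stages -/
def SuffixOK (q : ℕ) : List Stage → Prop
  | [] => True
  | s :: l => (s.rest = [] ∨ orbSums q (s :: l) ≤ q ^ (s.st1.length + s.clr.length)) ∧ SuffixOK q l

theorem suffixOK_cons {q : ℕ} {s : Stage} {l : List Stage} :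
    SuffixOK q (s :: l) ↔
      (s.rest = [] ∨ orbSums q (s :: l) ≤ q ^ (s.st1.length + s.clr.length)) ∧ SuffixOK q l := by
  simp only [SuffixOK]

variable (D : ChevalleyDatum) (A : Aux)

/-- consecutive stages -/
noncomputable def linkB : Stage → List Stage → Bool
  | _, [] => true
  | s, s' :: l => s'.P.all (fun g => s.S.elem g) && s.S.all (fun g => s'.P.elem g) && linkB s' l

/-- the conditions on the witness move of a stage -/
noncomputable def witB (C : Cert) (s : Stage) : Bool :=
  wordB D s.wmove C.posL && ontoB A s.wmove C.posL (s.top :: s.P) &&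
    Nat.beq (wimg A s.wmove C.a1) s.top

/-- all conditions -/
noncomputable def certB (C : Cert) : Bool :=
  (C.th :: C.A0).all (fun g => Nat.blt g D.nroots) && !C.A0.elem C.th && Nat.blt C.tj D.rank &&
    Nat.beq (A.cart C.tj C.th).natAbs 1 &&
    extB D A C.A0 [C.th] [] && clearB D A (C.th :: C.A0) C.th C.clrA [] &&
    runB D A true (C.th :: C.A0) C.th C.clrA [C.th] [C.th] &&
    decide (C.clrA.map Prod.snd).Nodup && Nat.beq C.clrA.length C.A0.length &&
    C.A0.all (fun g => (C.clrA.map Prod.snd).elem g) &&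
    C.A0.elem C.t1 && Nat.beq C.gen.length D.nroots &&
    (List.range D.nroots).all (fun g => wordB D (C.gen.getD g []) [C.th] &&
      Nat.beq (wimg A (C.gen.getD g []) C.th) g) &&
    wordB D C.w1t [C.t1] && Nat.beq (wimg A C.w1t C.t1) C.th && fixB D A C.t1 [C.th] [C.th] &&
    lineB D A (C.th :: C.A0) C.steps (C.th :: C.A0) C.A0 &&
    !(lineT C.steps C.A0).elem C.th &&
    wordB D C.uw (C.th :: lineT C.steps C.A0) && ontoB A C.uw (C.th :: lineT C.steps C.A0) C.posL &&
    Nat.beq (wimg A C.uw C.th) C.a1 && C.posL.elem C.a1 &&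
    stageB D A C.first && decide (C.first.P = [C.th]) && Nat.beq C.first.top C.t1 &&
    C.others.all (fun s => stageB D A s && witB D A C s) && linkB C.first C.others

variable {D A} {F : Type*} [Field F] [Fintype F]

lemma orbSum_eq (q : ℕ) (s : Stage) :
    orbSum q s = ∑ i : Fin s.cls.length, (q - 1) * q ^ (s.cls.get i).2.2.length := by
  rw [orbSum, ← Fin.sum_univ_fun_getElem]
  rfl

variable {V : Type*} [AddCommGroup V] [Module ℂ V] [FiniteDimensional ℂ V]
  {ρ : Representation ℂ ↥(D.group F) V} {h : Std D A}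

theorem stages_le {C : Cert} (hm : C.a1 ∈ C.posL) {c : ℕ → F}
    (hc : ∀ g ∈ C.posL, g ≠ C.a1 → c g = 0)
    (ha : c C.a1 ≠ 0) (h0 : W ρ h C.posL c ≠ ⊥) :
    ∀ (l : List Stage) (s0 : Stage), (∀ s ∈ l, stageB D A s = true ∧ witB D A C s = true) →
    linkB s0 l = true → SuffixOK (Fintype.card F) l →
    orbSums (Fintype.card F) l ≤ finrank ℂ (W ρ h s0.S fun _ => (0 : F))
  | [], _, _, _, _ => Nat.zero_le _
  | s :: l, s0, hl, hlink, hok => by
    simp only [linkB, Bool.and_eq_true] at hlink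
    obtain ⟨⟨hP1, hP2⟩, hlink⟩ := hlink
    have hmono : finrank ℂ (W ρ h s.P fun _ => (0 : F)) = finrank ℂ (W ρ h s0.S fun _ => (0 : F)) := by
      refine le_antisymm (Submodule.finrank_mono (W_mono (fun g hg => ?_) fun _ _ => rfl))
        (Submodule.finrank_mono (W_mono (fun g hg => List.elem_iff.1 (List.all_eq_true.1 hP1 g hg))
          fun _ _ => rfl))
      exact List.elem_iff.1 (List.all_eq_true.1 hP2 g hg)
    obtain ⟨hs, hw⟩ := hl s List.mem_cons_self
    simp only [witB, Bool.and_eq_true] at hw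
    obtain ⟨⟨hw, hon⟩, himg⟩ := hw
    have hwr := (wordB_spec hw).1
    have hlt := (wordB_spec hw).2
    have htopP : s.top ∉ s.P := by
      simp only [stageB, baseB, Bool.and_eq_true, Bool.not_eq_true'] at hs
      exact notMem_of_elem hs.1.1.1.1.1.1.1.1.1.2
    have hz : ∀ z ∈ s.P, moveC A s.wmove c z = 0 := fun z hz => by
      obtain ⟨z0, hz0, rfl⟩ := ontoB_spec hon (List.mem_cons_of_mem _ hz)
      refine moveC_zero h hwr (hlt z0 hz0) (hc z0 hz0 fun e => htopP ?_)
      rwa [← Nat.eq_of_beq_eq_true himg, ← e]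
    have hne : moveC A s.wmove c s.top ≠ 0 := by
      obtain ⟨e, he, hv⟩ := moveC_wimg (F := F) h s.wmove hwr (hlt _ hm)
      rw [← Nat.eq_of_beq_eq_true himg, hv]
      exact mul_ne_zero (sq_one_ne he) ha
    have h1 := stage_bound hs hz hne
      (Submodule.one_le_finrank_iff.1 ((one_le_finrank h0).trans (finrank_word_le hw hon c)))
    rw [← hmono]
    rcases h1 with ⟨hr, hbig⟩ | horb
    · exact (hok.1.resolve_left hr).trans hbig
    · have ih := stages_le hm hc ha h0 l s (fun t ht => hl t (List.mem_cons_of_mem _ ht)) hlink hok.2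
      rw [← orbSum_eq] at horb
      simp only [orbSums, List.map_cons, List.sum_cons] at ih ⊢
      omega

/-- the weight supported at `g` -/
def single (g : ℕ) {F : Type*} [Field F] (τ : F) : ℕ → F := fun x => if x = g then τ else 0

section Main

variable {C : Cert} (hC : certB D A C = true)
include hC

/-- all root subgroups are conjugate to the highest one -/
theorem th_moved (hmv : ∃ r t v, r < D.nroots ∧ ρ (X h r t) v ≠ v) :
    ∃ a : F, a ≠ 0 ∧ W ρ h [C.th] (single C.th a) ≠ ⊥ := by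
  simp only [certB, Bool.and_eq_true, Bool.not_eq_true'] at hC
  obtain ⟨⟨⟨⟨⟨⟨⟨⟨⟨⟨⟨⟨⟨⟨⟨⟨⟨⟨⟨⟨⟨⟨⟨⟨⟨⟨hlt, hnA⟩, htj0⟩, hcart⟩, hext⟩, hclr⟩, hrun⟩, hnd0⟩, hlen0⟩, hcov⟩, ht10⟩, hgen0⟩, hgen⟩, hw1⟩, hi1⟩, hfix⟩, hline⟩, hthT⟩, huw⟩, huo⟩, hui⟩, ha10⟩, hst⟩, hP0⟩, htop0⟩, hoth⟩, hlink⟩ := hC
  by_contra hcon
  push Not at hcon
  obtain ⟨r, t, v, hr, hv⟩ := hmv
  have hth : ∀ (u : V) (s : F), ρ (X h C.th s) u = u := by
    intro u s
    conv_rhs => rw [← proj_sum (ρ := ρ) (h := h) C.th u]
    conv_lhs => rw [← proj_sum (ρ := ρ) (h := h) C.th u, map_sum]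
    refine Finset.sum_congr rfl fun a _ => ?_
    rw [proj_weight]
    rcases eq_or_ne a 0 with rfl | ha
    · rw [zero_mul, AddChar.map_zero_eq_one, one_smul]
    · have : proj ρ h C.th a u ∈ W ρ h [C.th] (single C.th a) := by
        intro g hg x
        obtain rfl := List.mem_singleton.1 hg
        rw [single, if_pos rfl, proj_weight]
      rw [hcon a ha, Submodule.mem_bot] at this
      rw [this, smul_zero]
  have hw := List.all_eq_true.1 hgen r (List.mem_range.2 hr)
  simp only [Bool.and_eq_true] at hw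
  have htop : (⊤ : Submodule ℂ V) ≤ W ρ h [C.th] fun _ => (0 : F) := fun u _ g hg x => by
    obtain rfl := List.mem_singleton.1 hg
    rw [hth, zero_mul, AddChar.map_zero_eq_one, one_smul]
  have h1 := finrank_move_le (ρ := ρ) (h := h) (C.gen.getD r []) (wordB_spec hw.1).1
    (wordB_spec hw.1).2 (S' := [r]) (fun g hg => by
      obtain rfl := List.mem_singleton.1 hg
      simpa using (Nat.eq_of_beq_eq_true hw.2).symm) (fun _ => (0 : F))
  have h2 : W ρ h [r] (moveC A (C.gen.getD r []) fun _ => (0 : F)) = ⊤ :=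
    Submodule.eq_top_of_finrank_eq (le_antisymm (Submodule.finrank_le _)
      (((finrank_top ℂ V).symm.le.trans (Submodule.finrank_mono htop)).trans h1))
  have h3 : moveC A (C.gen.getD r []) (fun _ => (0 : F)) r = 0 := by
    have h4 := moveC_zero h (wordB_spec hw.1).1 ((wordB_spec hw.1).2 _ List.mem_cons_self)
      (c := fun _ => (0 : F)) rfl
    rwa [Nat.eq_of_beq_eq_true hw.2] at h4
  exact hv (fixed_of_zero (h2 ▸ Submodule.mem_top) List.mem_cons_self h3 t)

/-- the weights on the abelian subgroup: one multiplicity for all -/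
theorem top_weights (hmv : ∃ r t v, r < D.nroots ∧ ρ (X h r t) v ≠ v) :
    ∃ m, 0 < m ∧
      (∀ τ : F, τ ≠ 0 → finrank ℂ (W ρ h (C.th :: C.A0) (single C.th τ)) = m) ∧
      (∀ τ : F, τ ≠ 0 →
        finrank ℂ (W ρ h [C.th] (single C.th τ)) = Fintype.card F ^ C.A0.length * m) ∧
      (Fintype.card F - 1) * (Fintype.card F ^ C.A0.length * m) +
        finrank ℂ (W ρ h [C.th] fun _ => (0 : F)) ≤ finrank ℂ V := by
  classical
  obtain ⟨a, ha, hne⟩ := th_moved hC hmv
  simp only [certB, Bool.and_eq_true, Bool.not_eq_true'] at hC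
  obtain ⟨⟨⟨⟨⟨⟨⟨⟨⟨⟨⟨⟨⟨⟨⟨⟨⟨⟨⟨⟨⟨⟨⟨⟨⟨⟨hlt, hnA⟩, htj0⟩, hcart⟩, hext⟩, hclr⟩, hrun⟩, hnd0⟩, hlen0⟩, hcov⟩, ht10⟩, hgen0⟩, hgen⟩, hw1⟩, hi1⟩, hfix⟩, hline⟩, hthT⟩, huw⟩, huo⟩, hui⟩, ha10⟩, hst⟩, hP0⟩, htop0⟩, hoth⟩, hlink⟩ := hC
  have hlt' : ∀ g ∈ C.th :: C.A0, g < D.nroots := fun g hg => by
    simpa [Nat.blt_eq] using List.all_eq_true.1 hlt g hg
  have htj : C.tj < D.rank := by simpa [Nat.blt_eq] using htj0
  have hnd : (C.clrA.map Prod.snd).Nodup := of_decide_eq_true hnd0
  have hlen : C.clrA.length = C.A0.length := Nat.eq_of_beq_eq_true hlen0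
  set S := C.th :: C.A0
  -- every weight is dominated by a weight supported at the highest root
  have hdom : ∀ c : ℕ → F, c C.th ≠ 0 →
      finrank ℂ (W ρ h S c) ≤ finrank ℂ (W ρ h S (single C.th (c C.th))) := by
    intro c hc
    obtain ⟨c', h1, -, h3, h4⟩ := exists_clear (ρ := ρ) (h := h) C.clrA hclr (c := c) (by simp) hc
    refine h4.trans (le_of_eq ?_)
    rw [W_congr (c' := single C.th (c C.th)) fun g hg => ?_]
    rcases List.mem_cons.1 hg with rfl | hg
    · rw [h1, single, if_pos rfl]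
    · obtain ⟨p, hp, rfl⟩ := List.mem_map.1 (List.elem_iff.1 (List.all_eq_true.1 hcov g hg))
      rw [h3 p hp, single, if_neg]
      intro e
      exact notMem_of_elem hnA (e ▸ hg)
  have hscale : ∀ τ τ' : F, τ ≠ 0 → τ' ≠ 0 →
      finrank ℂ (W ρ h S (single C.th τ)) ≤ finrank ℂ (W ρ h S (single C.th τ')) := by
    intro τ τ' hτ hτ'
    obtain ⟨c', h1, -, h4⟩ := exists_scale (ρ := ρ) (h := h) hlt' htj hcart
      (c := single C.th τ) (by rwa [single, if_pos rfl]) hτ'
    have := hdom c' (by rwa [h1])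
    rw [h1] at this
    exact h4.trans this
  obtain ⟨c, h1, -, h3⟩ := exists_weight C.A0 hext (c := single C.th a) (by simp) hne
  have h3' : W ρ h S c ≠ ⊥ := fun e => h3 (le_bot_iff.1 (le_of_le_of_eq (W_mono (fun g hg => by
    simp only [S, List.mem_cons] at hg
    simp only [List.mem_append, List.mem_reverse, List.mem_singleton]
    tauto) fun _ _ => rfl) e))
  have hcth : c C.th = a := by rw [h1 C.th List.mem_cons_self, single, if_pos rfl]
  set m := finrank ℂ (W ρ h S (single C.th a))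
  have hm : 0 < m := lt_of_lt_of_le (one_le_finrank h3')
    ((hdom c (by rwa [hcth])).trans_eq (by rw [hcth]))
  have heq : ∀ τ : F, τ ≠ 0 → finrank ℂ (W ρ h S (single C.th τ)) = m := fun τ hτ =>
    le_antisymm (hscale τ a hτ ha) (hscale a τ ha hτ)
  let P := {x // x ∈ (C.clrA.map Prod.snd).toFinset} → F
  have hlow : ∀ τ : F, τ ≠ 0 →
      Fintype.card F ^ C.A0.length * m ≤ finrank ℂ (W ρ h [C.th] (single C.th τ)) := by
    intro τ hτ
    have hs : Supp S [C.th] (single C.th τ) := fun g _ hg => if_neg (by simpa using hg)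
    have hsum := sum_le (ι := P) (S := S) (fun i => shiftsC D A C.clrA (param i) (single C.th τ))
      (W ρ h [C.th] (single C.th τ)) (fun i => W_mono (fun g hg => List.mem_cons.2 (Or.inl
        (List.mem_singleton.1 hg))) fun g hg => by
          obtain rfl := List.mem_singleton.1 hg
          exact ((run_supp D A C.clrA hrun (param i) hs).1 _ (by simp)).symm)
      fun i j hij => by
        by_contra hcon
        push Not at hcon
        exact hij (param_inj (run_inj C.clrA hrun hs hs rfl (by rwa [single, if_pos rfl])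
          (fun e => absurd e (by simp)) hcon).1)
    refine le_trans ?_ ((Finset.card_nsmul_le_sum _ _ m fun i _ =>
      (heq τ hτ).ge.trans (run_finrank C.clrA hrun _ _)).trans hsum)
    rw [smul_eq_mul, Finset.card_univ]
    simp only [P, Fintype.card_fun, Fintype.card_coe]
    rw [List.toFinset_card_of_nodup hnd, List.length_map, hlen]
  have hhigh : ∀ τ : F, τ ≠ 0 →
      finrank ℂ (W ρ h [C.th] (single C.th τ)) ≤ Fintype.card F ^ C.A0.length * m := by
    intro τ hτ
    refine finrank_weight_le C.A0 hext (by simp) fun c' h1 _ => ?_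
    have hc' : c' C.th = τ := by rw [h1 C.th List.mem_cons_self, single, if_pos rfl]
    refine le_trans (Submodule.finrank_mono (W_mono (fun g hg => ?_) fun _ _ => rfl))
      ((hdom c' (by rwa [hc'])).trans_eq (by rw [hc', heq τ hτ]))
    simp only [S, List.mem_cons] at hg
    simp only [List.mem_append, List.mem_reverse, List.mem_singleton]
    tauto
  refine ⟨m, hm, heq, fun τ hτ => le_antisymm (hhigh τ hτ) (hlow τ hτ), ?_⟩
  have hsum := sum_le (ρ := ρ) (h := h) (ι := Option Fˣ) (S := [C.th])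
    (fun o => o.elim (fun _ => (0 : F)) fun τ => single C.th (τ : F)) ⊤ (fun _ => le_top)
    fun o o' hoo => ⟨C.th, List.mem_cons_self, by
      match o, o' with
      | none, none => exact absurd rfl hoo
      | none, some τ => simpa [single] using (Units.ne_zero τ).symm
      | some τ, none => simpa [single] using Units.ne_zero τ
      | some τ, some τ' => simpa [single] using fun e => hoo (by rw [Units.ext e])⟩
  rw [finrank_top, Fintype.sum_option] at hsum
  refine le_trans ?_ hsum
  rw [add_comm]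
  refine add_le_add le_rfl (le_trans (le_of_eq ?_)
    (Finset.card_nsmul_le_sum _ _ _ fun τ _ => hlow (τ : F) τ.ne_zero))
  rw [Finset.card_univ, Fintype.card_units, smul_eq_mul]

/-- the bound -/
theorem cert_bound (hmv : ∃ r t v, r < D.nroots ∧ ρ (X h r t) v ≠ v)
    (hsuf : SuffixOK (Fintype.card F) (C.first :: C.others))
    (htail : orbSums (Fintype.card F) C.others ≤
      (Fintype.card F - 1) * Fintype.card F ^ C.A0.length) :
    (Fintype.card F - 1) * Fintype.card F ^ C.A0.length +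
        orbSums (Fintype.card F) (C.first :: C.others) ≤ finrank ℂ V ∧
    ∀ B, B < 2 * ((Fintype.card F - 1) * Fintype.card F ^ C.A0.length) +
        orbSum (Fintype.card F) C.first → finrank ℂ V ≤ B →
      ∀ τ : F, τ ≠ 0 →
        finrank ℂ (W ρ h [C.th] (single C.th τ)) = Fintype.card F ^ C.A0.length := by
  classical
  obtain ⟨m, hm, heq, hth, hV⟩ := top_weights hC hmv
  simp only [certB, Bool.and_eq_true, Bool.not_eq_true'] at hC
  obtain ⟨⟨⟨⟨⟨⟨⟨⟨⟨⟨⟨⟨⟨⟨⟨⟨⟨⟨⟨⟨⟨⟨⟨⟨⟨⟨hlt, hnA⟩, htj0⟩, hcart⟩, hext⟩, hclr⟩, hrun⟩, hnd0⟩, hlen0⟩, hcov⟩, ht10⟩, hgen0⟩, hgen⟩, hw1⟩, hi1⟩, hfix⟩, hline⟩, hthT⟩, huw⟩, huo⟩, hui⟩, ha10⟩, hst⟩, hP0⟩, htop0⟩, hoth⟩, hlink⟩ := hC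
  have ht1 : C.t1 ∈ C.A0 := List.elem_iff.1 ht10
  have ha1 : C.a1 ∈ C.posL := List.elem_iff.1 ha10
  have hP : C.first.P = [C.th] := of_decide_eq_true hP0
  have htop : C.first.top = C.t1 := Nat.eq_of_beq_eq_true htop0
  have ht1th : C.t1 ≠ C.th := fun e => notMem_of_elem hnA (e ▸ ht1)
  have hmove : ∃ a : F, a ≠ 0 ∧
      W ρ h (C.t1 :: [C.th]) (Function.update (fun _ => (0 : F)) C.t1 a) ≠ ⊥ := by
    by_contra hcon
    push Not at hcon
    have hle : W ρ h [C.th] (fun _ => (0 : F)) ≤ W ρ h [C.t1] fun _ => (0 : F) := by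
      intro v hv g hg x
      obtain rfl := List.mem_singleton.1 hg
      rw [zero_mul, AddChar.map_zero_eq_one, one_smul]
      conv_rhs => rw [← proj_sum (ρ := ρ) (h := h) C.t1 v]
      conv_lhs => rw [← proj_sum (ρ := ρ) (h := h) C.t1 v, map_sum]
      refine Finset.sum_congr rfl fun a _ => ?_
      rw [proj_weight]
      rcases eq_or_ne a 0 with rfl | ha
      · rw [zero_mul, AddChar.map_zero_eq_one, one_smul]
      · have := proj_mem hfix (fun _ _ => rfl) a hv
        rw [hcon a ha, Submodule.mem_bot] at this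
        rw [this, smul_zero]
    have hback : finrank ℂ (W ρ h [C.t1] fun _ => (0 : F)) ≤
        finrank ℂ (W ρ h [C.th] fun _ => (0 : F)) := by
      have ho : ontoB A C.w1t [C.t1] [C.th] = true := by
        simp [ontoB, Nat.eq_of_beq_eq_true hi1]
      refine (finrank_word_le hw1 ho _).trans (le_of_eq ?_)
      rw [W_congr fun g hg => ?_]
      obtain rfl := List.mem_singleton.1 hg
      conv_lhs => rw [← Nat.eq_of_beq_eq_true hi1]
      exact moveC_zero h (wordB_spec hw1).1 ((wordB_spec hw1).2 _ List.mem_cons_self) rfl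
    have he := Submodule.eq_of_le_of_finrank_le hle hback
    have h1ne : W ρ h (C.th :: C.A0) (single C.th 1) ≠ ⊥ :=
      Submodule.one_le_finrank_iff.1 (by rw [heq 1 one_ne_zero]; exact hm)
    obtain ⟨v, hv, hv0⟩ := Submodule.exists_mem_ne_zero_of_ne_bot h1ne
    have hv1 : v ∈ W ρ h [C.th] fun _ => (0 : F) := he ▸ fun g hg x => by
      obtain rfl := List.mem_singleton.1 hg
      have := hv _ (List.mem_cons_of_mem _ ht1) x
      rwa [single, if_neg ht1th] at this
    obtain ⟨x, hx⟩ := exists_sep (F := F) one_ne_zero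
    have h4 := hv C.th List.mem_cons_self x
    rw [fixed_of_zero hv1 List.mem_cons_self rfl x, single, if_pos rfl] at h4
    have h5 : (psi F (1 * x) - 1) • v = 0 := by rw [sub_smul, one_smul, ← h4, sub_self]
    refine hx ?_
    rw [zero_mul, AddChar.map_zero_eq_one]
    exact sub_eq_zero.1 ((smul_eq_zero.1 h5).resolve_right hv0)
  obtain ⟨a, ha, hne⟩ := hmove
  have hfirst := stage_bound hst (c := Function.update (fun _ => (0 : F)) C.t1 a)
    (fun z hz => by
      rw [hP, List.mem_singleton] at hz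
      rw [Function.update_of_ne (hz ▸ ht1th.symm)])
    (by rw [htop, Function.update_self]; exact ha) (by rw [htop, hP]; exact hne)
  have hQ : orbSum (Fintype.card F) C.first ≤ finrank ℂ (W ρ h [C.th] fun _ => (0 : F)) := by
    rw [← hP]
    rcases hfirst with ⟨hr, hbig⟩ | horb
    · refine le_trans ?_ ((hsuf.1.resolve_left hr).trans hbig)
      simp [orbSums]
    · rw [← orbSum_eq] at horb
      omega
  obtain ⟨q1, hq1⟩ : ∃ x, (Fintype.card F - 1) * Fintype.card F ^ C.A0.length = x := ⟨_, rfl⟩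
  have hm2 : 2 ≤ m → 2 * q1 + orbSum (Fintype.card F) C.first ≤ finrank ℂ V := fun h2 => by
    refine le_trans (add_le_add ?_ hQ) hV
    rw [← hq1, ← mul_assoc (Fintype.card F - 1), mul_comm 2]
    exact Nat.mul_le_mul_left _ h2
  refine ⟨?_, fun B hB hk τ hτ => ?_⟩
  swap
  · have : m = 1 := by
      by_contra hne'
      have := hm2 (by omega)
      omega
    rw [hth τ hτ, this, mul_one]
  have hall : orbSums (Fintype.card F) (C.first :: C.others) =
      orbSum (Fintype.card F) C.first + orbSums (Fintype.card F) C.others := by simp [orbSums]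
  rcases Nat.lt_or_ge m 2 with h2 | h2
  swap
  · have := hm2 h2
    omega
  have hm1 : m = 1 := by omega
  refine le_trans (add_le_add ?_ ?_) hV
  · rw [hm1, mul_one]
  rw [← hP]
  rcases hfirst with ⟨hr, hbig⟩ | horb
  · exact (hsuf.1.resolve_left hr).trans hbig
  rw [← orbSum_eq] at horb
  refine le_trans ?_ horb
  rw [hall]
  refine add_le_add le_rfl ?_
  -- the witness
  set S := C.th :: C.A0
  have h1ne : W ρ h S (single C.th 1) ≠ ⊥ :=
    Submodule.one_le_finrank_iff.1 (by rw [heq 1 one_ne_zero]; exact hm)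
  obtain ⟨v, hv, hv0⟩ := Submodule.exists_mem_ne_zero_of_ne_bot h1ne
  have hA0 : ∀ g ∈ C.A0, single C.th (1 : F) g = 0 := fun g hg =>
    if_neg (by rintro rfl; exact notMem_of_elem hnA hg)
  have hfixT := line_fixed (by rw [heq 1 one_ne_zero, hm1]) hv0 hv C.steps hline
    (fun e he t => ⟨_, (hv e he t).symm⟩)
    (fun g hg t => fixed_of_zero hv (List.mem_cons_of_mem _ hg) (hA0 g hg) t)
    (fun g _ hg => hA0 g hg)
  have hne' : W ρ h (C.th :: lineT C.steps C.A0) (single C.th (1 : F)) ≠ ⊥ := fun e => hv0 (by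
    rw [← Submodule.mem_bot ℂ, ← e]
    intro g hg t
    rcases List.mem_cons.1 hg with rfl | hg
    · exact hv _ List.mem_cons_self t
    · have hgne : g ≠ C.th := fun e' => notMem_of_elem hthT (e' ▸ hg)
      rw [hfixT g hg t, single, if_neg hgne, zero_mul, AddChar.map_zero_eq_one, one_smul])
  have hwr := (wordB_spec huw).1
  have hwl := (wordB_spec huw).2
  refine stages_le ha1 (c := moveC A C.uw (single C.th (1 : F))) (fun g hg hga => ?_) ?_
    (Submodule.one_le_finrank_iff.1 ((one_le_finrank hne').trans (finrank_word_le huw huo _)))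
    C.others C.first (fun s hs => by simpa using List.all_eq_true.1 hoth s hs) hlink hsuf.2
  · obtain ⟨g0, hg0, rfl⟩ := ontoB_spec huo hg
    refine moveC_zero h hwr (hwl g0 hg0) (if_neg fun e => hga ?_)
    rw [e, Nat.eq_of_beq_eq_true hui]
  · obtain ⟨e, he, hval⟩ := moveC_wimg (F := F) h C.uw hwr (hwl C.th List.mem_cons_self)
    rw [← Nat.eq_of_beq_eq_true hui, hval, single, if_pos rfl, mul_one]
    exact sq_one_ne he

end Main

end CfsgLib.CharsMore.EMinDeg
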