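import Cfsg.Agent.Lib.CharsMore.EMinDeg.Basic

/-!
# Independence and decomposition of weight spaces
-/

set_option autoImplicit false
set_option linter.unusedSectionVars false

namespace CfsgLib.CharsMore.EMinDeg

open Cfsg.Lie CfsgLib.Chev CfsgLib.CharsMore.G2MinDeg Module

variable {D : ChevalleyDatum} {A : Aux} {F : Type*} [Field F] [Fintype F]
  {V : Type*} [AddCommGroup V] [Module ℂ V]
  {ρ : Representation ℂ ↥(D.group F) V} {h : Std D A}

lemma exists_sep {a b : F} (hab : a ≠ b) : ∃ t, psi F (a * t) ≠ psi F (b * t) := by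
  by_contra hc
  push Not at hc
  exact hab (psi_inj hc)

/-- vectors of distinct weights are independent -/
theorem eq_zero_of_sum {ι : Type*} {S : List ℕ} {c : ι → ℕ → F}
    (hsep : ∀ i j, i ≠ j → ∃ g ∈ S, c i g ≠ c j g) (s : Finset ι) :
    ∀ v : ι → V, (∀ i ∈ s, v i ∈ W ρ h S (c i)) → ∑ i ∈ s, v i = 0 → ∀ i ∈ s, v i = 0 := by
  classical
  induction s using Finset.induction_on with
  | empty => simp
  | insert j s hj ih =>
    intro v hv h0
    rw [Finset.sum_insert hj] at h0
    have hz : ∀ i ∈ s, v i = 0 := by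
      intro i hi
      obtain ⟨g, hg, hne⟩ := hsep i j fun e => hj (e ▸ hi)
      obtain ⟨t, ht⟩ := exists_sep hne
      have h1 := congrArg (ρ (X h g t)) h0
      rw [map_zero, map_add, map_sum, hv j (Finset.mem_insert_self j s) g hg t,
        Finset.sum_congr rfl fun l hl => hv l (Finset.mem_insert_of_mem hl) g hg t] at h1
      have h2 : ∑ l ∈ s, (psi F (c l g * t) - psi F (c j g * t)) • v l = 0 := by
        simp only [sub_smul, Finset.sum_sub_distrib]
        rw [← Finset.smul_sum, eq_neg_of_add_eq_zero_right h0, smul_neg, sub_neg_eq_add, add_comm]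
        exact h1
      have h3 := ih _ (fun l hl => Submodule.smul_mem _ _ (hv l (Finset.mem_insert_of_mem hl))) h2 i hi
      exact (smul_eq_zero.1 h3).resolve_left (sub_ne_zero.2 ht)
    intro i hi
    rcases Finset.mem_insert.1 hi with rfl | hi
    · rwa [Finset.sum_eq_zero hz, add_zero] at h0
    · exact hz i hi

variable [FiniteDimensional ℂ V]

theorem sum_le {ι : Type*} [Fintype ι] {S : List ℕ} (c : ι → ℕ → F) (U : Submodule ℂ V)
    (hle : ∀ i, W ρ h S (c i) ≤ U) (hsep : ∀ i j, i ≠ j → ∃ g ∈ S, c i g ≠ c j g) :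
    ∑ i, finrank ℂ (W ρ h S (c i)) ≤ finrank ℂ U := by
  classical
  let f : (Π i, W ρ h S (c i)) →ₗ[ℂ] U :=
    { toFun := fun v => ⟨∑ i, (v i : V), U.sum_mem fun i _ => hle i (v i).2⟩
      map_add' := fun v w => Subtype.ext (by simp [Finset.sum_add_distrib])
      map_smul' := fun a v => Subtype.ext (by simp [Finset.smul_sum]) }
  have hf : Function.Injective f := by
    rw [injective_iff_map_eq_zero]
    intro v hv
    have h0 : ∑ i, (v i : V) = 0 := congrArg Subtype.val hv
    funext i
    exact Subtype.ext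
      (eq_zero_of_sum hsep Finset.univ (fun i => (v i : V)) (fun i _ => (v i).2) h0 i (Finset.mem_univ i))
  have := LinearMap.finrank_le_finrank_of_injective hf
  rwa [Module.finrank_pi_fintype] at this

lemma finrank_le_of_maps {U U' : Submodule ℂ V} (x : ↥(D.group F)) (hx : ∀ v ∈ U, ρ x v ∈ U') :
    finrank ℂ U ≤ finrank ℂ U' :=
  LinearMap.finrank_le_finrank_of_injective (f := (ρ x).restrict hx) fun u v e =>
    Subtype.ext (rho_injective (ρ := ρ) x (congrArg Subtype.val e))

/-- the projection to the weights with value `a` at `g` -/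
noncomputable def proj (ρ : Representation ℂ ↥(D.group F) V) (h : Std D A) (g : ℕ) (a : F) (v : V) : V :=
  (Fintype.card F : ℂ)⁻¹ • ∑ t, psi F (-(a * t)) • ρ (X h g t) v

lemma proj_sum (g : ℕ) (v : V) : ∑ a, proj ρ h g a v = v := by
  classical
  simp only [proj, ← Finset.smul_sum]
  rw [Finset.sum_comm, Finset.sum_eq_single (0 : F)]
  · simp only [mul_zero, neg_zero, AddChar.map_zero_eq_one, one_smul, map_one,
      Module.End.one_apply, Finset.sum_const, Finset.card_univ]
    rw [← Nat.cast_smul_eq_nsmul ℂ, smul_smul,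
      inv_mul_cancel₀ (Nat.cast_ne_zero.2 Fintype.card_ne_zero), one_smul]
  · intro t _ ht
    rw [← Finset.sum_smul]
    have : ∑ a : F, psi F (-(a * t)) = 0 := by
      have h2 := AddChar.sum_mulShift (-t) (psi_primitive (F := F))
      rw [if_neg (neg_ne_zero.2 ht)] at h2
      simpa [mul_neg] using h2
    rw [this, zero_smul]
  · simp

lemma proj_weight (g : ℕ) (a : F) (v : V) (s : F) :
    ρ (X h g s) (proj ρ h g a v) = psi F (a * s) • proj ρ h g a v := by
  simp only [proj, map_smul, map_sum, Finset.smul_sum]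
  refine Fintype.sum_equiv (Equiv.addLeft s) _ _ fun t => ?_
  rw [Equiv.coe_addLeft, ← rho_mul, ← AddChar.map_add_eq_mul, smul_comm (psi F (a * s)), smul_smul
    (psi F (a * s)), ← AddChar.map_add_eq_mul]
  congr 3
  ring

/-- `x_g` keeps the weights of `S` that vanish on `Z` -/
noncomputable def fixB (D : ChevalleyDatum) (A : Aux) (g : ℕ) (S Z : List ℕ) : Bool :=
  normB D A g S S && !S.elem g && S.all fun s =>
    match addR A g s with
    | some (k, _) => Z.elem k
    | none => true

lemma shiftC_of_fixB {g : ℕ} {S Z : List ℕ} (hb : fixB D A g S Z = true) {c : ℕ → F}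
    (hc : ∀ z ∈ Z, c z = 0) (a : F) : ∀ s ∈ S, shiftC D A g a c s = c s := by
  intro s hs
  simp only [fixB, Bool.and_eq_true, List.all_eq_true] at hb
  have h2 := hb.2 s hs
  unfold shiftC
  split
  · rfl
  · split
    · rename_i k κ heq
      rw [heq] at h2
      rw [hc k (List.elem_iff.1 h2), mul_zero, sub_zero]
    · rfl

lemma proj_mem {g : ℕ} {S Z : List ℕ} (hb : fixB D A g S Z = true) {c : ℕ → F}
    (hc : ∀ z ∈ Z, c z = 0) (a : F) {v : V} (hv : v ∈ W ρ h S c) :
    proj ρ h g a v ∈ W ρ h (g :: S) (Function.update c g a) := by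
  have hb' := hb
  simp only [fixB, Bool.and_eq_true, Bool.not_eq_true'] at hb
  have hg : g ∉ S := fun e => by
    have := List.elem_iff.2 e
    rw [hb.1.2] at this
    exact Bool.false_ne_true this
  intro s hs t
  rcases List.mem_cons.1 hs with rfl | hs
  · rw [Function.update_self, proj_weight]
  · rw [Function.update_of_ne (ne_of_mem_of_not_mem hs hg)]
    have hmem : proj ρ h g a v ∈ W ρ h S c := by
      refine Submodule.smul_mem _ _ (Submodule.sum_mem _ fun u _ => Submodule.smul_mem _ _ ?_)
      have h1 := X_mem hb.1.1 hv u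
      rwa [W_congr (shiftC_of_fixB hb' hc u)] at h1
    exact hmem s hs t

/-- extending a weight by one root -/
theorem exists_ext {g : ℕ} {S Z : List ℕ} (hb : fixB D A g S Z = true) {c : ℕ → F}
    (hc : ∀ z ∈ Z, c z = 0) (hne : W ρ h S c ≠ ⊥) :
    ∃ a, W ρ h (g :: S) (Function.update c g a) ≠ ⊥ := by
  obtain ⟨v, hv, hv0⟩ := Submodule.exists_mem_ne_zero_of_ne_bot hne
  by_contra hcon
  push Not at hcon
  refine hv0 ?_
  rw [← proj_sum (ρ := ρ) (h := h) g v]
  exact Finset.sum_eq_zero fun a _ => by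
    have := proj_mem hb hc a hv
    rwa [hcon a, Submodule.mem_bot] at this

theorem finrank_ext_le {g : ℕ} {S Z : List ℕ} (hb : fixB D A g S Z = true) {c : ℕ → F}
    (hc : ∀ z ∈ Z, c z = 0) :
    finrank ℂ (W ρ h S c) ≤ ∑ a, finrank ℂ (W ρ h (g :: S) (Function.update c g a)) := by
  classical
  let f : (Π a, W ρ h (g :: S) (Function.update c g a)) →ₗ[ℂ] V :=
    { toFun := fun v => ∑ a, (v a : V)
      map_add' := fun v w => by simp [Finset.sum_add_distrib]
      map_smul' := fun a v => by simp [Finset.smul_sum] }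
  have hle : W ρ h S c ≤ LinearMap.range f := fun v hv =>
    ⟨fun a => ⟨_, proj_mem hb hc a hv⟩, proj_sum g v⟩
  refine (Submodule.finrank_mono hle).trans ((LinearMap.finrank_range_le f).trans ?_)
  rw [Module.finrank_pi_fintype]

/-- the roots of `R` can be added one after another -/
noncomputable def extB (D : ChevalleyDatum) (A : Aux) : List ℕ → List ℕ → List ℕ → Bool
  | [], _, _ => true
  | g :: R, S, Z => fixB D A g S Z && !Z.elem g && extB D A R (g :: S) Z

theorem exists_weight : ∀ (R : List ℕ) {S Z : List ℕ}, extB D A R S Z = true → ∀ {c : ℕ → F},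
    (∀ z ∈ Z, c z = 0) → W ρ h S c ≠ ⊥ →
    ∃ c', (∀ g ∈ S, c' g = c g) ∧ (∀ z ∈ Z, c' z = 0) ∧ W ρ h (R.reverse ++ S) c' ≠ ⊥
  | [], S, Z, _, c, hc, hne => ⟨c, fun _ _ => rfl, hc, by simpa using hne⟩
  | g :: R, S, Z, hb, c, hc, hne => by
    simp only [extB, Bool.and_eq_true, Bool.not_eq_true'] at hb
    obtain ⟨⟨hb1, hgZ⟩, hb2⟩ := hb
    obtain ⟨a, ha⟩ := exists_ext hb1 hc hne
    have hgS : g ∉ S := fun e => by
      have := List.elem_iff.2 e
      simp only [fixB, Bool.and_eq_true, Bool.not_eq_true'] at hb1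
      rw [hb1.1.2] at this
      exact Bool.false_ne_true this
    have hz : ∀ z ∈ Z, Function.update c g a z = 0 := fun z hz => by
      rw [Function.update_of_ne, hc z hz]
      intro e
      have := List.elem_iff.2 (e ▸ hz)
      rw [hgZ] at this
      exact Bool.false_ne_true this
    obtain ⟨c', h1, h2, h3⟩ := exists_weight R hb2 hz ha
    refine ⟨c', fun s hs => ?_, h2, ?_⟩
    · rw [h1 s (List.mem_cons_of_mem _ hs), Function.update_of_ne (by rintro rfl; exact hgS hs)]
    · rwa [List.reverse_cons, List.append_assoc, List.singleton_append]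

theorem finrank_weight_le : ∀ (R : List ℕ) {S Z : List ℕ}, extB D A R S Z = true → ∀ {c : ℕ → F},
    (∀ z ∈ Z, c z = 0) → ∀ {m : ℕ},
    (∀ c' : ℕ → F, (∀ g ∈ S, c' g = c g) → (∀ z ∈ Z, c' z = 0) →
      finrank ℂ (W ρ h (R.reverse ++ S) c') ≤ m) →
    finrank ℂ (W ρ h S c) ≤ Fintype.card F ^ R.length * m
  | [], S, Z, _, c, hc, m, hm => by
    rw [List.length_nil, pow_zero, one_mul]
    exact hm c (fun _ _ => rfl) hc
  | g :: R, S, Z, hb, c, hc, m, hm => by
    simp only [extB, Bool.and_eq_true, Bool.not_eq_true'] at hb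
    obtain ⟨⟨hb1, hgZ⟩, hb2⟩ := hb
    have hgS : g ∉ S := fun e => by
      have := List.elem_iff.2 e
      have hb3 := hb1
      simp only [fixB, Bool.and_eq_true, Bool.not_eq_true'] at hb3
      rw [hb3.1.2] at this
      exact Bool.false_ne_true this
    refine (finrank_ext_le hb1 hc).trans ?_
    have hz : ∀ a : F, ∀ z ∈ Z, Function.update c g a z = 0 := fun a z hz => by
      rw [Function.update_of_ne, hc z hz]
      intro e
      have := List.elem_iff.2 (e ▸ hz)
      rw [hgZ] at this
      exact Bool.false_ne_true this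
    refine (Finset.sum_le_card_nsmul _ _ (Fintype.card F ^ R.length * m) fun a _ =>
      finrank_weight_le R hb2 (hz a) fun c' h1 h2 => ?_).trans_eq ?_
    · have := hm c' (fun s hs => by
        rw [h1 s (List.mem_cons_of_mem _ hs), Function.update_of_ne (by rintro rfl; exact hgS hs)]) h2
      rwa [List.reverse_cons, List.append_assoc, List.singleton_append] at this
    · rw [Finset.card_univ, smul_eq_mul, List.length_cons, pow_succ]
      ring

end CfsgLib.CharsMore.EMinDeg
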