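import Cfsg.Agent.Lib.CharsMore.EMinDeg.Run

/-!
# Moving weights by Weyl elements and by the torus; lines stable under root elements
-/

set_option autoImplicit false
set_option linter.unusedSectionVars false

namespace CfsgLib.CharsMore.EMinDeg

open Cfsg.Lie CfsgLib.Chev CfsgLib.CharsMore.G2MinDeg Module

variable {D : ChevalleyDatum} {A : Aux} {F : Type*} [Field F] [Fintype F]
  {V : Type*} [AddCommGroup V] [Module ℂ V]
  {ρ : Representation ℂ ↥(D.group F) V} {h : Std D A}

/-- the image of a root under a word of fundamental reflections -/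
noncomputable def wimg (A : Aux) (w : List ℕ) (g : ℕ) : ℕ := w.foldl (fun g i => A.refl i g) g

/-- the image of a weight under a word -/
noncomputable def moveC (A : Aux) {F : Type*} [Field F] (w : List ℕ) (c : ℕ → F) : ℕ → F :=
  w.foldl (fun c i => reflC A i c) c

/-- valid words and roots -/
noncomputable def wordB (D : ChevalleyDatum) (w S : List ℕ) : Bool :=
  w.all (fun i => Nat.blt i D.rank) && S.all (fun g => Nat.blt g D.nroots)

/-- every root of `S'` is the image of one of `S` -/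
noncomputable def ontoB (A : Aux) (w S S' : List ℕ) : Bool :=
  S'.all fun g => (S.map (wimg A w)).elem g

lemma wimg_lt (h : Std D A) : ∀ (w : List ℕ), (∀ i ∈ w, i < D.rank) → ∀ {g : ℕ}, g < D.nroots →
    wimg A w g < D.nroots
  | [], _, g, hg => hg
  | i :: w, hw, g, hg =>
    wimg_lt h w (fun j hj => hw j (List.mem_cons_of_mem _ hj))
      (h.good.refl_lt i (hw i List.mem_cons_self) g hg)

/-- the value of a moved weight -/
theorem moveC_wimg (h : Std D A) : ∀ (w : List ℕ), (∀ i ∈ w, i < D.rank) →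
    ∀ {g : ℕ}, g < D.nroots →
    ∃ e : F, e * e = 1 ∧ ∀ c : ℕ → F, moveC A w c (wimg A w g) = e * c g
  | [], _, g, _ => ⟨1, one_mul 1, fun c => (one_mul _).symm⟩
  | i :: w, hw, g, hg => by
    have hi := hw i List.mem_cons_self
    have hg' := h.good.refl_lt i hi g hg
    obtain ⟨e, he, hv⟩ := moveC_wimg h w (fun j hj => hw j (List.mem_cons_of_mem _ hj)) hg'
    refine ⟨e * (A.eta i g : F), by rw [mul_mul_mul_comm, he, one_mul, eta_sq h.good hi hg], fun c => ?_⟩
    show moveC A w (reflC A i c) (wimg A w (A.refl i g)) = _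
    rw [hv, reflC, h.good.refl_refl i hi g hg, mul_assoc]

lemma moveC_zero (h : Std D A) {w : List ℕ} {g : ℕ} (hw : ∀ i ∈ w, i < D.rank) (hg : g < D.nroots)
    {c : ℕ → F} (hc : c g = 0) : moveC A w c (wimg A w g) = 0 := by
  obtain ⟨e, -, hv⟩ := moveC_wimg (F := F) h w hw hg
  rw [hv, hc, mul_zero]

lemma sq_one_ne {e : F} (he : e * e = 1) : e ≠ 0 := fun e0 => by simp [e0] at he

variable [FiniteDimensional ℂ V]

theorem finrank_move_le : ∀ (w : List ℕ) {S : List ℕ}, (∀ i ∈ w, i < D.rank) →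
    (∀ g ∈ S, g < D.nroots) → ∀ {S' : List ℕ}, (∀ g ∈ S', g ∈ S.map (wimg A w)) → ∀ c : ℕ → F,
    finrank ℂ (W ρ h S c) ≤ finrank ℂ (W ρ h S' (moveC A w c))
  | [], S, _, _, S', hS', c => Submodule.finrank_mono (W_mono (fun g hg => by
      simpa [wimg] using hS' g hg) fun _ _ => rfl)
  | i :: w, S, hw, hS, S', hS', c => by
    have hi := hw i List.mem_cons_self
    have h1 : ∀ g ∈ S.map (A.refl i), g < D.nroots ∧ A.refl i g ∈ S := fun g hg => by
      obtain ⟨g0, hg0, rfl⟩ := List.mem_map.1 hg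
      refine ⟨h.good.refl_lt i hi g0 (hS g0 hg0), ?_⟩
      rwa [h.good.refl_refl i hi g0 (hS g0 hg0)]
    refine (finrank_le_of_maps (N F h i) fun v hv => N_mem hi h1 hv).trans ?_
    refine finrank_move_le w (fun j hj => hw j (List.mem_cons_of_mem _ hj)) (fun g hg => (h1 g hg).1)
      (fun g hg => ?_) _
    rw [List.map_map]
    exact hS' g hg

lemma wordB_spec {w S : List ℕ} (hw : wordB D w S = true) :
    (∀ i ∈ w, i < D.rank) ∧ ∀ g ∈ S, g < D.nroots := by
  simp only [wordB, Bool.and_eq_true, List.all_eq_true, Nat.blt_eq] at hw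
  exact hw

lemma ontoB_spec {w S S' : List ℕ} (ho : ontoB A w S S' = true) {g : ℕ} (hg : g ∈ S') :
    ∃ g0 ∈ S, wimg A w g0 = g := by
  simp only [ontoB, List.all_eq_true, List.elem_iff] at ho
  exact List.mem_map.1 (ho g hg)

theorem finrank_word_le {w S S' : List ℕ} (hw : wordB D w S = true) (ho : ontoB A w S S' = true)
    (c : ℕ → F) : finrank ℂ (W ρ h S c) ≤ finrank ℂ (W ρ h S' (moveC A w c)) :=
  finrank_move_le w (wordB_spec hw).1 (wordB_spec hw).2
    (fun g hg => by
      obtain ⟨g0, h0, h1⟩ := ontoB_spec ho hg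
      exact List.mem_map.2 ⟨g0, h0, h1⟩) c

/-- the weight can be scaled at a root on which a fundamental torus acts faithfully -/
theorem exists_scale {S : List ℕ} (hS : ∀ g ∈ S, g < D.nroots) {top j : ℕ} (hj : j < D.rank)
    (hcart : Nat.beq (A.cart j top).natAbs 1 = true) {c : ℕ → F} (hc : c top ≠ 0) {τ : F}
    (hτ : τ ≠ 0) : ∃ c', c' top = τ ∧ (∀ g, c g = 0 → c' g = 0) ∧
      finrank ℂ (W ρ h S c) ≤ finrank ℂ (W ρ h S c') := by
  set u : Fˣ := Units.mk0 (τ / c top) (div_ne_zero hτ hc)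
  set d : Fin D.rank → Fˣ := Pi.mulSingle ⟨j, hj⟩ (u ^ (-A.cart j top))
  refine ⟨fun g => ((chi D A d g)⁻¹ : Fˣ) * c g, ?_, fun g hg => by simp [hg],
    finrank_le_of_maps (T h d) fun v hv => T_mem d hS hv⟩
  have hchi : chi D A d top = u⁻¹ := by
    rw [chi, Finset.prod_eq_single (⟨j, hj⟩ : Fin D.rank)]
    · simp only [d, Pi.mulSingle_eq_same]
      rw [← zpow_mul]
      rcases Int.natAbs_eq_iff.1 (Nat.eq_of_beq_eq_true hcart) with e | e <;> simp [e]
    · intro i _ hi
      simp [d, hi]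
    · simp
  show ((chi D A d top)⁻¹ : Fˣ) * c top = τ
  rw [hchi, inv_inv, Units.val_mk0, div_mul_cancel₀ _ hc]

/-- an element of a space of dimension at most one spans it -/
lemma exists_smul_of_le_one {U : Submodule ℂ V} (hU : finrank ℂ U ≤ 1) {v w : V} (hv : v ∈ U)
    (hv0 : v ≠ 0) (hw : w ∈ U) : ∃ z : ℂ, z • v = w := by
  obtain ⟨e, he⟩ := finrank_le_one_iff.1 hU
  obtain ⟨a, ha⟩ := he ⟨v, hv⟩
  obtain ⟨b, hb⟩ := he ⟨w, hw⟩
  have ha' : a • (e : V) = v := congrArg Subtype.val ha
  have hb' : b • (e : V) = w := congrArg Subtype.val hb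
  have ha0 : a ≠ 0 := fun h0 => hv0 (by rw [← ha', h0, zero_smul])
  refine ⟨b / a, ?_⟩
  rw [← ha', smul_smul, div_mul_cancel₀ _ ha0, hb']

/-- the checks for the steps: `none` for a root fixing the line, `some (a, e)` for a commutator -/
noncomputable def lineB (D : ChevalleyDatum) (A : Aux) (A₀ : List ℕ) :
    List (ℕ × Option (ℕ × ℕ)) → List ℕ → List ℕ → Bool
  | [], _, _ => true
  | (b, none) :: st, E, T =>
    normB D A b A₀ (T ++ A₀) && A₀.all (srcB A T b) && lineB D A A₀ st (b :: E) T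
  | (b, some (a, e)) :: st, E, T =>
    E.elem a && E.elem e && okPair D A a e && hitB A b a e && lineB D A A₀ st E (b :: T)

/-- the roots shown to act trivially -/
noncomputable def lineT : List (ℕ × Option (ℕ × ℕ)) → List ℕ → List ℕ
  | [], T => T
  | (_, none) :: st, T => lineT st T
  | (b, some _) :: st, T => lineT st (b :: T)

theorem line_fixed {A₀ : List ℕ} {c : ℕ → F} (hdim : finrank ℂ (W ρ h A₀ c) ≤ 1) {v : V}
    (hv0 : v ≠ 0) (hv : v ∈ W ρ h A₀ c) :
    ∀ (st : List (ℕ × Option (ℕ × ℕ))) {E T : List ℕ}, lineB D A A₀ st E T = true →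
    (∀ e ∈ E, ∀ t, ∃ z : ℂ, z • v = ρ (X h e t) v) →
    (∀ g ∈ T, ∀ t, ρ (X h g t) v = v) → (∀ g ∈ A₀, g ∈ T → c g = 0) →
    ∀ g ∈ lineT st T, ∀ t, ρ (X h g t) v = v
  | [], E, T, _, _, hT, _ => hT
  | (b, none) :: st, E, T, hb, hE, hT, hAT => by
    simp only [lineB, Bool.and_eq_true] at hb
    refine line_fixed hdim hv0 hv st hb.2 (fun e he t => ?_) hT hAT
    rcases List.mem_cons.1 he with rfl | he
    · classical
      let c' : ℕ → F := fun g => if g ∈ T then 0 else c g
      have hc' : ∀ g ∈ A₀, c' g = c g := fun g hg => by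
        simp only [c']
        split
        · exact (hAT g hg ‹_›).symm
        · rfl
      have hv' : v ∈ W ρ h (T ++ A₀) c' := fun g hg t => by
        rcases List.mem_append.1 hg with hg | hg
        · rw [hT g hg t, show c' g = 0 from if_pos hg, zero_mul, AddChar.map_zero_eq_one, one_smul]
        · rw [hc' g hg]; exact hv g hg t
      have h1 := X_mem hb.1.1 hv' t
      have h2 : W ρ h A₀ (shiftC D A e t c') = W ρ h A₀ c := W_congr fun g hg => by
        rw [shiftC_src (List.all_eq_true.1 hb.1.2 g hg) (fun z hz => if_pos hz) t]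
        exact hc' g hg
      rw [h2] at h1
      exact exists_smul_of_le_one hdim hv hv0 h1
    · exact hE e he t
  | (b, some (a, e)) :: st, E, T, hb, hE, hT, hAT => by
    simp only [lineB, Bool.and_eq_true] at hb
    obtain ⟨⟨⟨⟨ha, he⟩, hok⟩, hhit⟩, hrest⟩ := hb
    simp only [hitB, Bool.and_eq_true, Bool.not_eq_true'] at hhit
    obtain ⟨hae, hhit⟩ := hhit
    rcases hk : addR A a e with _ | ⟨k, κ⟩
    · rw [hk] at hhit
      exact absurd hhit Bool.false_ne_true
    rw [hk] at hhit
    simp only [Bool.and_eq_true] at hhit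
    obtain rfl := Nat.eq_of_beq_eq_true hhit.1
    have hκ : (κ : F) ≠ 0 := by
      rcases Int.natAbs_eq_iff.1 (Nat.eq_of_beq_eq_true hhit.2) with e | e <;> simp [e]
    have hfix : ∀ t, ρ (X h k t) v = v := fun t => by
      obtain ⟨z, hz⟩ := hE a (List.elem_iff.1 ha) 1
      obtain ⟨z', hz'⟩ := hE e (List.elem_iff.1 he) (-t / κ)
      have hsw := congrArg (fun y => ρ y v) (X_swap (F := F) h hok 1 (-t / κ))
      simp only [hae, Bool.false_eq_true, if_false, hk] at hsw
      rw [show (κ : F) * -1 * (-t / κ) = t by field_simp, mul_assoc, rho_mul, rho_mul, rho_mul]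
        at hsw
      have h3 : ρ (X h a 1) (ρ (X h e (-t / κ)) v) = ρ (X h a 1) (ρ (X h e (-t / κ))
          (ρ (X h k t) v)) := by
        refine Eq.trans ?_ hsw
        simp only [← hz, ← hz', map_smul, smul_smul, mul_comm]
      exact (rho_injective (ρ := ρ) _ (rho_injective (ρ := ρ) _ h3)).symm
    have hvc : k ∈ A₀ → c k = 0 := fun hk' => by
      by_contra hc0
      obtain ⟨t, ht⟩ := exists_sep (a := c k) (b := 0) hc0
      refine ht ?_
      have h4 := hv k hk' t
      rw [hfix t] at h4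
      rw [zero_mul, AddChar.map_zero_eq_one]
      have h5 : (psi F (c k * t) - 1) • v = 0 := by rw [sub_smul, one_smul, ← h4, sub_self]
      exact sub_eq_zero.1 ((smul_eq_zero.1 h5).resolve_right hv0)
    refine line_fixed hdim hv0 hv st hrest hE (fun g hg t => ?_) fun g hg hg' => ?_
    · rcases List.mem_cons.1 hg with rfl | hg
      · exact hfix t
      · exact hT g hg t
    · rcases List.mem_cons.1 hg' with rfl | hg'
      · exact hvc hg
      · exact hAT g hg hg'

end CfsgLib.CharsMore.EMinDeg
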