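import Cfsg.Agent.Lib.CharsMore.EMinDeg.Indep

/-!
# Sequences of shifts: families of distinct weights and the clearing of coordinates

A sequence is a list of pairs `(b, t)`: `x_b` changes the coordinate `t` by a multiple of the pivot.
-/

set_option autoImplicit false
set_option linter.unusedSectionVars false

namespace CfsgLib.CharsMore.EMinDeg

open Cfsg.Lie CfsgLib.Chev CfsgLib.CharsMore.G2MinDeg Module

variable {D : ChevalleyDatum} {A : Aux} {F : Type*} [Field F] [Fintype F]
  {V : Type*} [AddCommGroup V] [Module ℂ V]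
  {ρ : Representation ℂ ↥(D.group F) V} {h : Std D A}

/-- a sequence of shifts with parameters indexed by the targets -/
noncomputable def shiftsC (D : ChevalleyDatum) (A : Aux) {F : Type*} [Field F] :
    List (ℕ × ℕ) → (ℕ → F) → (ℕ → F) → ℕ → F
  | [], _, c => c
  | (b, t) :: st, a, c => shiftsC D A st a (shiftC D A b (a t) c)

/-- the coordinate `g` is moved by `x_b` only through `k` in `L` -/
noncomputable def srcB (A : Aux) (L : List ℕ) (b g : ℕ) : Bool :=
  Nat.beq b g || match addR A b g with
    | some (k, _) => L.elem k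
    | none => true

/-- the coordinate `g` is not moved by `x_b` when the support is in `supp` -/
noncomputable def keepB (A : Aux) (S supp : List ℕ) (b g : ℕ) : Bool :=
  S.elem g && (Nat.beq b g || match addR A b g with
    | some (k, _) => !supp.elem k
    | none => true)

/-- the support after a shift -/
noncomputable def grow (A : Aux) (S supp : List ℕ) (b : ℕ) : List ℕ :=
  supp ++ S.filter fun g => !Nat.beq b g && match addR A b g with
    | some (k, _) => supp.elem k
    | none => false

/-- the support after a sequence of shifts -/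
noncomputable def suppF (A : Aux) (S : List ℕ) : List (ℕ × ℕ) → List ℕ → List ℕ
  | [], supp => supp
  | (b, _) :: st, supp => suppF A S st (grow A S supp b)

/-- the pivot moves the target with a unit coefficient -/
noncomputable def hitB (A : Aux) (piv b t : ℕ) : Bool :=
  !Nat.beq b t && match addR A b t with
    | some (k, κ) => Nat.beq k piv && Nat.beq κ.natAbs 1
    | none => false

/-- the shift can be undone on the coordinates of `S` -/
noncomputable def flatB (A : Aux) (b : ℕ) (S : List ℕ) : Bool :=
  S.all fun g => match addR A b g with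
    | some (k, _) => !Nat.beq b k && (addR A b k).isNone
    | none => true

/-- the conditions making the parameters of a sequence recoverable -/
noncomputable def runB (D : ChevalleyDatum) (A : Aux) (strict : Bool) (S : List ℕ) (piv : ℕ) :
    List (ℕ × ℕ) → List ℕ → List ℕ → Bool
  | [], _, _ => true
  | (b, t) :: st, supp, K =>
    normB D A b S S && flatB A b S && K.elem piv && S.elem t && !K.elem t && hitB A piv b t &&
      K.all (keepB A S supp b) && (!strict || !supp.elem t) &&
      runB D A strict S piv st (grow A S supp b) (t :: K)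

/-- the weight vanishes outside the support -/
def Supp (S supp : List ℕ) (c : ℕ → F) : Prop := ∀ g ∈ S, g ∉ supp → c g = 0

lemma elem_of_mem {a : ℕ} {L : List ℕ} (h : a ∈ L) : L.elem a = true := List.elem_iff.2 h

lemma notMem_of_elem {a : ℕ} {L : List ℕ} (h : L.elem a = false) : a ∉ L := fun e => by
  rw [elem_of_mem e] at h
  exact Bool.false_ne_true h.symm

lemma target_mem {S : List ℕ} {b g k : ℕ} {κ : ℤ} (hn : normB D A b S S = true) (hg : g ∈ S)
    (hb : ¬ (Nat.beq b g = true)) (hk : addR A b g = some (k, κ)) : k ∈ S := by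
  simp only [normB, List.all_eq_true, Bool.and_eq_true, Bool.or_eq_true] at hn
  have := (hn g hg).2.resolve_left hb
  rw [hk] at this
  exact List.elem_iff.1 this

lemma shiftC_keep {S supp : List ℕ} {b g : ℕ} (hn : normB D A b S S = true)
    (hk : keepB A S supp b g = true) {c : ℕ → F} (hc : Supp S supp c) (a : F) :
    shiftC D A b a c g = c g := by
  simp only [keepB, Bool.and_eq_true, Bool.or_eq_true] at hk
  obtain ⟨hgS, hk⟩ := hk
  unfold shiftC
  split
  · rfl
  · rename_i hb
    replace hk := hk.resolve_left hb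
    split
    · rename_i k κ heq
      rw [heq] at hk
      simp only [Bool.not_eq_true'] at hk
      rw [hc k (target_mem hn (List.elem_iff.1 hgS) hb heq) (notMem_of_elem hk), mul_zero, sub_zero]
    · rfl

lemma supp_grow {S supp : List ℕ} {b : ℕ} (hn : normB D A b S S = true) {c : ℕ → F}
    (hc : Supp S supp c) (a : F) : Supp S (grow A S supp b) (shiftC D A b a c) := by
  intro g hg hns
  simp only [grow, List.mem_append, List.mem_filter, not_or, Bool.and_eq_true,
    Bool.not_eq_true', not_and] at hns
  obtain ⟨h1, h2⟩ := hns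
  unfold shiftC
  split
  · exact hc g hg h1
  · rename_i hb
    have h3 := h2 hg (Bool.eq_false_iff.2 hb)
    split
    · rename_i k κ heq
      rw [heq] at h3
      simp only [Bool.not_eq_true] at h3
      rw [hc g hg h1, hc k (target_mem hn hg hb heq) (notMem_of_elem h3), mul_zero, sub_zero]
    · exact hc g hg h1

lemma shiftC_congr {S : List ℕ} {b : ℕ} (hn : normB D A b S S = true) {c d : ℕ → F}
    (hcd : ∀ g ∈ S, c g = d g) (a : F) : ∀ g ∈ S, shiftC D A b a c g = shiftC D A b a d g := by
  intro g hg
  unfold shiftC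
  split
  · exact hcd g hg
  · rename_i hb
    split
    · rename_i k κ heq
      rw [hcd g hg, hcd k (target_mem hn hg hb heq)]
    · exact hcd g hg

lemma shiftC_inj {S : List ℕ} {b : ℕ} (hn : normB D A b S S = true) (hf : flatB A b S = true)
    {c d : ℕ → F} {a : F} (he : ∀ g ∈ S, shiftC D A b a c g = shiftC D A b a d g) :
    ∀ g ∈ S, c g = d g := by
  intro g hg
  have h1 := he g hg
  unfold shiftC at h1
  split at h1
  · exact h1
  · rename_i hb
    split at h1
    · rename_i k κ heq
      have hk := target_mem hn hg hb heq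
      have h2 := he k hk
      simp only [flatB, List.all_eq_true] at hf
      have h3 := hf g hg
      rw [heq] at h3
      simp only [Bool.and_eq_true, Bool.not_eq_true', Option.isNone_iff_eq_none] at h3
      simp only [shiftC, h3.1, h3.2, Bool.false_eq_true, if_false] at h2
      rw [h2] at h1
      exact sub_left_inj.1 h1
    · exact h1

lemma shift_hit {piv b t : ℕ} (ht : hitB A piv b t = true) :
    ∃ e : F, e ≠ 0 ∧ ∀ (c : ℕ → F) (a : F), shiftC D A b a c t = c t - e * a * c piv := by
  simp only [hitB, Bool.and_eq_true, Bool.not_eq_true'] at ht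
  obtain ⟨hb, ht⟩ := ht
  rcases hk : addR A b t with _ | ⟨k, κ⟩
  · rw [hk] at ht
    exact absurd ht Bool.false_ne_true
  · rw [hk] at ht
    simp only [Bool.and_eq_true] at ht
    refine ⟨κ, ?_, fun c a => ?_⟩
    · rcases Int.natAbs_eq_iff.1 (Nat.eq_of_beq_eq_true ht.2) with e | e <;> simp [e]
    · simp only [shiftC, hb, Bool.false_eq_true, if_false, hk, Nat.eq_of_beq_eq_true ht.1]

variable (D A) in
theorem run_supp {strict : Bool} {S : List ℕ} {piv : ℕ} :
    ∀ (st : List (ℕ × ℕ)) {supp K : List ℕ}, runB D A strict S piv st supp K = true →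
    ∀ (a : ℕ → F) {c : ℕ → F}, Supp S supp c →
      (∀ g ∈ K, shiftsC D A st a c g = c g) ∧ Supp S (suppF A S st supp) (shiftsC D A st a c)
  | [], supp, K, _, a, c, hc => ⟨fun _ _ => rfl, hc⟩
  | (b, t) :: st, supp, K, hb, a, c, hc => by
    simp only [runB, Bool.and_eq_true] at hb
    obtain ⟨h1, h2⟩ := run_supp st hb.2 a (supp_grow hb.1.1.1.1.1.1.1.1 hc (a t))
    refine ⟨fun g hg => ?_, h2⟩
    have hk := List.all_eq_true.1 hb.1.1.2 g hg
    show shiftsC D A st a _ g = c g
    rw [h1 g (List.mem_cons_of_mem _ hg), shiftC_keep hb.1.1.1.1.1.1.1.1 hk hc]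

theorem run_inj {strict : Bool} {S : List ℕ} {piv : ℕ} :
    ∀ (st : List (ℕ × ℕ)) {supp K : List ℕ}, runB D A strict S piv st supp K = true →
    ∀ {a a' c d : ℕ → F}, Supp S supp c → Supp S supp d → c piv = d piv → c piv ≠ 0 →
      (strict = false → ∀ g ∈ S, c g = d g) →
      (∀ g ∈ S, shiftsC D A st a c g = shiftsC D A st a' d g) →
      (∀ p ∈ st, a p.2 = a' p.2) ∧ ∀ g ∈ S, c g = d g
  | [], supp, K, _, a, a', c, d, _, _, _, _, _, he => ⟨by simp, he⟩
  | (b, t) :: st, supp, K, hb, a, a', c, d, hc, hd, hp, hp0, hs, he => by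
    simp only [runB, Bool.and_eq_true, Bool.or_eq_true, Bool.not_eq_true'] at hb
    obtain ⟨⟨⟨⟨⟨⟨⟨⟨hn, hf⟩, hpK⟩, htS⟩, -⟩, hhit⟩, hkeep⟩, hstr⟩, hrest⟩ := hb
    have hkp := List.all_eq_true.1 hkeep piv (List.elem_iff.1 hpK)
    have hc1 := supp_grow hn hc (a t)
    have hd1 := supp_grow hn hd (a' t)
    have hp1 : shiftC D A b (a t) c piv = shiftC D A b (a' t) d piv := by
      rw [shiftC_keep hn hkp hc, shiftC_keep hn hkp hd, hp]
    have hat : a t = a' t := by
      have e1 := (run_supp D A st hrest a hc1).1 t List.mem_cons_self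
      have e2 := (run_supp D A st hrest a' hd1).1 t List.mem_cons_self
      have h3 := he t (List.elem_iff.1 htS)
      change shiftsC D A st a _ t = shiftsC D A st a' _ t at h3
      rw [e1, e2] at h3
      obtain ⟨e, he0, hv⟩ := shift_hit (F := F) (D := D) hhit
      rw [hv, hv, ← hp] at h3
      have ht : c t = d t := by
        rcases hstr with hstr | hstr
        · exact hs hstr t (List.elem_iff.1 htS)
        · rw [hc t (List.elem_iff.1 htS) (notMem_of_elem hstr),
            hd t (List.elem_iff.1 htS) (notMem_of_elem hstr)]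
      rw [ht, sub_right_inj] at h3
      exact mul_left_cancel₀ he0 (mul_right_cancel₀ hp0 h3)
    have hp10 : shiftC D A b (a t) c piv ≠ 0 := by rwa [shiftC_keep hn hkp hc]
    obtain ⟨h1, h2⟩ := run_inj st hrest hc1 hd1 hp1 hp10
      (fun e => by rw [← hat]; exact shiftC_congr hn (hs e) (a t)) he
    refine ⟨fun p hp => ?_, ?_⟩
    · rcases List.mem_cons.1 hp with rfl | hp
      · exact hat
      · exact h1 p hp
    · rw [← hat] at h2
      exact shiftC_inj hn hf h2

variable [FiniteDimensional ℂ V]

theorem finrank_shift_le {S : List ℕ} {b : ℕ} (hn : normB D A b S S = true) (a : F) (c : ℕ → F) :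
    finrank ℂ (W ρ h S c) ≤ finrank ℂ (W ρ h S (shiftC D A b a c)) :=
  finrank_le_of_maps (X h b a) fun _ hv => X_mem hn hv a

theorem run_finrank {strict : Bool} {S : List ℕ} {piv : ℕ} :
    ∀ (st : List (ℕ × ℕ)) {supp K : List ℕ}, runB D A strict S piv st supp K = true →
    ∀ (a c : ℕ → F), finrank ℂ (W ρ h S c) ≤ finrank ℂ (W ρ h S (shiftsC D A st a c))
  | [], _, _, _, _, _ => le_rfl
  | (b, t) :: st, supp, K, hb, a, c => by
    simp only [runB, Bool.and_eq_true] at hb
    exact (finrank_shift_le hb.1.1.1.1.1.1.1.1 (a t) c).trans (run_finrank st hb.2 a _)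

/-- the conditions for clearing the targets -/
noncomputable def clearB (D : ChevalleyDatum) (A : Aux) (S : List ℕ) (piv : ℕ) :
    List (ℕ × ℕ) → List ℕ → Bool
  | [], _ => true
  | (b, t) :: st, Z => normB D A b S S && hitB A piv b t && srcB A Z b piv && Z.all (srcB A Z b) &&
      clearB D A S piv st (t :: Z)

lemma shiftC_src {Z : List ℕ} {b g : ℕ} (hk : srcB A Z b g = true) {c : ℕ → F}
    (hc : ∀ z ∈ Z, c z = 0) (a : F) : shiftC D A b a c g = c g := by
  simp only [srcB, Bool.or_eq_true] at hk
  unfold shiftC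
  split
  · rfl
  · rename_i hb
    replace hk := hk.resolve_left hb
    split
    · rename_i k κ heq
      rw [heq] at hk
      rw [hc k (List.elem_iff.1 hk), mul_zero, sub_zero]
    · rfl

/-- the targets can be cleared -/
theorem exists_clear {S : List ℕ} {piv : ℕ} :
    ∀ (st : List (ℕ × ℕ)) {Z : List ℕ}, clearB D A S piv st Z = true → ∀ {c : ℕ → F},
    (∀ z ∈ Z, c z = 0) → c piv ≠ 0 →
    ∃ c', c' piv = c piv ∧ (∀ z ∈ Z, c' z = 0) ∧ (∀ p ∈ st, c' p.2 = 0) ∧
      finrank ℂ (W ρ h S c) ≤ finrank ℂ (W ρ h S c')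
  | [], Z, _, c, hc, _ => ⟨c, rfl, hc, by simp, le_rfl⟩
  | (b, t) :: st, Z, hb, c, hc, hp => by
    simp only [clearB, Bool.and_eq_true] at hb
    obtain ⟨⟨⟨⟨hn, hhit⟩, hpiv⟩, hZ⟩, hrest⟩ := hb
    obtain ⟨e, he, hlin⟩ := shift_hit (F := F) (D := D) hhit
    set a := c t / (e * c piv) with ha
    have hz : ∀ z ∈ t :: Z, shiftC D A b a c z = 0 := fun z hz => by
      rcases List.mem_cons.1 hz with rfl | hz
      · rw [hlin, ha]
        field_simp
        ring
      · rw [shiftC_src (List.all_eq_true.1 hZ z hz) hc, hc z hz]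
    have hpv := shiftC_src (D := D) hpiv hc a
    obtain ⟨c', h1, h2, h3, h4⟩ := exists_clear st hrest hz (by rwa [hpv])
    refine ⟨c', h1.trans hpv, fun z hz => h2 z (List.mem_cons_of_mem _ hz), fun p hp' => ?_,
      (finrank_shift_le hn a c).trans h4⟩
    rcases List.mem_cons.1 hp' with rfl | hp'
    · exact h2 _ List.mem_cons_self
    · exact h3 p hp'

end CfsgLib.CharsMore.EMinDeg
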