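import Cfsg.Agent.Lib.CharsMore.EMinDeg.Move

/-!
# One stage: the weights of a radical on the fixed space of the previous radicals

A weight `c` with `c top ≠ 0` on the radical `R` gives either many weights (when a root orthogonal to `top`
is involved) or the full orbit of the weight supported at `top`.
-/

set_option autoImplicit false
set_option linter.unusedSectionVars false

namespace CfsgLib.CharsMore.EMinDeg

open Cfsg.Lie CfsgLib.Chev CfsgLib.CharsMore.G2MinDeg Module

/-- the data of a stage -/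
structure Stage where
  /-- roots acting trivially -/
  P : List ℕ
  /-- the radical -/
  R : List ℕ
  /-- the highest root of the radical -/
  top : ℕ
  /-- a fundamental torus moving `top` -/
  tj : ℕ
  /-- a word carrying the witness root to `top` -/
  wmove : List ℕ
  /-- the orbit: root, word from `top`, shifts -/
  cls : List (ℕ × List ℕ × List (ℕ × ℕ))
  /-- the shifts from `top` -/
  clr : List (ℕ × ℕ)
  /-- the roots orthogonal to `top` -/
  orth : List ℕ
  /-- the first of them -/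
  g0 : ℕ
  /-- words to `g0` -/
  ow : List (ℕ × List ℕ)
  /-- the shifts from `g0` -/
  st1 : List (ℕ × ℕ)
  /-- roots led into `orth` by one shift -/
  weird : List (ℕ × ℕ × ℕ)

namespace Stage

/-- all roots of the stage -/
def S (s : Stage) : List ℕ := s.P ++ s.R

/-- the coordinates cleared -/
def Z (s : Stage) : List ℕ := s.P ++ s.clr.map Prod.snd

/-- the coordinates left -/
def rest (s : Stage) : List ℕ := s.orth ++ s.weird.map Prod.fst

end Stage

variable (D : ChevalleyDatum) (A : Aux)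

/-- basic conditions -/
noncomputable def baseB (s : Stage) : Bool :=
  s.S.all (fun g => Nat.blt g D.nroots) && s.R.elem s.top && !s.P.elem s.top && Nat.blt s.tj D.rank &&
    Nat.beq (A.cart s.tj s.top).natAbs 1 && clearB D A s.S s.top s.clr s.P &&
    s.S.all (fun g => Nat.beq g s.top || s.Z.elem g || s.rest.elem g) &&
    s.Z.all (fun z => s.S.elem z && !(s.top :: s.rest).elem z)

/-- the conditions for a class -/
noncomputable def clsB (s : Stage) (p : ℕ × List ℕ × List (ℕ × ℕ)) : Bool :=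
  wordB D p.2.1 s.S && ontoB A p.2.1 s.S s.S && Nat.beq (wimg A p.2.1 s.top) p.1 && s.S.elem p.1 &&
    runB D A true s.S p.1 p.2.2 [p.1] [p.1] && decide (p.2.2.map Prod.snd).Nodup &&
    s.P.all (fun z => !(suppF A s.S p.2.2 [p.1]).elem z)

/-- classes are separated -/
noncomputable def sepB (s : Stage) : Bool :=
  (List.range s.cls.length).all fun i => (List.range s.cls.length).all fun j => Nat.beq i j ||
    (!(suppF A s.S (s.cls.getD i (0, [], [])).2.2 [(s.cls.getD i (0, [], [])).1]).elem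
        (s.cls.getD j (0, [], [])).1 ||
      !(suppF A s.S (s.cls.getD j (0, [], [])).2.2 [(s.cls.getD j (0, [], [])).1]).elem
        (s.cls.getD i (0, [], [])).1)

/-- the conditions for a word to `g0` -/
noncomputable def owB (s : Stage) (p : ℕ × List ℕ) : Bool :=
  wordB D p.2 s.S && ontoB A p.2 s.S s.S && Nat.beq (wimg A p.2 p.1) s.g0 &&
    Nat.beq (wimg A p.2 s.top) s.top && ontoB A p.2 s.Z s.Z && s.S.elem p.1 && !Nat.beq p.1 s.top

/-- the conditions for a root led into `orth` -/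
noncomputable def weirdB (s : Stage) (p : ℕ × ℕ × ℕ) : Bool :=
  runB D A true s.S p.1 [(p.2.1, p.2.2)] (s.top :: s.weird.map Prod.fst) [s.top, p.1] &&
    s.orth.elem p.2.2 && s.S.elem p.2.2 &&
    (suppF A s.S [(p.2.1, p.2.2)] (s.top :: s.weird.map Prod.fst)).all
      fun g => (s.top :: s.rest).elem g

/-- the conditions for the many weights -/
noncomputable def bigB (s : Stage) : Bool :=
  s.orth.all (fun g => s.ow.any fun p => Nat.beq p.1 g && owB D A s p) &&
    runB D A false s.S s.g0 s.st1 (s.top :: s.rest) [s.g0, s.top] &&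
    runB D A true s.S s.top s.clr (s.top :: s.rest) [s.top] &&
    (suppF A s.S s.st1 (s.top :: s.rest)).all (fun g => (s.top :: s.rest).elem g) &&
    decide (s.st1.map Prod.snd).Nodup && decide (s.clr.map Prod.snd).Nodup &&
    s.P.all (fun z => !(suppF A s.S s.clr (s.top :: s.rest)).elem z) &&
    s.weird.all (weirdB D A s)

/-- all conditions of a stage -/
noncomputable def stageB (s : Stage) : Bool :=
  baseB D A s && s.cls.all (clsB D A s) && sepB A s && (s.rest.isEmpty || bigB D A s) &&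
    extB D A (s.R.erase s.top) (s.top :: s.P) s.P

variable {D A} {F : Type*} [Field F] [Fintype F]
  {V : Type*} [AddCommGroup V] [Module ℂ V] [FiniteDimensional ℂ V]
  {ρ : Representation ℂ ↥(D.group F) V} {h : Std D A}

/-- parameters as functions -/
noncomputable def param {ts : List ℕ} (a : {x // x ∈ ts.toFinset} → F) (t : ℕ) : F :=
  if ht : t ∈ ts.toFinset then a ⟨t, ht⟩ else 0

lemma param_inj {st : List (ℕ × ℕ)} {a a' : {x // x ∈ (st.map Prod.snd).toFinset} → F}
    (he : ∀ p ∈ st, param a p.2 = param a' p.2) : a = a' := by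
  funext ⟨t, ht⟩
  obtain ⟨p, hp, rfl⟩ := List.mem_map.1 (List.mem_toFinset.1 ht)
  have := he p hp
  simpa [param, ht] using this

lemma one_le_finrank {S : List ℕ} {c : ℕ → F} (h0 : W ρ h S c ≠ ⊥) :
    1 ≤ finrank ℂ (W ρ h S c) := Submodule.one_le_finrank_iff.2 h0

/-- one step gives many weights -/
theorem big_le {s : Stage} (hb : bigB D A s = true)
    (hTop : s.top ∈ s.S) {c : ℕ → F} (hc : Supp s.S (s.top :: s.rest) c) (ht : c s.top ≠ 0)
    (hg : c s.g0 ≠ 0) (h0 : W ρ h s.S c ≠ ⊥) :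
    Fintype.card F ^ (s.st1.length + s.clr.length) ≤ finrank ℂ (W ρ h s.P fun _ => (0 : F)) := by
  classical
  simp only [bigB, Bool.and_eq_true, decide_eq_true_eq] at hb
  obtain ⟨⟨⟨⟨⟨⟨⟨-, hr1⟩, hr2⟩, hs1⟩, hn1⟩, hn2⟩, hP⟩, -⟩ := hb
  let I := ({x // x ∈ (s.st1.map Prod.snd).toFinset} → F) ×
    ({x // x ∈ (s.clr.map Prod.snd).toFinset} → F)
  let c1 : I → ℕ → F := fun i => shiftsC D A s.st1 (param i.1) c
  let c2 : I → ℕ → F := fun i => shiftsC D A s.clr (param i.2) (c1 i)
  have hc1 : ∀ i, Supp s.S (s.top :: s.rest) (c1 i) := fun i g hg hgn =>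
    (run_supp D A s.st1 hr1 (param i.1) hc).2 g hg fun hg' =>
      hgn (List.elem_iff.1 (List.all_eq_true.1 hs1 g hg'))
  have htop : ∀ i, c1 i s.top = c s.top := fun i =>
    (run_supp D A s.st1 hr1 (param i.1) hc).1 s.top (by simp)
  have hpos : ∀ i, 1 ≤ finrank ℂ (W ρ h s.S (c2 i)) := fun i =>
    ((one_le_finrank h0).trans (run_finrank s.st1 hr1 _ c)).trans (run_finrank s.clr hr2 _ _)
  have hle : ∀ i, W ρ h s.S (c2 i) ≤ W ρ h s.P fun _ => (0 : F) := fun i =>
    W_mono (fun g hg => List.mem_append_left _ hg) fun g hg => by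
      refine ((run_supp D A s.clr hr2 (param i.2) (hc1 i)).2 g (List.mem_append_left _ hg) ?_).symm
      have := List.all_eq_true.1 hP g hg
      exact notMem_of_elem (by simpa using this)
  have hsum := sum_le (ι := I) (S := s.S) c2 _ hle fun i j hij => by
    by_contra hcon
    push Not at hcon
    refine hij ?_
    obtain ⟨e2, e1⟩ := run_inj s.clr hr2 (hc1 i) (hc1 j) (by rw [htop, htop]) (by rw [htop]; exact ht)
      (fun e => absurd e (by simp)) hcon
    obtain ⟨e0, -⟩ := run_inj s.st1 hr1 hc hc rfl hg (fun _ g _ => rfl) e1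
    exact Prod.ext (param_inj e0) (param_inj e2)
  refine le_trans ?_ ((Finset.card_nsmul_le_sum _ _ 1 fun i _ => hpos i).trans hsum)
  rw [smul_eq_mul, mul_one, Finset.card_univ]
  simp only [I, Fintype.card_prod, Fintype.card_fun, Fintype.card_coe]
  rw [List.toFinset_card_of_nodup hn1, List.toFinset_card_of_nodup hn2, List.length_map,
    List.length_map, ← pow_add]

/-- the orbit of the weight supported at `top` -/
theorem orbit_le {s : Stage} (hb : stageB D A s = true) {c : ℕ → F}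
    (hc : ∀ g ∈ s.S, g ≠ s.top → c g = 0) (ht : c s.top ≠ 0) (h0 : W ρ h s.S c ≠ ⊥) :
    (∑ i : Fin s.cls.length, (Fintype.card F - 1) * Fintype.card F ^ (s.cls.get i).2.2.length) +
      finrank ℂ (W ρ h s.S fun _ => (0 : F)) ≤ finrank ℂ (W ρ h s.P fun _ => (0 : F)) := by
  classical
  simp only [stageB, baseB, Bool.and_eq_true] at hb
  obtain ⟨⟨⟨⟨⟨⟨⟨⟨⟨⟨⟨hlt, htR⟩, -⟩, htj⟩, hcart⟩, -⟩, -⟩, -⟩, hcls⟩, hsep⟩, -⟩, -⟩ := hb
  have hlt' : ∀ g ∈ s.S, g < D.nroots := fun g hg => by
    simpa [Nat.blt_eq] using List.all_eq_true.1 hlt g hg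
  have htS : s.top ∈ s.S := List.mem_append_right _ (List.elem_iff.1 htR)
  let I := Σ i : Fin s.cls.length,
    Fˣ × ({x // x ∈ ((s.cls.get i).2.2.map Prod.snd).toFinset} → F)
  have hdata : ∀ (i : Fin s.cls.length) (τ : Fˣ), ∃ c' : ℕ → F,
      Supp s.S [(s.cls.get i).1] c' ∧ c' (s.cls.get i).1 = τ ∧ 1 ≤ finrank ℂ (W ρ h s.S c') := by
    intro i τ
    have hp := List.all_eq_true.1 hcls _ (List.get_mem s.cls i)
    simp only [clsB, Bool.and_eq_true] at hp
    obtain ⟨⟨⟨⟨⟨⟨hw, hon⟩, himg⟩, -⟩, -⟩, -⟩, -⟩ := hp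
    have hwr := (wordB_spec hw).1
    obtain ⟨e, he, hv⟩ := moveC_wimg (F := F) h (s.cls.get i).2.1 hwr (hlt' _ htS)
    obtain ⟨c1, h1, h2, h3⟩ := exists_scale (ρ := ρ) (h := h) hlt' (by simpa [Nat.blt_eq] using htj) hcart ht
      (τ := e * τ) (mul_ne_zero (sq_one_ne he) τ.ne_zero)
    refine ⟨moveC A (s.cls.get i).2.1 c1, fun g hg hgn => ?_, ?_,
      ((one_le_finrank h0).trans h3).trans (finrank_word_le hw hon c1)⟩
    · obtain ⟨g0, hg0, rfl⟩ := ontoB_spec hon hg
      refine moveC_zero h hwr (hlt' _ hg0) (h2 _ (hc g0 hg0 fun e0 => hgn ?_))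
      rw [e0, Nat.eq_of_beq_eq_true himg]
      exact List.mem_singleton.2 rfl
    · rw [← Nat.eq_of_beq_eq_true himg, hv, h1, ← mul_assoc, he, one_mul]
  choose cc hcs hcv hcd using hdata
  let f : Option I → ℕ → F := fun o => o.elim (fun _ => 0) fun i =>
    shiftsC D A (s.cls.get i.1).2.2 (param i.2.2) (cc i.1 i.2.1)
  have hrun : ∀ i : Fin s.cls.length, runB D A true s.S (s.cls.get i).1 (s.cls.get i).2.2
      [(s.cls.get i).1] [(s.cls.get i).1] = true ∧ ((s.cls.get i).2.2.map Prod.snd).Nodup ∧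
      (∀ z ∈ s.P, z ∉ suppF A s.S (s.cls.get i).2.2 [(s.cls.get i).1]) ∧
      (s.cls.get i).1 ∈ s.S := by
    intro i
    have hp := List.all_eq_true.1 hcls _ (List.get_mem s.cls i)
    simp only [clsB, Bool.and_eq_true, decide_eq_true_eq] at hp
    refine ⟨hp.1.1.2, hp.1.2, fun z hz => notMem_of_elem ?_, List.elem_iff.1 hp.1.1.1.2⟩
    simpa using List.all_eq_true.1 hp.2 z hz
  have hpiv : ∀ i : I, f (some i) (s.cls.get i.1).1 = i.2.1 := fun i =>
    ((run_supp D A _ (hrun i.1).1 (param i.2.2) (hcs i.1 i.2.1)).1 _ (by simp)).trans (hcv i.1 i.2.1)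
  have hsupp : ∀ i : I, Supp s.S (suppF A s.S (s.cls.get i.1).2.2 [(s.cls.get i.1).1]) (f (some i)) :=
    fun i => (run_supp D A _ (hrun i.1).1 (param i.2.2) (hcs i.1 i.2.1)).2
  have hle : ∀ o, W ρ h s.S (f o) ≤ W ρ h s.P fun _ => (0 : F) := fun o =>
    W_mono (fun g hg => List.mem_append_left _ hg) fun g hg => by
      cases o with
      | none => rfl
      | some i => exact (hsupp i g (List.mem_append_left _ hg) ((hrun i.1).2.2.1 g hg)).symm
  have hsum := sum_le (ι := Option I) (S := s.S) f _ hle fun o o' hoo => by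
    match o, o' with
    | none, none => exact absurd rfl hoo
    | none, some i => exact ⟨_, (hrun i.1).2.2.2, by rw [hpiv]; exact (Units.ne_zero _).symm⟩
    | some i, none => exact ⟨_, (hrun i.1).2.2.2, by rw [hpiv]; exact Units.ne_zero _⟩
    | some ⟨i, τ, a⟩, some ⟨j, τ', a'⟩ =>
      by_cases hij : i = j
      · subst hij
        by_contra hcon
        push Not at hcon
        have hτ : τ = τ' := Units.ext (by
          have h3 := hcon _ (hrun i).2.2.2
          rwa [hpiv ⟨i, τ, a⟩, hpiv ⟨i, τ', a'⟩] at h3)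
        subst hτ
        have hinj := (run_inj _ (hrun i).1 (hcs i τ) (hcs i τ) rfl
          (by rw [hcv]; exact τ.ne_zero) (fun e => absurd e (by simp)) hcon).1
        exact hoo (by obtain rfl := param_inj hinj; rfl)
      · have hh : ((suppF A s.S (s.cls.get i).2.2 [(s.cls.get i).1]).elem (s.cls.get j).1 = false) ∨
            ((suppF A s.S (s.cls.get j).2.2 [(s.cls.get j).1]).elem (s.cls.get i).1 = false) := by
          have h3 := List.all_eq_true.1 hsep i.val (List.mem_range.2 i.isLt)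
          have h4 := List.all_eq_true.1 h3 j.val (List.mem_range.2 j.isLt)
          simp only [Bool.or_eq_true, Bool.not_eq_true', List.getD_eq_getElem _ _ i.isLt,
            List.getD_eq_getElem _ _ j.isLt, ← List.get_eq_getElem] at h4
          exact h4.resolve_left fun e => hij (Fin.ext (Nat.eq_of_beq_eq_true e))
        rcases hh with hh | hh
        · refine ⟨_, (hrun j).2.2.2, ?_⟩
          rw [hsupp ⟨i, τ, a⟩ _ (hrun j).2.2.2 (notMem_of_elem hh), hpiv ⟨j, τ', a'⟩]
          exact (Units.ne_zero _).symm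
        · refine ⟨_, (hrun i).2.2.2, ?_⟩
          rw [hsupp ⟨j, τ', a'⟩ _ (hrun i).2.2.2 (notMem_of_elem hh), hpiv ⟨i, τ, a⟩]
          exact Units.ne_zero _
  rw [Fintype.sum_option] at hsum
  refine le_trans ?_ hsum
  rw [add_comm]
  refine add_le_add le_rfl ?_
  have hone : ∀ i : I, 1 ≤ finrank ℂ (W ρ h s.S (f (some i))) := fun i =>
    (hcd i.1 i.2.1).trans (run_finrank _ (hrun i.1).1 _ _)
  refine le_trans ?_ (Finset.card_nsmul_le_sum _ _ 1 fun i _ => hone i)
  rw [smul_eq_mul, mul_one, Finset.card_univ, Fintype.card_sigma]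
  refine le_of_eq (Finset.sum_congr rfl fun i _ => ?_)
  rw [Fintype.card_prod, Fintype.card_units, Fintype.card_fun, Fintype.card_coe,
    List.toFinset_card_of_nodup (hrun i).2.1, List.length_map]

/-- one stage -/
theorem stage_bound {s : Stage} (hb : stageB D A s = true) {c : ℕ → F}
    (hc : ∀ z ∈ s.P, c z = 0) (ht : c s.top ≠ 0) (h0 : W ρ h (s.top :: s.P) c ≠ ⊥) :
    (s.rest ≠ [] ∧
      Fintype.card F ^ (s.st1.length + s.clr.length) ≤ finrank ℂ (W ρ h s.P fun _ => (0 : F))) ∨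
    (∑ i : Fin s.cls.length, (Fintype.card F - 1) * Fintype.card F ^ (s.cls.get i).2.2.length) +
      finrank ℂ (W ρ h s.S fun _ => (0 : F)) ≤ finrank ℂ (W ρ h s.P fun _ => (0 : F)) := by
  classical
  have hb' := hb
  simp only [stageB, baseB, Bool.and_eq_true] at hb
  obtain ⟨⟨⟨⟨⟨⟨⟨⟨⟨⟨⟨hlt, htR⟩, -⟩, -⟩, -⟩, hclr⟩, hcov⟩, hdisj⟩, -⟩, -⟩, hbig⟩, hext⟩ := hb
  have hlt' : ∀ g ∈ s.S, g < D.nroots := fun g hg => by
    simpa [Nat.blt_eq] using List.all_eq_true.1 hlt g hg
  have htS : s.top ∈ s.S := List.mem_append_right _ (List.elem_iff.1 htR)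
  obtain ⟨c0, h1, h2, h3⟩ := exists_weight _ hext hc h0
  have h3' : W ρ h s.S c0 ≠ ⊥ := by
    refine fun e => h3 (le_bot_iff.1 (le_of_le_of_eq (W_mono (fun g hg => ?_) fun _ _ => rfl) e))
    simp only [List.mem_append, List.mem_reverse, List.mem_cons]
    rcases List.mem_append.1 hg with hg | hg
    · exact Or.inr (Or.inr hg)
    · by_cases e0 : g = s.top
      · exact Or.inr (Or.inl e0)
      · exact Or.inl ((List.mem_erase_of_ne e0).2 hg)
  have ht0 : c0 s.top ≠ 0 := by rwa [h1 s.top List.mem_cons_self]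
  obtain ⟨c1, g1, g2, g3, g4⟩ := exists_clear (ρ := ρ) (h := h) s.clr hclr h2 ht0
  have h10 : W ρ h s.S c1 ≠ ⊥ := Submodule.one_le_finrank_iff.1 ((one_le_finrank h3').trans g4)
  have hZ : ∀ z ∈ s.Z, c1 z = 0 := fun z hz => by
    rcases List.mem_append.1 hz with hz | hz
    · exact g2 z hz
    · obtain ⟨p, hp, rfl⟩ := List.mem_map.1 hz
      exact g3 p hp
  have hs1 : Supp s.S (s.top :: s.rest) c1 := fun g hg hgn => by
    have h5 := List.all_eq_true.1 hcov g hg
    simp only [Bool.or_eq_true] at h5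
    rcases h5 with (h5 | h5) | h5
    · exact absurd (List.mem_cons.2 (Or.inl (Nat.eq_of_beq_eq_true h5))) hgn
    · exact hZ g (List.elem_iff.1 h5)
    · exact absurd (List.mem_cons_of_mem _ (List.elem_iff.1 h5)) hgn
  by_cases hrest : ∀ g ∈ s.rest, g ∈ s.S → g ≠ s.top → c1 g = 0
  · right
    refine orbit_le hb' (fun g hg hgt => ?_) (by rwa [g1]) h10
    by_cases hgr : g ∈ s.rest
    · exact hrest g hgr hg hgt
    · exact hs1 g hg (by simp [hgt, hgr])
  push Not at hrest
  obtain ⟨g, hgr, hgS, hgt, hgne⟩ := hrest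
  left
  refine ⟨fun e => List.not_mem_nil (e ▸ hgr), ?_⟩
  simp only [Bool.or_eq_true, List.isEmpty_iff] at hbig
  rcases hbig with hbig | hbig
  · rw [hbig] at hgr
    exact absurd hgr List.not_mem_nil
  suffices main : ∀ (c : ℕ → F), Supp s.S (s.top :: s.rest) c → c s.top ≠ 0 →
      W ρ h s.S c ≠ ⊥ → (∀ z ∈ s.Z, z ∈ s.S → c z = 0) → (∃ g ∈ s.orth, g ∈ s.S ∧ c g ≠ 0) →
      Fintype.card F ^ (s.st1.length + s.clr.length) ≤ finrank ℂ (W ρ h s.P fun _ => (0 : F)) by
    by_cases ho : ∃ g ∈ s.orth, g ∈ s.S ∧ c1 g ≠ 0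
    · exact main c1 hs1 (by rwa [g1]) h10 (fun z hz _ => hZ z hz) ho
    push Not at ho
    have hgw : g ∈ s.weird.map Prod.fst := (List.mem_append.1 hgr).resolve_left fun e =>
      hgne (ho g e hgS)
    obtain ⟨p, hp, rfl⟩ := List.mem_map.1 hgw
    simp only [bigB, Bool.and_eq_true] at hbig
    have hw := List.all_eq_true.1 hbig.2 p hp
    simp only [weirdB, Bool.and_eq_true] at hw
    obtain ⟨⟨⟨hrun, htor⟩, htS'⟩, hsub⟩ := hw
    have hsw : Supp s.S (s.top :: s.weird.map Prod.fst) c1 := fun g' hg' hgn => by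
      by_cases hgo : g' ∈ s.orth
      · exact ho g' hgo hg'
      · refine hs1 g' hg' fun e => hgn ?_
        rcases List.mem_cons.1 e with e | e
        · exact List.mem_cons.2 (Or.inl e)
        · exact List.mem_cons_of_mem _ ((List.mem_append.1 e).resolve_left hgo)
    set c2 := shiftsC D A [(p.2.1, p.2.2)] (fun _ => (1 : F)) c1
    obtain ⟨k1, k2⟩ := run_supp D A _ hrun (fun _ => (1 : F)) hsw
    have hs2 : Supp s.S (s.top :: s.rest) c2 := fun g' hg' hgn =>
      k2 g' hg' fun e => hgn (List.elem_iff.1 (List.all_eq_true.1 hsub g' e))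
    refine main c2 hs2 (by rw [show c2 s.top = c1 s.top from k1 s.top (by simp), g1]; exact ht0)
      (Submodule.one_le_finrank_iff.1 ((one_le_finrank h10).trans (run_finrank _ hrun _ c1)))
      (fun z hz hzS => hs2 z hzS (notMem_of_elem (by
        have := List.all_eq_true.1 hdisj z hz
        simp only [Bool.and_eq_true, Bool.not_eq_true'] at this
        exact this.2)))
      ⟨p.2.2, List.elem_iff.1 htor, List.elem_iff.1 htS', ?_⟩
    simp only [runB, Bool.and_eq_true, Bool.or_eq_true, Bool.not_eq_true', Bool.not_true,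
      Bool.false_eq_true, false_or] at hrun
    obtain ⟨⟨⟨⟨⟨⟨-, -⟩, -⟩, hhit⟩, -⟩, hts⟩, -⟩ := hrun
    obtain ⟨e, he, hv⟩ := shift_hit (F := F) (D := D) hhit
    show shiftC D A p.2.1 1 c1 p.2.2 ≠ 0
    rw [hv, hsw p.2.2 (List.elem_iff.1 htS') (notMem_of_elem hts), zero_sub, neg_ne_zero, mul_one]
    exact mul_ne_zero he hgne
  intro c hcs hct hc0 hcz hgo
  obtain ⟨g, hgo, hgS, hgne⟩ := hgo
  have hbig' := hbig
  simp only [bigB, Bool.and_eq_true] at hbig'
  have h5 := List.all_eq_true.1 hbig'.1.1.1.1.1.1.1 g hgo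
  simp only [List.any_eq_true, Bool.and_eq_true] at h5
  obtain ⟨p, -, hpg, hp⟩ := h5
  obtain rfl := Nat.eq_of_beq_eq_true hpg
  simp only [owB, Bool.and_eq_true] at hp
  obtain ⟨⟨⟨⟨⟨⟨hw, hon⟩, hig⟩, hit⟩, honZ⟩, -⟩, -⟩ := hp
  have hwr := (wordB_spec hw).1
  refine big_le hbig htS (c := moveC A p.2 c) (fun z hz hzn => ?_) ?_ ?_
    (Submodule.one_le_finrank_iff.1 ((one_le_finrank hc0).trans (finrank_word_le hw hon c)))
  · have hzZ : z ∈ s.Z := by
      have h6 := List.all_eq_true.1 hcov z hz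
      simp only [Bool.or_eq_true] at h6
      rcases h6 with (h6 | h6) | h6
      · exact absurd (List.mem_cons.2 (Or.inl (Nat.eq_of_beq_eq_true h6))) hzn
      · exact List.elem_iff.1 h6
      · exact absurd (List.mem_cons_of_mem _ (List.elem_iff.1 h6)) hzn
    obtain ⟨z0, hz0, rfl⟩ := ontoB_spec honZ hzZ
    have hz0S : z0 ∈ s.S := by
      have h7 := List.all_eq_true.1 hdisj z0 hz0
      simp only [Bool.and_eq_true] at h7
      exact List.elem_iff.1 h7.1
    exact moveC_zero h hwr (hlt' _ hz0S) (hcz _ hz0 hz0S)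
  · obtain ⟨e, he, hv⟩ := moveC_wimg (F := F) h p.2 hwr (hlt' _ htS)
    rw [← Nat.eq_of_beq_eq_true hit, hv]
    exact mul_ne_zero (sq_one_ne he) hct
  · obtain ⟨e, he, hv⟩ := moveC_wimg (F := F) h p.2 hwr (hlt' _ hgS)
    rw [← Nat.eq_of_beq_eq_true hig, hv]
    exact mul_ne_zero (sq_one_ne he) hgne

end CfsgLib.CharsMore.EMinDeg
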